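import Mathlib
import Cfsg.Agent.H145.SLTwo

/-!
# S3828, `PSL₂(q)`: traces of commutators in `SL₂(q)` (helper541)
-/

set_option autoImplicit false

namespace Cfsg.Agent.H541.CrowPsl2

open Matrix Polynomial Cfsg.Agent.H145.SLTwo

variable {F : Type*} [Field F]

/-- the trace -/
def tr (A : SpecialLinearGroup (Fin 2) F) : F := Matrix.trace (A : Matrix (Fin 2) (Fin 2) F)

theorem tr_def (A : SpecialLinearGroup (Fin 2) F) : tr A = A 0 0 + A 1 1 := Matrix.trace_fin_two _

theorem det_eq (A : SpecialLinearGroup (Fin 2) F) : A 0 0 * A 1 1 - A 0 1 * A 1 0 = 1 := by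
  have := A.2
  rw [Matrix.det_fin_two] at this
  exact this

theorem tr_conj (g A : SpecialLinearGroup (Fin 2) F) : tr (g * A * g⁻¹) = tr A := trace_conj g A

theorem tr_neg (A : SpecialLinearGroup (Fin 2) F) : tr (-A) = - tr A := by
  rw [tr_def, tr_def, Matrix.SpecialLinearGroup.coe_neg, Matrix.neg_apply, Matrix.neg_apply]
  ring

theorem tr_one : tr (1 : SpecialLinearGroup (Fin 2) F) = 2 := by
  rw [tr_def]
  simp
  norm_num

/-- the trace of a commutator -/
theorem tr_comm (A B : SpecialLinearGroup (Fin 2) F) : tr (A⁻¹ * B⁻¹ * A * B) =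
    tr A ^ 2 + tr B ^ 2 + tr (A * B) ^ 2 - tr A * tr B * tr (A * B) - 2 := by
  have hA := det_eq A
  have hB := det_eq B
  simp only [tr_def, Matrix.SpecialLinearGroup.coe_mul, Matrix.SpecialLinearGroup.coe_inv, Matrix.adjugate_fin_two,
    Matrix.mul_apply, Fin.sum_univ_two, Matrix.of_apply, Matrix.cons_val', Matrix.cons_val_zero, Matrix.cons_val_one,
    Matrix.cons_val_fin_one]
  obtain ⟨a, ha⟩ : ∃ a, a = A 0 0 := ⟨_, rfl⟩
  obtain ⟨b, hb⟩ : ∃ a, a = A 0 1 := ⟨_, rfl⟩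
  obtain ⟨c, hc⟩ : ∃ a, a = A 1 0 := ⟨_, rfl⟩
  obtain ⟨d, hd⟩ : ∃ a, a = A 1 1 := ⟨_, rfl⟩
  obtain ⟨a', ha'⟩ : ∃ a, a = B 0 0 := ⟨_, rfl⟩
  obtain ⟨b', hb'⟩ : ∃ a, a = B 0 1 := ⟨_, rfl⟩
  obtain ⟨c', hc'⟩ : ∃ a, a = B 1 0 := ⟨_, rfl⟩
  obtain ⟨d', hd'⟩ : ∃ a, a = B 1 1 := ⟨_, rfl⟩
  simp only [← ha, ← hb, ← hc, ← hd, ← ha', ← hb', ← hc', ← hd'] at hA hB ⊢
  linear_combination ((a' + d') ^ 2 - 2) * hA + ((a + d) ^ 2 - 2 * (a * d - b * c)) * hB

/-- a conic -/
theorem conic [Fintype F] {x : F} (hx : x ^ 2 ≠ 4) (y z : F) :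
    ∃ a b : F, a ^ 2 + x * a * b + b ^ 2 - y * a - z * b + 1 = 0 := by
  by_cases h2 : (2 : F) = 0
  · have hc : CharP F 2 := by
      have : Fact (Nat.Prime 2) := ⟨Nat.prime_two⟩
      exact CharTwo.of_one_ne_zero_of_two_eq_zero one_ne_zero h2
    have hx0 : x ≠ 0 := by
      rintro rfl
      apply hx
      linear_combination -2 * h2
    obtain ⟨b, hb⟩ := FiniteField.isSquare_of_char_two (F := F) (ringChar.eq_iff.2 hc)
      ((z / x) ^ 2 - y * (z / x) + 1)
    refine ⟨z / x, b, ?_⟩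
    have h3 : x * (z / x) = z := mul_div_cancel₀ _ hx0
    linear_combination b * h3 + hb + b ^ 2 * h2
  · have h4 : (4 : F) ≠ 0 := by
      have : (4 : F) = 2 * 2 := by norm_num
      rw [this]
      exact mul_ne_zero h2 h2
    have hodd : Fintype.card F % 2 = 1 := by
      apply FiniteField.odd_card_of_char_ne_two
      intro h5
      apply h2
      have : CharP F 2 := by rw [← h5]; infer_instance
      exact CharTwo.two_eq_zero
    obtain ⟨a, b, hab⟩ := FiniteField.exists_root_sum_quadratic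
      (f := C 1 * X ^ 2 + C (-y) * X + C 1) (g := C (1 - x ^ 2 / 4) * X ^ 2 + C (x * y / 2 - z) * X + C 0)
      (Polynomial.degree_quadratic one_ne_zero) (Polynomial.degree_quadratic (by
        intro h
        apply hx
        field_simp at h
        linear_combination -h)) hodd
    refine ⟨a - x * b / 2, b, ?_⟩
    simp at hab
    field_simp at hab ⊢
    apply mul_left_cancel₀ h2
    linear_combination hab

theorem not_mem_center {A : SpecialLinearGroup (Fin 2) F} (h : tr A ^ 2 ≠ 4) :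
    A ∉ Subgroup.center (SpecialLinearGroup (Fin 2) F) := fun hA => h (trace_of_center hA)

/-- elements with the same trace are conjugate -/
theorem conj_all [Fintype F] {A B : SpecialLinearGroup (Fin 2) F} (h : tr A = tr B) (h4 : tr A ^ 2 ≠ 4) :
    ∃ g : SpecialLinearGroup (Fin 2) F, g * A * g⁻¹ = B := by
  have hA := not_mem_center h4
  have hB : B ∉ Subgroup.center (SpecialLinearGroup (Fin 2) F) := not_mem_center (by rwa [← h])
  rcases Nat.mod_two_eq_zero_or_one (Fintype.card F) with heven | hodd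
  · obtain ⟨g, l, hl, hg⟩ := exists_nf A hA
    obtain ⟨k, m, hm, hk⟩ := exists_nf B hB
    obtain ⟨s, hs⟩ := FiniteField.isSquare_of_char_two (F := F) (FiniteField.even_card_iff_char_two.2 heven) (l / m)
    have hxy : m * s ^ 2 + Matrix.trace (A : Matrix (Fin 2) (Fin 2) F) * s * 0 + 0 ^ 2 * m⁻¹ = l := by
      have : m * (l / m) = l := mul_div_cancel₀ _ hm
      linear_combination this - m * hs
    obtain ⟨r, hr⟩ := nf_conj_of hm hl hxy
    refine ⟨k⁻¹ * r * g, ?_⟩
    have h1 : k⁻¹ * r * g * A * (k⁻¹ * r * g)⁻¹ = k⁻¹ * (r * (g * A * g⁻¹) * r⁻¹) * k := by group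
    have h2 : B = k⁻¹ * (k * B * k⁻¹) * k := by group
    rw [h1, hg, hr, h2, hk]
    have h' : Matrix.trace (A : Matrix (Fin 2) (Fin 2) F) = Matrix.trace (B : Matrix (Fin 2) (Fin 2) F) := h
    simp only [h']
  · exact conj_of_trace hodd hA hB h h4

/-- **two traces and the trace of the product** -/
theorem exists_conj_tr [Fintype F] {A B : SpecialLinearGroup (Fin 2) F} (hA : tr A ^ 2 ≠ 4) (hB : tr B ^ 2 ≠ 4)
    (z : F) : ∃ g : SpecialLinearGroup (Fin 2) F, tr (A * (g * B * g⁻¹)) = z := by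
  obtain ⟨g, l, hl, hg⟩ := exists_nf A (not_mem_center hA)
  have hgx : g * A * g⁻¹ = nf l (tr A) hl := hg
  obtain ⟨a, b, hab⟩ := conic hA (tr B) z
  have hdet : (tr B - a) * a - (b / l) * (l * (b + tr A * a - z)) = 1 := by
    field_simp
    linear_combination -hab
  set B' := mk2 _ _ _ _ hdet with hB'
  have htr : tr B' = tr B := by
    rw [tr_def]
    show (tr B - a) + a = tr B
    ring
  obtain ⟨k, hk⟩ := conj_all (A := B) (B := B') htr.symm hB
  refine ⟨g⁻¹ * k, ?_⟩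
  have h1 : A * (g⁻¹ * k * B * (g⁻¹ * k)⁻¹) = g⁻¹ * ((g * A * g⁻¹) * (k * B * k⁻¹)) * g⁻¹⁻¹ := by group
  rw [h1, tr_conj, hgx, hk, tr_def, Matrix.SpecialLinearGroup.coe_mul, Matrix.mul_apply, Matrix.mul_apply,
    Fin.sum_univ_two, Fin.sum_univ_two]
  show 0 * (tr B - a) + -l⁻¹ * (l * (b + tr A * a - z)) + (l * (b / l) + tr A * a) = z
  field_simp
  ring

/-- an element with an eigenvalue is conjugate to an upper triangular one -/
theorem exists_conj_upper {A : SpecialLinearGroup (Fin 2) F} {e : F} (he : e ^ 2 - tr A * e + 1 = 0) :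
    ∃ g : SpecialLinearGroup (Fin 2) F, (g * A * g⁻¹) 1 0 = 0 := by
  by_cases hc : A 1 0 = 0
  · exact ⟨1, by rwa [inv_one, mul_one, one_mul]⟩
  · have hd := det_eq A
    rw [tr_def] at he
    -- the eigenvector `(t, 1)`
    set t := (e - A 1 1) / A 1 0 with ht
    have htc : t * A 1 0 = e - A 1 1 := div_mul_cancel₀ _ hc
    have hdet : (0 : F) * t - 1 * (-1) = 1 := by ring
    refine ⟨mk2 _ _ _ _ hdet, ?_⟩
    rw [Matrix.SpecialLinearGroup.coe_mul, Matrix.SpecialLinearGroup.coe_mul, Matrix.SpecialLinearGroup.coe_inv, mk2_coe]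
    simp only [Matrix.mul_apply, Fin.sum_univ_two, Matrix.adjugate_fin_two, Matrix.of_apply, Matrix.cons_val',
      Matrix.cons_val_zero, Matrix.cons_val_one, Matrix.cons_val_fin_one]
    apply mul_left_cancel₀ hc
    linear_combination he + hd + (A 1 0 * t + (e - A 1 1) + (A 1 1 - A 0 0)) * htc

end Cfsg.Agent.H541.CrowPsl2
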