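import Mathlib
import Cfsg.Agent.H162.CC.Tools3
import Cfsg.Agent.H541.CrowPsl2A
import Cfsg.Agent.H541.CrowPsl2B
import Cfsg.Agent.H183.OutPSL
import Cfsg.Agent.ClassicalGeometry.PSL2Basic

/-!
# S3828, the row of `PSL₂(q)` (helper541)
-/

set_option autoImplicit false

namespace Cfsg.Agent.H541.CrowPsl2

open Matrix Cfsg.Agent.H162.CCR Cfsg.Agent.H145.SLTwo Cfsg Cfsg.Agent.Lib.Cores

variable {F : Type*} [Field F] {p : ℕ}

/-- the projection -/
abbrev pr (F : Type*) [Field F] : SpecialLinearGroup (Fin 2) F →* ProjectiveSpecialLinearGroup (Fin 2) F :=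
  QuotientGroup.mk' _

theorem pr_eq_one {A : SpecialLinearGroup (Fin 2) F} : pr F A = 1 ↔ A = 1 ∨ A = -1 := by
  rw [← ClassicalGeometry.PSL2Basic.mem_center_SL2_iff]
  exact QuotientGroup.eq_one_iff A

theorem pr_neg (A : SpecialLinearGroup (Fin 2) F) : pr F (-A) = pr F A := by
  have h : -A = (-1) * A := by rw [neg_mul, one_mul]
  rw [h, map_mul, pr_eq_one.2 (Or.inr rfl), one_mul]

/-- the traces of the elements of `C` -/
def Tr (C : Set (ProjectiveSpecialLinearGroup (Fin 2) F)) : Set F :=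
  {t | ∃ A : SpecialLinearGroup (Fin 2) F, pr F A ∈ C ∧ pr F A ≠ 1 ∧ tr A = t}

/-- an element of order dividing `r` and a power of `p` is trivial -/
theorem eq_one_of_two_primes {G : Type*} [Group G] {p r k : ℕ} (hp : p.Prime) (hr : r.Prime) (hpr : p ≠ r) {x : G}
    (hx : orderOf x = p ^ k) (hx' : x ^ r = 1) : x = 1 := by
  have h1 : orderOf x ∣ r := orderOf_dvd_of_pow_eq_one hx'
  rcases (Nat.dvd_prime hr).1 h1 with h2 | h2
  · exact orderOf_eq_one_iff.1 h2
  · exfalso
    rw [hx] at h2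
    have h3 : r ∣ p := hr.dvd_of_dvd_pow (n := k) (by rw [h2])
    exact hpr ((Nat.prime_dvd_prime_iff_eq hr hp).1 h3).symm

/-- the closure property -/
theorem Tr_comm [Fintype F] {C : Set (ProjectiveSpecialLinearGroup (Fin 2) F)} (hC : Min p C) {x y : F} (hx : x ∈ Tr C)
    (hy : y ∈ Tr C) (hx4 : x ^ 2 ≠ 4) (hy4 : y ^ 2 ≠ 4) (z : F) :
    x ^ 2 + y ^ 2 + z ^ 2 - x * y * z - 2 ∈ Tr C ∨ x ^ 2 + y ^ 2 + z ^ 2 - x * y * z - 2 = 2 ∨
      x ^ 2 + y ^ 2 + z ^ 2 - x * y * z - 2 = -2 := by
  obtain ⟨A, hA, hA1, rfl⟩ := hx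
  obtain ⟨B, hB, hB1, rfl⟩ := hy
  obtain ⟨g, hg⟩ := exists_conj_tr hx4 hy4 z
  have hB' : pr F (g * B * g⁻¹) ∈ C := by
    rw [map_mul, map_mul, map_inv]
    exact hC.conj _ _ hB
  have h1 := hC.comm _ hA _ hB'
  have h2 : (pr F A)⁻¹ * (pr F (g * B * g⁻¹))⁻¹ * pr F A * pr F (g * B * g⁻¹) =
      pr F (A⁻¹ * (g * B * g⁻¹)⁻¹ * A * (g * B * g⁻¹)) := by simp only [map_mul, map_inv]
  rw [h2] at h1
  have h3 := tr_comm A (g * B * g⁻¹)
  rw [hg, tr_conj] at h3
  by_cases h4 : pr F (A⁻¹ * (g * B * g⁻¹)⁻¹ * A * (g * B * g⁻¹)) = 1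
  · right
    rcases pr_eq_one.1 h4 with h5 | h5
    · left
      rw [← h3, h5, tr_one]
    · right
      rw [← h3, h5, tr_neg, tr_one]
  · left
    exact ⟨_, h1, h4, h3⟩

/-- upper triangular matrices -/
def borel (F : Type*) [Field F] : Subgroup (SpecialLinearGroup (Fin 2) F) where
  carrier := {A | A 1 0 = 0}
  one_mem' := by
    show (1 : SpecialLinearGroup (Fin 2) F) 1 0 = 0
    simp
  mul_mem' := by
    intro A B hA hB
    show (A * B) 1 0 = 0
    have hA' : A 1 0 = 0 := hA
    have hB' : B 1 0 = 0 := hB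
    rw [Matrix.SpecialLinearGroup.coe_mul, Matrix.mul_apply, Fin.sum_univ_two, hA', hB']
    ring
  inv_mem' := by
    intro A hA
    have hA' : A 1 0 = 0 := hA
    show A⁻¹ 1 0 = 0
    rw [Matrix.SpecialLinearGroup.coe_inv, Matrix.adjugate_fin_two]
    simp [hA']

/-- the translation -/
def uu (b : F) : SpecialLinearGroup (Fin 2) F := mk2 1 b 0 1 (by ring)

theorem uu_mul (a b : F) : uu a * uu b = uu (a + b) := by
  apply Subtype.ext
  rw [Matrix.SpecialLinearGroup.coe_mul]
  show !![1, a; 0, 1] * !![1, b; 0, 1] = !![1, a + b; 0, 1]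
  rw [Matrix.mul_fin_two]
  ext i j
  fin_cases i <;> fin_cases j <;> simp [add_comm]

theorem uu_zero : uu (0 : F) = 1 := by
  apply Subtype.ext
  show !![1, (0 : F); 0, 1] = _
  rw [Matrix.SpecialLinearGroup.coe_one, Matrix.one_fin_two]

theorem uu_pow (b : F) (n : ℕ) : uu b ^ n = uu (n * b) := by
  induction n with
  | zero => rw [pow_zero, Nat.cast_zero, zero_mul, uu_zero]
  | succ n ih =>
    rw [pow_succ, ih, uu_mul]
    congr 1
    push_cast
    ring

theorem uu_pow_char [Fintype F] (b : F) : uu b ^ ringChar F = 1 := by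
  rw [uu_pow, ringChar.Nat.cast_ringChar, zero_mul, uu_zero]

/-- `p` not the characteristic: no triangular elements -/
theorem eq_one_of_upper [Fintype F] (hp : p.Prime) (hpF : p ≠ ringChar F)
    {C : Set (ProjectiveSpecialLinearGroup (Fin 2) F)} (hC : Min p C)
    {A : SpecialLinearGroup (Fin 2) F} (hA : pr F A ∈ C) (h10 : A 1 0 = 0) : pr F A = 1 := by
  have hr : (ringChar F).Prime := CharP.char_is_prime F (ringChar F)
  set H : Subgroup (ProjectiveSpecialLinearGroup (Fin 2) F) := (borel F).map (pr F) with hH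
  have hHt : H ≠ ⊤ := by
    intro h
    obtain ⟨w, hw⟩ : ∃ w : SpecialLinearGroup (Fin 2) F, w 1 0 = -1 := ⟨mk2 0 1 (-1) 0 (by ring), rfl⟩
    have h1 : pr F w ∈ H := by rw [h]; trivial
    obtain ⟨B, hB, hBw⟩ := h1
    have hB' : B 1 0 = 0 := hB
    have h2 : pr F (B⁻¹ * w) = 1 := by
      rw [map_mul, map_inv, hBw, inv_mul_cancel]
    have h3 : w = B ∨ w = -B := by
      rcases pr_eq_one.1 h2 with h4 | h4
      · left
        rw [inv_mul_eq_one] at h4
        exact h4.symm
      · right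
        rw [inv_mul_eq_iff_eq_mul, mul_neg, mul_one] at h4
        exact h4
    rcases h3 with h4 | h4
    · rw [h4, hB'] at hw
      exact one_ne_zero (α := F) (by linear_combination hw)
    · rw [h4, Matrix.SpecialLinearGroup.coe_neg, Matrix.neg_apply, hB'] at hw
      exact one_ne_zero (α := F) (by linear_combination hw)
  have hAH : pr F A ∈ H := ⟨A, h10, rfl⟩
  have h1 := hC.loc H hHt _ hA hAH
  have hdet := det_eq A
  rw [h10, mul_zero, sub_zero] at hdet
  -- the commutator with a translation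
  have hUH : pr F (uu 1) ∈ H := ⟨uu 1, rfl, rfl⟩
  have h2 : (⟨pr F A, hAH⟩ : H) * ((⟨pr F (uu 1), hUH⟩ : H) * (⟨pr F A, hAH⟩ : H)⁻¹ * (⟨pr F (uu 1), hUH⟩ : H)⁻¹) ∈
      pCore p H := mul_mem h1 ((inferInstance : (pCore p H).Normal).conj_mem _ (inv_mem h1) _)
  obtain ⟨k, hk⟩ := (pCore_isPGroup p (G := H)) ⟨_, h2⟩
  have hk' : (pr F A * (pr F (uu 1) * (pr F A)⁻¹ * (pr F (uu 1))⁻¹)) ^ p ^ k = 1 := by
    have h3 := congrArg (fun w : pCore p H => ((w : H) : ProjectiveSpecialLinearGroup (Fin 2) F)) hk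
    exact h3
  have h3 : pr F A * (pr F (uu 1) * (pr F A)⁻¹ * (pr F (uu 1))⁻¹) = pr F (A * uu 1 * A⁻¹ * (uu 1)⁻¹) := by
    simp only [map_mul, map_inv, mul_assoc]
  have h4 : A * uu 1 * A⁻¹ * (uu 1)⁻¹ = uu (A 0 0 ^ 2 - 1) := by
    rw [mul_inv_eq_iff_eq_mul, mul_inv_eq_iff_eq_mul, uu_mul]
    apply Subtype.ext
    rw [Matrix.SpecialLinearGroup.coe_mul, Matrix.SpecialLinearGroup.coe_mul,
      Matrix.eta_fin_two (A : Matrix (Fin 2) (Fin 2) F), h10]
    show _ * !![1, (1 : F); 0, 1] = !![1, A 0 0 ^ 2 - 1 + 1; 0, 1] * _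
    rw [Matrix.mul_fin_two, Matrix.mul_fin_two]
    ext i j
    fin_cases i <;> fin_cases j <;> simp
    · linear_combination -(A 0 0) * hdet
  rw [h3, h4] at hk'
  have h5 : pr F (uu (A 0 0 ^ 2 - 1)) = 1 := by
    have h6 : orderOf (pr F (uu (A 0 0 ^ 2 - 1))) ∣ p ^ k := orderOf_dvd_of_pow_eq_one hk'
    obtain ⟨j, -, hj⟩ := (Nat.dvd_prime_pow hp).1 h6
    exact eq_one_of_two_primes hp hr hpF hj (by rw [← map_pow, uu_pow_char, map_one])
  have h6 : A 0 0 ^ 2 = 1 := by
    rcases pr_eq_one.1 h5 with h7 | h7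
    · have h8 := congrArg (fun M : SpecialLinearGroup (Fin 2) F => M 0 1) h7
      have h9 : A 0 0 ^ 2 - 1 = 0 := by simpa [uu] using h8
      linear_combination h9
    · have h8 := congrArg (fun M : SpecialLinearGroup (Fin 2) F => M 0 1) h7
      have h9 : A 0 0 ^ 2 - 1 = 0 := by simpa [uu] using h8
      linear_combination h9
  -- so `A = ± uu`
  have h7 : A = uu (A 0 1 * A 0 0) ∨ A = - uu (A 0 1 * A 0 0) := by
    have h8 : (A 0 0 - 1) * (A 0 0 + 1) = 0 := by linear_combination h6
    rcases mul_eq_zero.1 h8 with h9 | h9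
    · left
      have h10' : A 0 0 = 1 := by linear_combination h9
      rw [h10', one_mul] at hdet
      apply Subtype.ext
      rw [Matrix.eta_fin_two (A : Matrix (Fin 2) (Fin 2) F), h10, hdet, h10']
      show _ = !![1, A 0 1 * 1; 0, 1]
      rw [mul_one]
    · right
      have h10' : A 0 0 = -1 := by linear_combination h9
      rw [h10'] at hdet
      have h11 : A 1 1 = -1 := by linear_combination -hdet
      apply Subtype.ext
      rw [Matrix.SpecialLinearGroup.coe_neg, Matrix.eta_fin_two (A : Matrix (Fin 2) (Fin 2) F), h10, h11, h10']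
      show _ = - !![1, A 0 1 * -1; 0, 1]
      ext i j
      fin_cases i <;> fin_cases j <;> simp
  obtain ⟨k', hk2⟩ := hC.pel _ hA
  refine eq_one_of_two_primes hp hr hpF hk2 ?_
  rcases h7 with h8 | h8
  · rw [h8, ← map_pow, uu_pow_char, map_one]
  · rw [h8, pr_neg, ← map_pow, uu_pow_char, map_one]

/-- `p` not the characteristic: elliptic elements -/
theorem elliptic [Fintype F] (hp : p.Prime) (hpF : p ≠ ringChar F)
    {C : Set (ProjectiveSpecialLinearGroup (Fin 2) F)} (hC : Min p C) {x : F} (hx : x ∈ Tr C) (e : F) :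
    e ^ 2 - x * e + 1 ≠ 0 := by
  intro he
  obtain ⟨A, hA, hA1, rfl⟩ := hx
  obtain ⟨g, hg⟩ := exists_conj_upper he
  apply hA1
  have h1 : pr F (g * A * g⁻¹) ∈ C := by
    rw [map_mul, map_mul, map_inv]
    exact hC.conj _ _ hA
  have h2 := eq_one_of_upper hp hpF hC h1 hg
  rw [map_mul, map_mul, map_inv, mul_inv_eq_one, mul_eq_left] at h2
  exact h2

/-- no traces, no elements -/
theorem eq_one_of_Tr {C : Set (ProjectiveSpecialLinearGroup (Fin 2) F)} (h : Tr C = ∅) : ∀ c ∈ C, c = 1 := by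
  intro c hc
  by_contra hc1
  obtain ⟨A, rfl⟩ := QuotientGroup.mk'_surjective _ c
  have : tr A ∈ Tr C := ⟨A, hc, hc1, rfl⟩
  rw [h] at this
  exact this

theorem pCore_eq_bot [Fintype F] (h4 : 4 ≤ Fintype.card F) (p : ℕ) [Fact p.Prime] :
    pCore p (ProjectiveSpecialLinearGroup (Fin 2) F) = ⊥ := by
  have hs := H183.OutPSL.simple_psl (n := 2) (F := F) le_rfl fun _ => h4
  have hZ := H183.OutPSL.center_psl (n := 2) (F := F) le_rfl fun _ => h4
  refine pCore_eq_bot_of_simple ?_ p
  intro hab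
  have : (⊤ : Subgroup (ProjectiveSpecialLinearGroup (Fin 2) F)) = ⊥ := by
    rw [← hZ, eq_comm, eq_top_iff]
    intro x _
    rw [Subgroup.mem_center_iff]
    intro g
    exact hab.is_comm.comm g x
  exact bot_ne_top this.symm

theorem five_check : ∀ x : ZMod 5, (∀ e : ZMod 5, e ^ 2 - x * e + 1 ≠ 0) →
    ∃ z e : ZMod 5, x ^ 2 + x ^ 2 + z ^ 2 - x * x * z - 2 ≠ 2 ∧ x ^ 2 + x ^ 2 + z ^ 2 - x * x * z - 2 ≠ -2 ∧
      e ^ 2 - (x ^ 2 + x ^ 2 + z ^ 2 - x * x * z - 2) * e + 1 = 0 := by decide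

theorem seven_check : ∀ x : ZMod 7, x ≠ 0 → (∀ e : ZMod 7, e ^ 2 - x * e + 1 ≠ 0) →
    ∃ z e : ZMod 7, x ^ 2 + x ^ 2 + z ^ 2 - x * x * z - 2 ≠ 2 ∧ x ^ 2 + x ^ 2 + z ^ 2 - x * x * z - 2 ≠ -2 ∧
      e ^ 2 - (x ^ 2 + x ^ 2 + z ^ 2 - x * x * z - 2) * e + 1 = 0 := by decide

/-- transport -/
theorem small_check [Fintype F] {m : ℕ} (e : ZMod m ≃+* F) {x : F}
    (h : ∃ z d : ZMod m, (e.symm x) ^ 2 + (e.symm x) ^ 2 + z ^ 2 - (e.symm x) * (e.symm x) * z - 2 ≠ 2 ∧
      (e.symm x) ^ 2 + (e.symm x) ^ 2 + z ^ 2 - (e.symm x) * (e.symm x) * z - 2 ≠ -2 ∧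
      d ^ 2 - ((e.symm x) ^ 2 + (e.symm x) ^ 2 + z ^ 2 - (e.symm x) * (e.symm x) * z - 2) * d + 1 = 0) :
    ∃ z d : F, x ^ 2 + x ^ 2 + z ^ 2 - x * x * z - 2 ≠ 2 ∧ x ^ 2 + x ^ 2 + z ^ 2 - x * x * z - 2 ≠ -2 ∧
      d ^ 2 - (x ^ 2 + x ^ 2 + z ^ 2 - x * x * z - 2) * d + 1 = 0 := by
  obtain ⟨z, d, h1, h2, h3⟩ := h
  have key : e ((e.symm x) ^ 2 + (e.symm x) ^ 2 + z ^ 2 - (e.symm x) * (e.symm x) * z - 2) =
      x ^ 2 + x ^ 2 + (e z) ^ 2 - x * x * (e z) - 2 := by
    simp only [map_sub, map_add, map_mul, map_pow, e.apply_symm_apply, map_ofNat]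
  refine ⟨e z, e d, ?_, ?_, ?_⟩
  · rw [← key]
    intro h4
    apply h1
    apply e.injective
    rw [h4, map_ofNat]
  · rw [← key]
    intro h4
    apply h2
    apply e.injective
    rw [h4, map_neg, map_ofNat]
  · rw [← key, ← map_pow, ← map_mul, ← map_sub, ← map_one e, ← map_add, h3, map_zero]

/-- **`p` not the characteristic.** -/
theorem crow_cross [Fintype F] (h4 : 4 ≤ Fintype.card F) [hp : Fact p.Prime] (hpF : p ≠ ringChar F) :
    CRow p (ProjectiveSpecialLinearGroup (Fin 2) F) := by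
  intro C hC
  apply eq_one_of_Tr
  have hell : ∀ x ∈ Tr C, ∀ e : F, e ^ 2 - x * e + 1 ≠ 0 := fun x hx e => elliptic hp.out hpF hC hx e
  have hO := pCore_eq_bot (F := F) h4 p
  -- involutions
  have hne0 : (0 : F) ∉ Tr C := by
    rintro ⟨A, hA, hA1, h0⟩
    apply hA1
    have h5 : A ^ 2 = -1 := ClassicalGeometry.PSL2Basic.sl2_sq_of_trace_zero h0
    have h6 : pr F A * pr F A = 1 := by
      rw [← map_mul, ← pow_two, h5]
      exact pr_eq_one.2 (Or.inr rfl)
    by_cases h2 : p = 2
    · subst h2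
      exact hC.sq_ne_one hO hA h6
    · obtain ⟨k, hk⟩ := hC.pel _ hA
      exact eq_one_of_two_primes hp.out Nat.prime_two h2 hk (by rw [pow_two, h6])
  by_cases h2 : (2 : F) = 0
  · -- characteristic two
    have hsq : ∀ x ∈ Tr C, x ^ 2 ≠ 4 := by
      intro x hx h
      have h5 : x ^ 2 = 0 := by linear_combination h + 2 * h2
      have h6 : x = 0 := pow_eq_zero_iff (by norm_num) |>.1 h5
      rw [h6] at hx
      exact hne0 hx
    have hc : CharP F 2 := by
      have : Fact (Nat.Prime 2) := ⟨Nat.prime_two⟩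
      exact CharTwo.of_one_ne_zero_of_two_eq_zero one_ne_zero h2
    by_cases h8 : 8 ≤ Fintype.card F
    · apply even_false h2 h8
      · intro x hx e h
        apply hell x hx e
        linear_combination h - x * e * h2
      · intro x hx z
        have h5 := Tr_comm hC hx hx (hsq x hx) (hsq x hx) z
        have h6 : x ^ 2 + x ^ 2 + z ^ 2 - x * x * z - 2 = z ^ 2 + x ^ 2 * z := by
          linear_combination (x ^ 2 - x ^ 2 * z - 1) * h2
        rw [h6] at h5
        rcases h5 with h7 | h7 | h7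
        · exact Or.inl h7
        · exact Or.inr (by rw [h7, h2])
        · exact Or.inr (by rw [h7, h2, neg_zero])
    · -- `q = 4`
      have hq4 : Fintype.card F = 4 := by
        obtain ⟨n, -, hn⟩ := FiniteField.card F 2
        have h5 : (n : ℕ) < 3 := by
          by_contra h6
          have := Nat.pow_le_pow_right (n := 2) (by norm_num) (show 3 ≤ (n : ℕ) by omega)
          omega
        have h6 : 1 < (n : ℕ) := by
          by_contra h6
          have := Nat.pow_le_pow_right (n := 2) (by norm_num) (show (n : ℕ) ≤ 1 by omega)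
          omega
        have h7 : (n : ℕ) = 2 := by omega
        rw [hn, h7]
        norm_num
      have hpow : ∀ x : F, x ^ 4 = x := by
        intro x
        have := FiniteField.pow_card x
        rwa [hq4] at this
      rw [Set.eq_empty_iff_forall_notMem]
      intro x hx
      have hcub : ∀ y : F, y ≠ 0 → y ≠ 1 → y ^ 2 + y + 1 = 0 := by
        intro y hy0 hy1
        have h5 : y * ((y - 1) * (y ^ 2 + y + 1)) = 0 := by linear_combination hpow y
        rcases mul_eq_zero.1 h5 with h6 | h6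
        · exact absurd h6 hy0
        · rcases mul_eq_zero.1 h6 with h7 | h7
          · exact absurd (by linear_combination h7) hy1
          · exact h7
      have hx0 : x ≠ 0 := by
        rintro rfl
        exact hne0 hx
      have hx1 : x ≠ 1 := by
        rintro rfl
        obtain ⟨y, hy⟩ : ∃ y : F, y ∉ ({0, 1} : Set F) := by
          by_contra hcon
          push Not at hcon
          have h5 : (Set.univ : Set F) ⊆ {0, 1} := fun y _ => hcon y
          have h6 := Set.ncard_le_ncard h5 (Set.toFinite _)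
          rw [Set.ncard_univ, Nat.card_eq_fintype_card, hq4] at h6
          have h7 := Set.ncard_pair (zero_ne_one (α := F))
          omega
        rw [Set.mem_insert_iff, Set.mem_singleton_iff, not_or] at hy
        apply hell 1 hx y
        linear_combination hcub y hy.1 hy.2 - y * h2
      have hx2 := hcub x hx0 hx1
      -- `p = 5`
      obtain ⟨A, hA, hA1, hAx⟩ := hx
      have h5 : A ^ 5 = -1 := by
        apply ClassicalGeometry.PSL2Basic.sl2_pow_five_of_trace
        have h6 : Matrix.trace (A : Matrix (Fin 2) (Fin 2) F) = x := hAx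
        rw [h6]
        linear_combination hx2 - (x + 1) * h2
      have h6 : (pr F A) ^ 5 = 1 := by
        rw [← map_pow, h5]
        exact pr_eq_one.2 (Or.inr rfl)
      obtain ⟨k, hk⟩ := hC.pel _ hA
      have hp5 : p = 5 := by
        by_contra hne
        exact hA1 (eq_one_of_two_primes hp.out (by norm_num) hne hk h6)
      have h7 := hC.sq hp5 _ hA
      rw [← map_pow] at h7
      have h8 : tr (A ^ 2) = x ^ 2 := by
        have hdet := det_eq A
        rw [← hAx, tr_def, tr_def, pow_two, Matrix.SpecialLinearGroup.coe_mul, Matrix.mul_apply, Matrix.mul_apply,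
          Fin.sum_univ_two, Fin.sum_univ_two]
        linear_combination -2 * hdet - h2
      have h9 : x ^ 2 ∈ Tr C := by
        refine ⟨_, h7, ?_, h8⟩
        intro h10
        apply hA1
        refine eq_one_of_two_primes hp.out Nat.prime_two ?_ hk (by rw [← map_pow, h10])
        omega
      have hx : x ∈ Tr C := ⟨A, hA, hA1, hAx⟩
      have h10 := Tr_comm hC hx h9 (hsq x hx) (hsq _ h9) 0
      have h11 : x ^ 2 + (x ^ 2) ^ 2 + 0 ^ 2 - x * x ^ 2 * 0 - 2 = 1 := by
        linear_combination hpow x + hx2 - 2 * h2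
      rw [h11] at h10
      rcases h10 with h12 | h12 | h12
      · apply hell 1 h12 x
        linear_combination hx2 - x * h2
      · rw [h2] at h12
        exact one_ne_zero h12
      · rw [h2, neg_zero] at h12
        exact one_ne_zero h12
  · -- odd characteristic
    have hodd : Fintype.card F % 2 = 1 := by
      apply FiniteField.odd_card_of_char_ne_two
      intro h5
      apply h2
      have : CharP F 2 := by rw [← h5]; infer_instance
      exact CharTwo.two_eq_zero
    have h4' : (4 : F) ≠ 0 := by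
      have : (4 : F) = 2 * 2 := by norm_num
      rw [this]
      exact mul_ne_zero h2 h2
    have hsq : ∀ x ∈ Tr C, x ^ 2 ≠ 4 := by
      intro x hx h
      apply hell x hx (x / 2)
      field_simp
      linear_combination -h
    by_cases h9 : 9 ≤ Fintype.card F
    · apply odd_false h2 hodd h9 _ hell
      intro x hx y hy z
      exact Tr_comm hC hx hy (hsq x hx) (hsq y hy) z
    · rw [Set.eq_empty_iff_forall_notMem]
      intro x hx
      obtain ⟨z, d, h5, h6, h7⟩ : ∃ z d : F, x ^ 2 + x ^ 2 + z ^ 2 - x * x * z - 2 ≠ 2 ∧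
          x ^ 2 + x ^ 2 + z ^ 2 - x * x * z - 2 ≠ -2 ∧
          d ^ 2 - (x ^ 2 + x ^ 2 + z ^ 2 - x * x * z - 2) * d + 1 = 0 := by
        rcases (show Fintype.card F = 5 ∨ Fintype.card F = 7 by omega) with h5 | h7
        · have e : ZMod 5 ≃+* F := ZMod.ringEquivOfPrime F (by norm_num) h5
          apply small_check e
          apply five_check
          intro d hd
          apply hell x hx (e d)
          have := congrArg e hd
          rwa [map_add, map_sub, map_mul, map_pow, e.apply_symm_apply, map_one, map_zero] at this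
        · have e : ZMod 7 ≃+* F := ZMod.ringEquivOfPrime F (by norm_num) h7
          apply small_check e
          apply seven_check
          · intro h0
            apply hne0
            have : x = 0 := by rw [← e.apply_symm_apply x, h0, map_zero]
            rwa [this] at hx
          intro d hd
          apply hell x hx (e d)
          have := congrArg e hd
          rwa [map_add, map_sub, map_mul, map_pow, e.apply_symm_apply, map_one, map_zero] at this
      rcases Tr_comm hC hx hx (hsq x hx) (hsq x hx) z with h8 | h8 | h8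
      · exact hell _ h8 d h7
      · exact h5 h8
      · exact h6 h8

/-- **`p` the characteristic.** -/
theorem crow_char [Fintype F] (h4 : 4 ≤ Fintype.card F) [hp : Fact p.Prime] (hpF : p = ringChar F) :
    CRow p (ProjectiveSpecialLinearGroup (Fin 2) F) := by
  intro C hC c hc
  by_contra hc1
  have hO := pCore_eq_bot (F := F) h4 p
  have hcp : CharP F p := by rw [hpF]; infer_instance
  obtain ⟨A, rfl⟩ := QuotientGroup.mk'_surjective _ c
  change pr F A ∈ C at hc
  change pr F A ≠ 1 at hc1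
  -- the trace
  have htr : tr A = 2 ∨ tr A = -2 := by
    obtain ⟨k, hk⟩ := hC.pel _ hc
    have h1 : pr F (A ^ p ^ k) = 1 := by rw [map_pow, ← hk, pow_orderOf_eq_one]
    obtain ⟨n, -, hn⟩ := FiniteField.card F p
    have h2 : ∀ j : ℕ, Matrix.trace ((A : Matrix (Fin 2) (Fin 2) F) ^ (Fintype.card F) ^ j) = tr A := by
      intro j
      induction j with
      | zero => rw [pow_zero, pow_one]; rfl
      | succ j ih => rw [pow_succ, pow_mul, FiniteField.trace_pow_card, ih, FiniteField.pow_card]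
    have h3 := h2 k
    have h5 : (Fintype.card F) ^ k = p ^ k * p ^ ((n : ℕ) * k - k) := by
      rw [hn, ← pow_mul, ← pow_add]
      congr 1
      have : k ≤ (n : ℕ) * k := Nat.le_mul_of_pos_left k n.pos
      omega
    have h6 : A ^ (Fintype.card F) ^ k = 1 ∨ A ^ (Fintype.card F) ^ k = -1 := by
      apply pr_eq_one.1
      rw [h5, pow_mul, map_pow, h1, one_pow]
    rw [← Matrix.SpecialLinearGroup.coe_pow] at h3
    rcases h6 with h7 | h7
    · left
      rw [← h3, h7]
      exact tr_one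
    · right
      rw [← h3, h7]
      have := tr_neg (1 : SpecialLinearGroup (Fin 2) F)
      rw [tr_one] at this
      exact this
  -- a lift of trace 2
  obtain ⟨A, hA, hA1, htr⟩ : ∃ A : SpecialLinearGroup (Fin 2) F, pr F A ∈ C ∧ pr F A ≠ 1 ∧ tr A = 2 := by
    rcases htr with h | h
    · exact ⟨A, hc, hc1, h⟩
    · exact ⟨-A, by rwa [pr_neg], by rwa [pr_neg], by rw [tr_neg, h, neg_neg]⟩
  by_cases h2 : (2 : F) = 0
  · -- characteristic two
    have hp2 : p = 2 := by
      have h5 : ((2 : ℕ) : F) = 0 := by exact_mod_cast h2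
      have h6 := (CharP.cast_eq_zero_iff F p 2).1 h5
      exact (Nat.prime_dvd_prime_iff_eq hp.out Nat.prime_two).1 h6
    subst hp2
    apply hA1
    apply hC.sq_ne_one hO hA
    have h5 : A ^ 2 = -1 := ClassicalGeometry.PSL2Basic.sl2_sq_of_trace_zero (by rw [← h2]; exact htr)
    rw [← map_mul, ← pow_two, h5]
    exact pr_eq_one.2 (Or.inr rfl)
  · -- the normal form
    obtain ⟨g, hg⟩ := exists_conj_upper (A := A) (e := 1) (by rw [htr]; ring)
    have hB : pr F (g * A * g⁻¹) ∈ C := by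
      rw [map_mul, map_mul, map_inv]
      exact hC.conj _ _ hA
    have hB1 : pr F (g * A * g⁻¹) ≠ 1 := by
      intro h
      apply hA1
      rw [map_mul, map_mul, map_inv, mul_inv_eq_one, mul_eq_left] at h
      exact h
    have hBt : tr (g * A * g⁻¹) = 2 := by rw [tr_conj, htr]
    obtain ⟨B, hBdef⟩ : ∃ B, B = g * A * g⁻¹ := ⟨_, rfl⟩
    rw [← hBdef] at hg hB hB1 hBt
    have hdet := det_eq B
    rw [hg, mul_zero, sub_zero] at hdet
    rw [tr_def] at hBt
    have h5 : B 0 0 = 1 := by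
      have h6 : (B 0 0 - 1) ^ 2 = 0 := by linear_combination B 0 0 * hBt - hdet
      have := pow_eq_zero_iff (by norm_num) |>.1 h6
      linear_combination this
    have h6 : B 1 1 = 1 := by linear_combination hBt - h5
    obtain ⟨b, hb⟩ : ∃ b, b = B 0 1 := ⟨_, rfl⟩
    have hBu : B = uu b := by
      apply Subtype.ext
      rw [Matrix.eta_fin_two (B : Matrix (Fin 2) (Fin 2) F), hg, h5, h6, ← hb]
      rfl
    have hb0 : b ≠ 0 := by
      intro h
      apply hB1
      rw [hBu, h, uu_zero, map_one]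
    rw [hBu] at hB
    -- the opposite element
    obtain ⟨D, hD, hD1⟩ : ∃ D : SpecialLinearGroup (Fin 2) F, pr F D ∈ C ∧
        (D : Matrix (Fin 2) (Fin 2) F) = !![1, 0; -b⁻¹, 1] := by
      have hdet' : (0 : F) * 0 - b * (-b⁻¹) = 1 := by
        rw [zero_mul, mul_neg, mul_inv_cancel₀ hb0]
        ring
      refine ⟨mk2 _ _ _ _ hdet' * uu b * (mk2 _ _ _ _ hdet')⁻¹, ?_, ?_⟩
      · rw [map_mul, map_mul, map_inv]
        exact hC.conj _ _ hB
      · rw [Matrix.SpecialLinearGroup.coe_mul, Matrix.SpecialLinearGroup.coe_mul, Matrix.SpecialLinearGroup.coe_inv,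
          mk2_coe]
        show !![0, b; -b⁻¹, 0] * !![1, b; 0, 1] * _ = _
        rw [Matrix.adjugate_fin_two_of, Matrix.mul_fin_two, Matrix.mul_fin_two]
        ext i j
        fin_cases i <;> fin_cases j <;> simp [hb0]
    have htD : tr D = 2 := by
      rw [tr_def, hD1]
      simp
      norm_num
    have key : ∀ m : F, pr F (uu (m * b)) ∈ C → m ^ 2 + 2 = 2 ∨ m ^ 2 + 2 = -2 := by
      intro m hm
      have h7 := hC.comm _ hm _ hD
      have h8 : (pr F (uu (m * b)))⁻¹ * (pr F D)⁻¹ * pr F (uu (m * b)) * pr F D =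
          pr F ((uu (m * b))⁻¹ * D⁻¹ * uu (m * b) * D) := by simp only [map_mul, map_inv]
      rw [h8] at h7
      have h9 : tr (uu (m * b) * D) = 2 - m := by
        rw [tr_def, Matrix.SpecialLinearGroup.coe_mul, hD1]
        show (!![1, m * b; 0, 1] * !![1, 0; -b⁻¹, 1] : Matrix (Fin 2) (Fin 2) F) 0 0 +
          (!![1, m * b; 0, 1] * !![1, 0; -b⁻¹, 1] : Matrix (Fin 2) (Fin 2) F) 1 1 = _
        rw [Matrix.mul_fin_two]
        simp
        field_simp
        ring
      have h10 : tr (uu (m * b)) = 2 := by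
        rw [tr_def]
        show (1 : F) + 1 = 2
        norm_num
      have h11 := tr_comm (uu (m * b)) D
      rw [h9, h10, htD] at h11
      have h12 : tr ((uu (m * b))⁻¹ * D⁻¹ * uu (m * b) * D) = m ^ 2 + 2 := by
        rw [h11]; ring
      -- the trace of a `p`-element
      obtain ⟨k, hk⟩ := hC.pel _ h7
      obtain ⟨E, hE⟩ : ∃ E, E = (uu (m * b))⁻¹ * D⁻¹ * uu (m * b) * D := ⟨_, rfl⟩
      rw [← hE] at h12 hk
      rw [← h12]
      have h1 : pr F (E ^ p ^ k) = 1 := by rw [map_pow, ← hk, pow_orderOf_eq_one]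
      obtain ⟨n, -, hn⟩ := FiniteField.card F p
      have h2 : ∀ j : ℕ, Matrix.trace ((E : Matrix (Fin 2) (Fin 2) F) ^ (Fintype.card F) ^ j) = tr E := by
        intro j
        induction j with
        | zero => rw [pow_zero, pow_one]; rfl
        | succ j ih => rw [pow_succ, pow_mul, FiniteField.trace_pow_card, ih, FiniteField.pow_card]
      have h3 := h2 k
      have h5 : (Fintype.card F) ^ k = p ^ k * p ^ ((n : ℕ) * k - k) := by
        rw [hn, ← pow_mul, ← pow_add]
        congr 1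
        have : k ≤ (n : ℕ) * k := Nat.le_mul_of_pos_left k n.pos
        omega
      have h6 : E ^ (Fintype.card F) ^ k = 1 ∨ E ^ (Fintype.card F) ^ k = -1 := by
        apply pr_eq_one.1
        rw [h5, pow_mul, map_pow, h1, one_pow]
      rw [← Matrix.SpecialLinearGroup.coe_pow] at h3
      rcases h6 with h7 | h7
      · left
        rw [← h3, h7]
        exact tr_one
      · right
        rw [← h3, h7]
        have := tr_neg (1 : SpecialLinearGroup (Fin 2) F)
        rw [tr_one] at this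
        exact this
    have h7 : (5 : F) = 0 := by
      rcases key 1 (by rwa [one_mul]) with h | h
      · exact absurd (by linear_combination h) (one_ne_zero (α := F))
      · linear_combination h
    have hp5 : p = 5 := by
      have h5 : ((5 : ℕ) : F) = 0 := by exact_mod_cast h7
      have h6 := (CharP.cast_eq_zero_iff F p 5).1 h5
      exact (Nat.prime_dvd_prime_iff_eq hp.out (by norm_num)).1 h6
    have h8 := hC.sq hp5 _ hB
    rw [← map_pow, uu_pow] at h8
    rcases key 2 (by exact_mod_cast h8) with h | h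
    · exact h2 (by
        have : (2 : F) * 2 = 0 := by linear_combination h
        rcases mul_eq_zero.1 this with h9 | h9 <;> exact h9)
    · apply one_ne_zero (α := F)
      linear_combination 2 * h - 3 * h7

/-- **The row of `PSL₂(q)`.** -/
theorem crow_psl2 {F : Type*} [Field F] [Fintype F] (h4 : 4 ≤ Fintype.card F) (p : ℕ) [Fact p.Prime] :
    CRow p (Matrix.ProjectiveSpecialLinearGroup (Fin 2) F) := by
  by_cases hpF : p = ringChar F
  · exact crow_char h4 hpF
  · exact crow_cross h4 hpF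

end Cfsg.Agent.H541.CrowPsl2
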