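import Mathlib
import Cfsg.Agent.R01.PSUSix
import Cfsg.Agent.S0279

/-!
# An element of order 15 of `PSU₅(2)` (helper541)
-/

set_option autoImplicit false

namespace Cfsg.Agent.H541.RecU52

open Cfsg Cfsg.Agent.LieClassical.HermBasic Cfsg.Agent.ClassicalGeometry.UnitTransv
open Cfsg.Agent.SporadicStructure.UnitTwo Cfsg.Agent.R01.PSUSix
open scoped Matrix

variable {F : Type*} [Field F]

/-- `J + ω` -/
def J (ω : F) : Matrix (Fin 5) (Fin 5) F :=
  ω • (1 + Matrix.replicateCol Unit (fun _ : Fin 5 => ω ^ 2) * Matrix.replicateRow Unit (fun _ : Fin 5 => (1 : F)))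

theorem det_J {ω : F} (h2 : (2 : F) = 0) (hω : ω ^ 2 + ω + 1 = 0) : (J ω).det = 1 := by
  rw [J, Matrix.det_smul, Matrix.det_one_add_replicateCol_mul_replicateRow]
  simp only [Fintype.card_fin, dotProduct, one_mul, Finset.sum_const, Finset.card_univ, nsmul_eq_mul]
  push_cast
  linear_combination (ω ^ 3 * ω - ω ^ 3 + 1 - ω) * 0 + (5 * ω ^ 5 - 5 * ω ^ 4 + ω ^ 3 + 4 * ω ^ 2 - 5 * ω + 1) * hω +
    (2 * ω - 1) * h2

theorem J_mulVec (ω : F) (x : Fin 5 → F) : J ω *ᵥ x = fun i => ω * x i + ω ^ 3 * ∑ j, x j := by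
  funext i
  rw [J, Matrix.smul_mulVec, Matrix.add_mulVec, Matrix.one_mulVec]
  simp only [Pi.smul_apply, Pi.add_apply, smul_eq_mul, Matrix.mulVec, dotProduct, Matrix.mul_apply,
    Matrix.replicateCol_apply, Matrix.replicateRow_apply, Finset.univ_unique, Finset.sum_singleton, mul_one]
  rw [← Finset.mul_sum]
  ring

theorem sq_sum (h2 : (2 : F) = 0) (x : Fin 5 → F) : (∑ j, x j) ^ 2 = ∑ j, x j ^ 2 := by
  simp only [Fin.sum_univ_five]
  linear_combination (x 0 * x 1 + x 0 * x 2 + x 0 * x 3 + x 0 * x 4 + x 1 * x 2 + x 1 * x 3 + x 1 * x 4 + x 2 * x 3 +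
    x 2 * x 4 + x 3 * x 4) * h2

theorem herm_J {ω : F} (h2 : (2 : F) = 0) (hω : ω ^ 2 + ω + 1 = 0) (x y : Fin 5 → F) :
    hermForm 5 F 2 (J ω *ᵥ x) (J ω *ᵥ y) = hermForm 5 F 2 x y := by
  have h3 : ω ^ 3 = 1 := by linear_combination (ω - 1) * hω
  rw [herm_def, herm_def, J_mulVec, J_mulVec, h3]
  have hy := sq_sum h2 y
  obtain ⟨s, hs⟩ : ∃ s, s = ∑ j, x j := ⟨_, rfl⟩
  obtain ⟨t, ht⟩ : ∃ t, t = ∑ j, y j := ⟨_, rfl⟩
  rw [← ht] at hy
  rw [← hs, ← ht]
  have e : ∀ i, (ω * x i + 1 * s) * (ω * y i + 1 * t) ^ 2 =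
      x i * y i ^ 2 + (ω ^ 3 - 1) * (x i * y i ^ 2) + 2 * ω * (ω * x i + s) * y i * t + ω * t ^ 2 * x i +
        ω ^ 2 * s * y i ^ 2 + s * t ^ 2 := by
    intro i
    ring
  have e' : ∀ i, (ω * x i + 1 * s) * (ω * y i + 1 * t) ^ 2 =
      x i * y i ^ 2 + ω * t ^ 2 * x i + ω ^ 2 * s * y i ^ 2 + s * t ^ 2 := by
    intro i
    rw [e i, h3, h2]
    ring
  rw [Finset.sum_congr rfl fun i _ => e' i]
  rw [Finset.sum_add_distrib, Finset.sum_add_distrib, Finset.sum_add_distrib, ← Finset.mul_sum, ← Finset.mul_sum,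
    ← hs, ← hy]
  simp only [Finset.sum_const, Finset.card_univ, Fintype.card_fin, nsmul_eq_mul]
  push_cast
  linear_combination s * t ^ 2 * hω + 2 * s * t ^ 2 * h2

/-- the element of order 3 -/
def Y {ω : F} (h2 : (2 : F) = 0) (hω : ω ^ 2 + ω + 1 = 0) : SU 5 F 2 :=
  mk (J ω) (det_J h2 hω) (herm_J h2 hω)

/-- the element of order 5 -/
def P (F : Type*) [Field F] : SU 5 F 2 :=
  mk ((finRotate 5).permMatrix F) (by
    rw [Matrix.det_permutation, sign_finRotate]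
    norm_num) (by
    intro x y
    rw [herm_def, herm_def, Matrix.permMatrix_mulVec, Matrix.permMatrix_mulVec]
    exact Equiv.sum_comp (finRotate 5) (fun i => x i * y i ^ 2))

theorem act_P (x : Fin 5 → F) : act (P F) x = x ∘ finRotate 5 := by
  rw [P, act_mk, Matrix.permMatrix_mulVec]

theorem act_Y {ω : F} (h2 : (2 : F) = 0) (hω : ω ^ 2 + ω + 1 = 0) (x : Fin 5 → F) :
    act (Y h2 hω) x = fun i => ω * x i + ω ^ 3 * ∑ j, x j := by
  rw [Y, act_mk, J_mulVec]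

theorem P_five : P F ^ 5 = 1 := by
  apply ext_act
  intro x
  have e : P F ^ 5 = P F * (P F * (P F * (P F * P F))) := by
    simp only [pow_succ, pow_zero, one_mul, mul_assoc]
  rw [e, act_mul, act_mul, act_mul, act_mul, act_P, act_P, act_P, act_P, act_P, act_one]
  funext i
  fin_cases i <;> rfl

theorem P_ne : P F ≠ 1 := by
  intro h
  have h1 := act_P (F := F) ![1, 0, 0, 0, 0]
  rw [h, act_one] at h1
  have h2 := congrFun h1 0
  have h3 : (1 : F) = 0 := h2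
  exact one_ne_zero h3

theorem Y_three {ω : F} (h2 : (2 : F) = 0) (hω : ω ^ 2 + ω + 1 = 0) : Y h2 hω ^ 3 = 1 := by
  have h3 : ω ^ 3 = 1 := by linear_combination (ω - 1) * hω
  apply ext_act
  intro x
  rw [_root_.pow_three, act_mul, act_mul, act_Y, act_Y, act_Y, act_one]
  funext i
  simp only [h3, one_mul, Fin.sum_univ_five]
  linear_combination (x i) * h3 + (x 0 + x 1 + x 2 + x 3 + x 4) * hω * 1 +
    (x 0 + x 1 + x 2 + x 3 + x 4) * (5 * ω + 15 + 2 * ω + ω ^ 2 - 3) * h2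

theorem Y_ne {ω : F} (h2 : (2 : F) = 0) (hω : ω ^ 2 + ω + 1 = 0) : Y h2 hω ≠ 1 := by
  intro h
  have h1 := act_Y h2 hω ![1, 0, 0, 0, 0]
  rw [h, act_one] at h1
  have h3 : ω ^ 3 = 1 := by linear_combination (ω - 1) * hω
  have h4 := congrFun h1 1
  rw [h3] at h4
  simp [Fin.sum_univ_five] at h4

theorem comm_PY {ω : F} (h2 : (2 : F) = 0) (hω : ω ^ 2 + ω + 1 = 0) : P F * Y h2 hω = Y h2 hω * P F := by
  apply ext_act
  intro x
  rw [act_mul, act_mul, act_P, act_P, act_Y, act_Y]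
  funext i
  simp only [Function.comp]
  congr 2
  exact (Equiv.sum_comp (finRotate 5) x).symm

/-- **An element of order 15.** -/
theorem exists_fifteen [Fintype F] (hF : Fintype.card F = 2 ^ 2) : ∃ g : PSU 5 F 2, orderOf g = 15 := by
  have h2 := two_eq_zero hF
  obtain ⟨ω, hω⟩ := exists_omega hF
  have hc : Nat.card (Subgroup.center (SU 5 F 2)) = 1 := by
    rw [Cfsg.Agent.S0279.result hF 5 (by omega)]
    decide
  have hcb : Subgroup.center (SU 5 F 2) = ⊥ := Subgroup.card_eq_one.1 hc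
  have hπ : Function.Injective (QuotientGroup.mk' (Subgroup.center (SU 5 F 2))) := by
    rw [← MonoidHom.ker_eq_bot_iff, QuotientGroup.ker_mk', hcb]
  have h5 : orderOf (P F) = 5 := by
    have : Fact (Nat.Prime 5) := ⟨by norm_num⟩
    exact orderOf_eq_prime P_five P_ne
  have h3 : orderOf (Y h2 hω) = 3 := by
    have : Fact (Nat.Prime 3) := ⟨by norm_num⟩
    exact orderOf_eq_prime (Y_three h2 hω) (Y_ne h2 hω)
  have hcomm : Commute (P F) (Y h2 hω) := comm_PY h2 hω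
  refine ⟨QuotientGroup.mk' _ (P F * Y h2 hω), ?_⟩
  rw [orderOf_injective _ hπ, hcomm.orderOf_mul_eq_mul_orderOf_of_coprime (by rw [h5, h3]; decide), h5, h3]

end Cfsg.Agent.H541.RecU52
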