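import Cfsg.Agent.GH.C2SevenBase

/-!
# Aligning two complements by conjugation (task S5260-G, helper541)
-/

set_option autoImplicit false

namespace Cfsg.Agent.H541.ConjAlign

theorem card_of_relIndex {Y : Type*} [Group Y] [Finite Y] {I A : Subgroup Y} (h : I ≤ A) :
    Nat.card A = Nat.card I * I.relIndex A := by
  have h1 := Subgroup.relIndex_mul_relIndex ⊥ I A bot_le h
  rw [Subgroup.relIndex_bot_left, Subgroup.relIndex_bot_left] at h1
  exact h1.symm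

theorem fact_eq {p r m b e k : ℕ} (hp : p.Prime) (hr : r.Prime) (hpr : p ≠ r) (hm : m ≠ 0)
    (h : m * p ^ b = p ^ e * r ^ k) : m.factorization r = k := by
  have h1 : (m * p ^ b).factorization r = (p ^ e * r ^ k).factorization r := by rw [h]
  have hp0 : ∀ t, p ^ t ≠ 0 := fun t => pow_ne_zero t hp.ne_zero
  rw [Nat.factorization_mul hm (hp0 b), Nat.factorization_mul (hp0 e) (pow_ne_zero k hr.ne_zero)] at h1
  simp only [Finsupp.coe_add, Pi.add_apply, Nat.factorization_pow, Finsupp.coe_smul, Pi.smul_apply,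
    hp.factorization, hr.factorization, Finsupp.single_eq_same,
    Finsupp.single_eq_of_ne hpr.symm, smul_eq_mul, mul_zero, mul_one, zero_add, add_zero] at h1
  exact h1

/-- a Sylow `r`-subgroup of `A`, as a subgroup of `Y`, when `|A| = |I| r ^ k` with a `p`-group `I ≤ A` -/
theorem exists_syl {Y : Type*} [Group Y] [Finite Y] {p r : ℕ} [hp : Fact p.Prime] [hr : Fact r.Prime] (hpr : p ≠ r)
    {I A : Subgroup Y} (hI : IsPGroup p I) (hIA : I ≤ A) {k : ℕ} (hA : I.relIndex A = r ^ k) :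
    ∃ R : Subgroup Y, R ≤ A ∧ Nat.card R = r ^ k ∧ A = I ⊔ R := by
  obtain ⟨c, hc⟩ := hI.exists_card_eq
  have hcA : Nat.card A = p ^ c * r ^ k := by rw [card_of_relIndex hIA, hc, hA]
  obtain ⟨R⟩ : Nonempty (Sylow r A) := inferInstance
  have hR : Nat.card R = r ^ k := by
    rw [R.card_eq_multiplicity, hcA]
    congr 1
    exact fact_eq (b := 0) (e := c) hp.out hr.out hpr
      (mul_ne_zero (pow_ne_zero _ hp.out.ne_zero) (pow_ne_zero _ hr.out.ne_zero)) (by rw [pow_zero, mul_one])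
  have hR' : Nat.card ((R : Subgroup A).map A.subtype) = r ^ k := by
    rw [Subgroup.card_map_of_injective A.subtype_injective]
    exact hR
  refine ⟨(R : Subgroup A).map A.subtype, Subgroup.map_subtype_le _, hR', ?_⟩
  have hle : I ⊔ (R : Subgroup A).map A.subtype ≤ A := sup_le hIA (Subgroup.map_subtype_le _)
  refine (Subgroup.eq_of_le_of_card_ge hle ?_).symm
  refine Nat.le_of_dvd Nat.card_pos ?_
  rw [hcA]
  refine Nat.Coprime.mul_dvd_of_dvd_of_dvd ?_ ?_ ?_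
  · exact Nat.Coprime.pow _ _ ((Nat.coprime_primes hp.out hr.out).2 hpr)
  · rw [← hc]; exact Subgroup.card_dvd_of_le le_sup_left
  · rw [← hR']; exact Subgroup.card_dvd_of_le le_sup_right

theorem card_sup_fact {Y : Type*} [Group Y] [Finite Y] {p r : ℕ} [hp : Fact p.Prime] [hr : Fact r.Prime]
    (hpr : p ≠ r) {N I A : Subgroup Y} (hN : IsPGroup p N) (hI : IsPGroup p I)
    (hNA : ∀ a ∈ A, ∀ n ∈ N, a * n * a⁻¹ ∈ N) (hIA : I ≤ A) {k : ℕ} (hA : I.relIndex A = r ^ k) :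
    (Nat.card (N ⊔ A : Subgroup Y)).factorization r = k := by
  have h1 := Cfsg.Agent.GH.C2SevenBase.card_sup_mul (Q := N) (P := A) hNA
  obtain ⟨a, ha⟩ := hN.exists_card_eq
  obtain ⟨c, hc⟩ := hI.exists_card_eq
  obtain ⟨b, hb⟩ : ∃ b, Nat.card (N ⊓ A : Subgroup Y) = p ^ b := (hN.to_le inf_le_left).exists_card_eq
  have hcA : Nat.card A = p ^ c * r ^ k := by rw [card_of_relIndex hIA, hc, hA]
  rw [ha, hb, hcA, ← mul_assoc, ← pow_add] at h1
  exact fact_eq hp.out hr.out hpr Nat.card_pos.ne' h1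

theorem mem_sup {Y : Type*} [Group Y] {N A : Subgroup Y} (hNA : ∀ a ∈ A, ∀ n ∈ N, a * n * a⁻¹ ∈ N) {y : Y}
    (hy : y ∈ N ⊔ A) : ∃ n ∈ N, ∃ a ∈ A, y = n * a := by
  let K : Subgroup Y :=
    { carrier := {y | ∃ n ∈ N, ∃ a ∈ A, y = n * a}
      one_mem' := ⟨1, one_mem _, 1, one_mem _, by simp⟩
      mul_mem' := by
        rintro _ _ ⟨n, hn, a, ha, rfl⟩ ⟨m, hm, b, hb, rfl⟩
        exact ⟨n * (a * m * a⁻¹), mul_mem hn (hNA a ha m hm), a * b, mul_mem ha hb, by group⟩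
      inv_mem' := by
        rintro _ ⟨n, hn, a, ha, rfl⟩
        refine ⟨a⁻¹ * n⁻¹ * a, ?_, a⁻¹, inv_mem ha, by group⟩
        have h := hNA a⁻¹ (inv_mem ha) n⁻¹ (inv_mem hn)
        rwa [inv_inv] at h }
  have hle : N ⊔ A ≤ K := sup_le (fun n hn => ⟨n, hn, 1, one_mem _, by simp⟩)
    (fun a ha => ⟨1, one_mem _, a, ha, by simp⟩)
  exact hle hy

theorem exists_conj_align {Y : Type*} [Group Y] [Finite Y] {p r : ℕ} [Fact p.Prime] [Fact r.Prime] (hpr : p ≠ r)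
    (N I A A₁ : Subgroup Y)
    (hN : IsPGroup p N) (hI : IsPGroup p I) (hNA : ∀ a ∈ A, ∀ n ∈ N, a * n * a⁻¹ ∈ N)
    (hNA₁ : ∀ a ∈ A₁, ∀ n ∈ N, a * n * a⁻¹ ∈ N)
    (hIN : ∀ n ∈ N, ∀ i ∈ I, n * i * n⁻¹ ∈ I) (hIA : I ≤ A) (hIA₁ : I ≤ A₁)
    (hA : ∃ k, I.relIndex A = r ^ k) (hA₁ : ∃ k, I.relIndex A₁ = r ^ k)
    (h1 : ∀ a ∈ A, ∃ n ∈ N, n * a ∈ A₁) (h2 : ∀ a ∈ A₁, ∃ n ∈ N, n * a ∈ A) :
    ∃ n ∈ N, A.map (MulAut.conj n).toMonoidHom = A₁ := by
  obtain ⟨k, hk⟩ := hA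
  obtain ⟨l, hl⟩ := hA₁
  have hY : N ⊔ A₁ = N ⊔ A := by
    apply le_antisymm
    · refine sup_le le_sup_left fun a ha => ?_
      obtain ⟨n, hn, hna⟩ := h2 a ha
      have : a = n⁻¹ * (n * a) := by group
      rw [this]
      exact mul_mem ((le_sup_left : N ≤ N ⊔ A) (inv_mem hn)) ((le_sup_right : A ≤ N ⊔ A) hna)
    · refine sup_le le_sup_left fun a ha => ?_
      obtain ⟨n, hn, hna⟩ := h1 a ha
      have : a = n⁻¹ * (n * a) := by group
      rw [this]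
      exact mul_mem ((le_sup_left : N ≤ N ⊔ A₁) (inv_mem hn)) ((le_sup_right : A₁ ≤ N ⊔ A₁) hna)
  have hfk := card_sup_fact hpr hN hI hNA hIA hk
  have hfl := card_sup_fact hpr hN hI hNA₁ hIA₁ hl
  rw [hY, hfk] at hfl
  subst hfl
  obtain ⟨R, hRA, hR, hAR⟩ := exists_syl hpr hI hIA hk
  obtain ⟨R₁, hRA₁, hR₁, hAR₁⟩ := exists_syl hpr hI hIA₁ hl
  have hRY : R ≤ N ⊔ A := hRA.trans le_sup_right
  have hRY₁ : R₁ ≤ N ⊔ A := by rw [← hY]; exact hRA₁.trans le_sup_right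
  have hcR : Nat.card (R.subgroupOf (N ⊔ A)) = r ^ (Nat.card (N ⊔ A : Subgroup Y)).factorization r := by
    rw [hfk, ← hR]
    exact Nat.card_congr (Subgroup.subgroupOfEquivOfLe hRY).toEquiv
  have hcR₁ : Nat.card (R₁.subgroupOf (N ⊔ A)) = r ^ (Nat.card (N ⊔ A : Subgroup Y)).factorization r := by
    rw [hfk, ← hR₁]
    exact Nat.card_congr (Subgroup.subgroupOfEquivOfLe hRY₁).toEquiv
  let S : Sylow r (N ⊔ A : Subgroup Y) := Sylow.ofCard _ hcR
  let S₁ : Sylow r (N ⊔ A : Subgroup Y) := Sylow.ofCard _ hcR₁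
  obtain ⟨y, hy⟩ := MulAction.exists_smul_eq (N ⊔ A : Subgroup Y) S S₁
  obtain ⟨n, hn, a, ha, hyna⟩ := mem_sup hNA y.2
  refine ⟨n, hn, ?_⟩
  have hle : A₁ ≤ A.map (MulAut.conj n).toMonoidHom := by
    rw [hAR₁]
    refine sup_le (fun i hi => ?_) (fun x hx => ?_)
    · have h3 := hIN n⁻¹ (inv_mem hn) i hi
      rw [inv_inv] at h3
      exact ⟨n⁻¹ * i * n, hIA h3, by show n * (n⁻¹ * i * n) * n⁻¹ = i; group⟩
    · have hx' : (⟨x, hRY₁ hx⟩ : (N ⊔ A : Subgroup Y)) ∈ (S₁ : Subgroup (N ⊔ A : Subgroup Y)) :=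
        Subgroup.mem_subgroupOf.2 hx
      rw [← hy, Sylow.coe_subgroup_smul, Subgroup.mem_smul_pointwise_iff_exists] at hx'
      obtain ⟨s, hs, hsx⟩ := hx'
      have hs' : (s : Y) ∈ R := Subgroup.mem_subgroupOf.1 hs
      refine ⟨a * s * a⁻¹, mul_mem (mul_mem ha (hRA hs')) (inv_mem ha), ?_⟩
      have h4 : (y : Y) * s * (y : Y)⁻¹ = x := congrArg Subtype.val hsx
      show n * (a * s * a⁻¹) * n⁻¹ = x
      rw [← h4, hyna]
      group
  have hcard : Nat.card (A.map (MulAut.conj n).toMonoidHom) = Nat.card A₁ := by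
    rw [Subgroup.card_map_of_injective (MulAut.conj n).injective, card_of_relIndex hIA, card_of_relIndex hIA₁, hk, hl]
  exact (Subgroup.eq_of_le_of_card_ge hle hcard.le).symm

end Cfsg.Agent.H541.ConjAlign
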