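import Cfsg.Agent.H93.PReg.Base

/-!
# Arithmetic for the exceptional rows of S4883 (helper541)
-/

set_option autoImplicit false

namespace Cfsg.Agent.H541.PRegArith

open Cfsg Cfsg.Agent.H93.PReg Cfsg.Agent.H92.KTools

universe u

theorem exists_prime_ne {k N t : ℕ} (hN : N ≠ 0) (hkN : k ∣ N) (h9 : ¬ t ^ 2 ∣ N) (hk : ¬ k ∣ t) :
    ∃ r : ℕ, r.Prime ∧ r ∣ k ∧ r ≠ t := by
  by_contra hcon
  push Not at hcon
  have hk0 : k ≠ 0 := fun h => hN (Nat.eq_zero_of_zero_dvd (h ▸ hkN))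
  have h1 := Nat.eq_prime_pow_of_unique_prime_dvd hk0 fun {d} hd hdk => hcon d hd hdk
  have h2 : k.primeFactorsList.length ≤ 1 := by
    by_contra hlt
    push Not at hlt
    exact h9 (((pow_dvd_pow t hlt).trans (by rw [← h1])).trans hkN)
  refine hk ?_
  rw [h1]
  calc t ^ k.primeFactorsList.length ∣ t ^ 1 := pow_dvd_pow t h2
    _ = t := pow_one t

/-- a prime factor other than 2, 3, 5 -/
theorem exists_prime_ge_seven {N : ℕ} (h2 : ¬ 2 ∣ N) (h5 : ¬ 5 ∣ N) (h9 : ¬ 9 ∣ N) (hN : 3 < N) :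
    ∃ s : ℕ, s.Prime ∧ s ∣ N ∧ 7 ≤ s := by
  obtain ⟨r, hr, hrN, hr3⟩ := exists_prime_ne (k := N) (N := N) (t := 3) (by omega) dvd_rfl (by norm_num; exact h9)
    (fun h => by have := Nat.le_of_dvd (by norm_num) h; omega)
  refine ⟨r, hr, hrN, ?_⟩
  by_contra hlt
  push Not at hlt
  have h3 : r ≠ 2 := fun h => h2 (h ▸ hrN)
  have h4 : r ≠ 5 := fun h => h5 (h ▸ hrN)
  have h6 := hr.two_le
  interval_cases r
  · exact h3 rfl
  · exact hr3 rfl
  · exact absurd hr (by norm_num)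
  · exact h4 rfl
  · exact absurd hr (by norm_num)

variable {S : Type u} [Group S] [Finite S]

/-- element orders `1` and primes -/
theorem mo_primes (L : Finset ℕ) {p : ℕ} (hL : ∀ k ∈ L, k = 1 ∨ k.Prime ∧ k ∣ Nat.card S) (hA : ∀ k ∈ L, ¬ p ∣ k) :
    MO (Reg p) L.card S := by
  refine MO.of_finset L (fun k hk => ?_) fun k hk => hA k hk
  rcases hL k hk with rfl | ⟨h1, h2⟩
  · exact hasOrd_one S
  · exact hasOrd_prime h1 h2

omit [Finite S] in
/-- adding a set of element orders -/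
theorem mo_add (L : Finset ℕ) {p n : ℕ} {A : Set ℕ} (hL : ∀ k ∈ L, HasOrd S k) (hLp : ∀ k ∈ L, ¬ p ∣ k)
    (hLA : ∀ k ∈ L, k ∉ A) (h : MO A n S) (hA : A ⊆ Reg p) : MO (Reg p) (L.card + n) S := by
  have h1 : MO {k | k ∈ L} L.card S := MO.of_finset L hL fun k hk => hk
  have h2 : Disjoint {k : ℕ | k ∈ L} A := Set.disjoint_left.2 fun k hk hk2 => hLA k hk hk2
  refine (MO.add h2 h1 h).mono ?_ le_rfl
  rintro k (hk | hk)
  · exact hLp k hk
  · exact hA hk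

end Cfsg.Agent.H541.PRegArith
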