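import Cfsg.Agent.H541.PRegTorus
import Cfsg.Agent.H541.PRegArith
import Cfsg.Agent.H541.PRegFus
import Cfsg.Agent.H129.CycT2
import Cfsg.Agent.S2129
import Cfsg.Agent.H374.EightExc
import Cfsg.Agent.H426.SixExc
import Cfsg.Agent.H436.Names

/-!
# `³D₄(q)` has `p` orbits of `Aut` on the `p`-regular elements (for S4883, helper541)

* `tor12` : the torus of order `q⁴ - q² + 1`; `split` : the split torus (for the primes dividing `q⁴ - q² + 1`);
* `row_td4`.
-/

set_option autoImplicit false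
set_option linter.unusedSectionVars false

namespace Cfsg.Agent.H541.PRegTD4

open Subgroup Cfsg Cfsg.Lie Cfsg.Agent.H93.PReg Cfsg.Agent.H92.KTools Cfsg.Agent.H541.PRegTorus
  Cfsg.Agent.H541.PRegArith
open Cfsg.Agent.OrdDiv

universe u

section Arith

variable {q p : ℕ}

theorem cast12 (hq : 2 ≤ q) : ((q ^ 4 - q ^ 2 + 1 : ℕ) : ℤ) = 1 - (q : ℤ) ^ 2 + (q : ℤ) ^ 4 := by
  have h0 : q ^ 2 ≤ q ^ 4 := Nat.pow_le_pow_right (by omega) (by norm_num)
  push_cast [Nat.cast_sub h0]; ring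

theorem card_eq (hq : 2 ≤ q) : q ^ 12 * ((q ^ 2 - 1) * (q ^ 6 - 1) * (q ^ 8 + q ^ 4 + 1)) =
    q ^ 12 * ((q - 1) ^ 2 * ((q + 1) ^ 2 * ((q ^ 2 + q + 1) ^ 2 * ((q ^ 2 - q + 1) ^ 2 * (q ^ 4 - q ^ 2 + 1))))) := by
  have h0 : q ≤ q ^ 2 := by nlinarith
  have h1 : 1 ≤ q ^ 2 := Nat.one_le_pow _ _ (by omega)
  have h2 : 1 ≤ q ^ 6 := Nat.one_le_pow _ _ (by omega)
  have h3 : q ^ 2 ≤ q ^ 4 := Nat.pow_le_pow_right (by omega) (by norm_num)
  zify [h0, h1, h2, h3, (by omega : 1 ≤ q)]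
  ring

/-- a prime dividing `q⁴ - q² + 1` divides nothing else -/
theorem isolated (hq : 2 ≤ q) (hp : p.Prime) (h5 : 5 ≤ p) (h : p ∣ q ^ 4 - q ^ 2 + 1) :
    ¬ p ∣ q ∧ ¬ p ∣ q - 1 ∧ ¬ p ∣ q + 1 ∧ ¬ p ∣ q ^ 2 + q + 1 ∧ ¬ p ∣ q ^ 2 - q + 1 := by
  have hne : ∀ a : ℕ, 0 < a → a ≤ 4 → ¬ (p : ℤ) ∣ a := fun a ha ha' h => by
    have := Nat.le_of_dvd ha (Int.natCast_dvd_natCast.1 h); omega
  have hz : (p : ℤ) ∣ 1 - (q : ℤ) ^ 2 + (q : ℤ) ^ 4 := by
    rw [← cast12 hq]; exact Int.natCast_dvd_natCast.2 h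
  have hp1 : ¬ (p : ℤ) ∣ 1 := by exact_mod_cast hne 1 (by norm_num) (by norm_num)
  have hpq : ¬ (p : ℤ) ∣ (q : ℤ) := by
    intro h1
    apply hp1
    have : (1 : ℤ) = (1 - (q : ℤ) ^ 2 + (q : ℤ) ^ 4) - q * (q ^ 3 - q) := by ring
    rw [this]
    exact dvd_sub hz (h1.mul_right _)
  refine ⟨fun h1 => hpq (Int.natCast_dvd_natCast.2 h1), fun h1 => hp1 ?_, fun h1 => hp1 ?_, fun h1 => ?_, fun h1 => ?_⟩
  · have h2 : (p : ℤ) ∣ (q : ℤ) - 1 := by
      have := Int.natCast_dvd_natCast.2 h1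
      rwa [Nat.cast_sub (by omega), Nat.cast_one] at this
    have : (1 : ℤ) = (1 - (q : ℤ) ^ 2 + (q : ℤ) ^ 4) - (q - 1) * (q ^ 3 + q ^ 2) := by ring
    rw [this]
    exact dvd_sub hz (h2.mul_right _)
  · have h2 : (p : ℤ) ∣ (q : ℤ) + 1 := by exact_mod_cast Int.natCast_dvd_natCast.2 h1
    have : (1 : ℤ) = (1 - (q : ℤ) ^ 2 + (q : ℤ) ^ 4) - (q + 1) * (q ^ 3 - q ^ 2) := by ring
    rw [this]
    exact dvd_sub hz (h2.mul_right _)
  · have h2 : (p : ℤ) ∣ (q : ℤ) ^ 2 + q + 1 := by exact_mod_cast Int.natCast_dvd_natCast.2 h1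
    -- `Φ₁₂ ≡ 2 (1 + q) ...` : `2 (q + 1)` and `q² + q + 1`
    have h3 : (p : ℤ) ∣ 2 * ((q : ℤ) + 1) := by
      have : 2 * ((q : ℤ) + 1) = (1 - (q : ℤ) ^ 2 + (q : ℤ) ^ 4) - (q ^ 2 + q + 1) * (q ^ 2 - q - 1) := by ring
      rw [this]
      exact dvd_sub hz (h2.mul_right _)
    rcases Int.Prime.dvd_mul' hp h3 with h4 | h4
    · exact hne 2 (by norm_num) (by norm_num) h4
    · apply hp1
      have : (1 : ℤ) = ((q : ℤ) ^ 2 + q + 1) - (q + 1) * q := by ring
      rw [this]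
      exact dvd_sub h2 (h4.mul_right _)
  · have h2 : (p : ℤ) ∣ (q : ℤ) ^ 2 - q + 1 := by
      have := Int.natCast_dvd_natCast.2 h1
      have h0 : q ≤ q ^ 2 := by nlinarith
      push_cast [Nat.cast_sub h0] at this
      exact this
    have h3 : (p : ℤ) ∣ 2 * ((q : ℤ) - 1) := by
      have : 2 * ((q : ℤ) - 1) = (q ^ 2 - q + 1) * (q ^ 2 + q - 1) - (1 - (q : ℤ) ^ 2 + (q : ℤ) ^ 4) := by ring
      rw [this]
      exact dvd_sub (h2.mul_right _) hz
    rcases Int.Prime.dvd_mul' hp h3 with h4 | h4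
    · exact hne 2 (by norm_num) (by norm_num) h4
    · apply hp1
      have : (1 : ℤ) = ((q : ℤ) ^ 2 - q + 1) - (q - 1) * q := by ring
      rw [this]
      exact dvd_sub h2 (h4.mul_right _)

/-- the primes with `p² ∣ |³D₄(q)|` -/
theorem bound (hq : 2 ≤ q) (hp : p.Prime) (h5 : 5 ≤ p)
    (hd : p ^ 2 ∣ q ^ 12 * ((q ^ 2 - 1) * (q ^ 6 - 1) * (q ^ 8 + q ^ 4 + 1))) :
    (¬ p ∣ q ^ 4 - q ^ 2 + 1 ∧ p ≤ q ^ 2 + q + 1) ∨ p ^ 2 ∣ q ^ 4 - q ^ 2 + 1 := by
  by_cases h : p ∣ q ^ 4 - q ^ 2 + 1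
  · right
    obtain ⟨h1, h2, h3, h4, h6⟩ := isolated hq hp h5 h
    rw [card_eq hq] at hd
    have c : ∀ {a : ℕ} (k : ℕ), ¬ p ∣ a → (p ^ 2).Coprime (a ^ k) := fun k ha =>
      Nat.Coprime.pow _ _ ((Nat.Prime.coprime_iff_not_dvd hp).2 ha)
    exact (c _ h6).dvd_of_dvd_mul_left ((c _ h4).dvd_of_dvd_mul_left ((c _ h3).dvd_of_dvd_mul_left
      ((c _ h2).dvd_of_dvd_mul_left ((c _ h1).dvd_of_dvd_mul_left hd))))
  · left
    refine ⟨h, ?_⟩
    have hd' : p ∣ q ^ 12 * ((q - 1) ^ 2 * ((q + 1) ^ 2 * ((q ^ 2 + q + 1) ^ 2 * ((q ^ 2 - q + 1) ^ 2 *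
        (q ^ 4 - q ^ 2 + 1))))) := by
      rw [← card_eq hq]; exact (dvd_pow_self p two_ne_zero).trans hd
    have h0 : q ≤ q ^ 2 := by nlinarith
    have hle : ∀ a : ℕ, 0 < a → a ≤ q ^ 2 + q + 1 → p ∣ a → p ≤ q ^ 2 + q + 1 := fun a ha ha' h =>
      (Nat.le_of_dvd ha h).trans ha'
    rcases hp.dvd_mul.1 hd' with h1 | h1
    · exact hle q (by omega) (by omega) (hp.dvd_of_dvd_pow h1)
    rcases hp.dvd_mul.1 h1 with h1 | h1
    · exact hle (q - 1) (by omega) (by omega) (hp.dvd_of_dvd_pow h1)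
    rcases hp.dvd_mul.1 h1 with h1 | h1
    · exact hle (q + 1) (by omega) (by omega) (hp.dvd_of_dvd_pow h1)
    rcases hp.dvd_mul.1 h1 with h1 | h1
    · exact hle (q ^ 2 + q + 1) (by omega) (by omega) (hp.dvd_of_dvd_pow h1)
    rcases hp.dvd_mul.1 h1 with h1 | h1
    · exact hle (q ^ 2 - q + 1) (by omega) (by omega) (hp.dvd_of_dvd_pow h1)
    · exact absurd h1 h

theorem two_pow {f : ℕ} (h : 4 ≤ f) : 36 * f + 1 ≤ 2 ^ f * (2 ^ f - 1) := by
  have h1 : 36 * f + 1 ≤ 2 ^ f * 15 ∧ 16 ≤ 2 ^ f := by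
    induction f, h using Nat.le_induction with
    | base => norm_num
    | succ n hn ih => rw [pow_succ]; omega
  exact h1.1.trans (Nat.mul_le_mul le_rfl (by omega))

theorem three_pow {f : ℕ} (h : 3 ≤ f) : 36 * f + 1 ≤ 3 ^ f * (3 ^ f - 1) := by
  have h1 : 36 * f + 1 ≤ 3 ^ f * 26 ∧ 27 ≤ 3 ^ f := by
    induction f, h using Nat.le_induction with
    | base => norm_num
    | succ n hn ih => rw [pow_succ]; omega
  exact h1.1.trans (Nat.mul_le_mul le_rfl (by omega))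

theorem five_pow {f : ℕ} (h : 2 ≤ f) : 36 * f + 1 ≤ 5 ^ f * (5 ^ f - 1) := by
  have h1 : 36 * f + 1 ≤ 5 ^ f * 24 ∧ 25 ≤ 5 ^ f := by
    induction f, h using Nat.le_induction with
    | base => norm_num
    | succ n hn ih => rw [pow_succ]; omega
  exact h1.1.trans (Nat.mul_le_mul le_rfl (by omega))

theorem seven_pow {f : ℕ} (h : 1 ≤ f) : 36 * f + 1 ≤ 7 ^ f * (7 ^ f - 1) := by
  have h1 : 36 * f + 1 ≤ 7 ^ f * 6 ∧ 7 ≤ 7 ^ f := by
    induction f, h using Nat.le_induction with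
    | base => norm_num
    | succ n hn ih => rw [pow_succ]; omega
  exact h1.1.trans (Nat.mul_le_mul le_rfl (by omega))

theorem small {r f : ℕ} (hr : r.Prime) (hf : 0 < f) :
    36 * f + 1 ≤ r ^ f * (r ^ f - 1) ∧ 5 ≤ r ^ f ∨ r = 5 ∧ f = 1 ∨ r = 2 ∧ f = 1 ∨ r = 2 ∧ f = 2 ∨ r = 2 ∧ f = 3 ∨
      r = 3 ∧ f = 1 ∨ r = 3 ∧ f = 2 := by
  have hr2 := hr.two_le
  rcases Nat.lt_or_ge r 4 with h4 | h4
  · interval_cases r
    · rcases Nat.lt_or_ge f 4 with h | h
      · interval_cases f <;> simp_all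
      · left
        refine ⟨two_pow h, ?_⟩
        calc 5 ≤ 2 ^ 4 := by norm_num
          _ ≤ _ := Nat.pow_le_pow_right (by norm_num) h
    · rcases Nat.lt_or_ge f 3 with h | h
      · interval_cases f <;> simp_all
      · left
        refine ⟨three_pow h, ?_⟩
        calc 5 ≤ 3 ^ 3 := by norm_num
          _ ≤ _ := Nat.pow_le_pow_right (by norm_num) h
  · have hr5 : 5 ≤ r := by
      rcases Nat.lt_or_ge r 5 with h | h
      · have : r = 4 := by omega
        subst this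
        exact absurd hr (by norm_num)
      · exact h
    have hmono : ∀ a b : ℕ, a ≤ b → a * (a - 1) ≤ b * (b - 1) := fun a b h => Nat.mul_le_mul h (by omega)
    rcases Nat.lt_or_ge r 7 with h7 | h7
    · have h6 : r = 5 := by
        have : r = 5 ∨ r = 6 := by omega
        rcases this with rfl | rfl
        · rfl
        · exact absurd hr (by norm_num)
      subst h6
      rcases Nat.lt_or_ge f 2 with h | h
      · right; left; exact ⟨rfl, by omega⟩
      · left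
        refine ⟨five_pow h, ?_⟩
        calc 5 = 5 ^ 1 := by norm_num
          _ ≤ _ := Nat.pow_le_pow_right (by norm_num) (by omega)
    · left
      refine ⟨(seven_pow hf).trans (hmono _ _ (Nat.pow_le_pow_left h7 f)), ?_⟩
      calc 5 ≤ 7 ^ 1 := by norm_num
        _ ≤ 7 ^ f := Nat.pow_le_pow_right (by norm_num) hf
        _ ≤ r ^ f := Nat.pow_le_pow_left h7 f

end Arith

section Tor

variable {F : Type u} [Field F] [Fintype F] {q : ℕ}

/-- a prime factor `≥ 13` of `q⁴ - q² + 1` -/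
theorem exists_prime (hq : 2 ≤ q) : ∃ s : ℕ, s.Prime ∧ s ∣ q ^ 4 - q ^ 2 + 1 ∧ 5 ≤ s := by
  have h0 : q ^ 2 < q ^ 4 := Nat.pow_lt_pow_right (by omega) (by norm_num)
  obtain ⟨s, hs, hsN⟩ := Nat.exists_prime_and_dvd (n := q ^ 4 - q ^ 2 + 1) (by omega)
  refine ⟨s, hs, hsN, ?_⟩
  obtain ⟨h2, h3⟩ := H129.CycT.primes_12 (cast12 hq) hsN
  have := hs.two_le
  by_contra hlt
  push Not at hlt
  interval_cases s
  · exact h2 rfl
  · exact h3 rfl
  · exact absurd hs (by norm_num)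

/-- the torus of order `q⁴ - q² + 1` -/
theorem tor12 (hqp : IsPrimePow q) (hF : Fintype.card F = q ^ 3)
    (hcard : Nat.card ↥(twistedD4 F q) = q ^ 12 * ((q ^ 2 - 1) * (q ^ 6 - 1) * (q ^ 8 + q ^ 4 + 1))) :
    Iso ↥(twistedD4 F q) (q ^ 4 - q ^ 2 + 1) 1 4 := by
  have hq : 2 ≤ q := hqp.two_le
  obtain ⟨T, hc, hm, hT⟩ := H129.CycT.exact_tD4_12 (F := F) hqp hF (cast12 hq)
  obtain ⟨s, hs, hsN, hs5⟩ := exists_prime hq
  refine Iso.of_sylow (M := q ^ 12 * ((q - 1) ^ 2 * ((q + 1) ^ 2 * ((q ^ 2 + q + 1) ^ 2 * (q ^ 2 - q + 1) ^ 2))))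
    hc hm (fun y hy hy1 => hT y hy fun h => hy1 (by rw [h, one_pow])) ?_ hs hsN (fun h => ?_) ?_ (by omega)
  · rw [hcard, card_eq hq]; ring
  · exact hs.one_lt.ne' (Nat.dvd_one.1 h)
  · have h6 : (s : ℤ) ∣ 1 - (q : ℤ) ^ 2 + (q : ℤ) ^ 4 := by
      rw [← cast12 hq]; exact Int.natCast_dvd_natCast.2 hsN
    have h0 : q ≤ q ^ 2 := by nlinarith
    have h7 : (s : ℤ) ∣ ((q ^ 12 * ((q - 1) ^ 2 * ((q + 1) ^ 2 * ((q ^ 2 + q + 1) ^ 2 * (q ^ 2 - q + 1) ^ 2))) : ℕ) : ℤ)
        - 4 := by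
      push_cast [Nat.cast_sub h0, Nat.cast_sub (show 1 ≤ q by omega)]
      refine h6.trans ?_
      refine ⟨(q : ℤ) ^ 20 + q ^ 18 - 3 * q ^ 14 - 3 * q ^ 12 + 4 * q ^ 8 + 4 * q ^ 6 - 4 * q ^ 2 - 4, ?_⟩
      ring
    exact (Nat.modEq_iff_dvd.2 (by
      have := (dvd_neg.2 h7); rw [neg_sub] at this; exact_mod_cast this))

/-- **the split torus**: primes dividing `q⁴ - q² + 1` -/
theorem split (hqp : IsPrimePow q) (hF : Fintype.card F = q ^ 3) {r p n o : ℕ} [Fact r.Prime] [CharP F r]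
    (hp : p.Prime) (h5 : 5 ≤ p) (hpN : p ∣ q ^ 4 - q ^ 2 + 1) (ho : Nat.card (Out ↥(twistedD4 F q)) ≤ o)
    (hn : (n - 1) * (12 * o) < (q ^ 3 - 1) * (q - 1)) : MO (Reg p) n ↥(twistedD4 F q) := by
  classical
  have hq : 2 ≤ q := hqp.two_le
  obtain ⟨φ, hφ⟩ := ChevalleyStructure.D4Fixed.exists_frob hqp hF
  have hfW : Finite CoxeterMatrix.G₂.Group := Nat.finite_of_card_ne_zero (by rw [H129.CycT.cardW_G2]; norm_num)
  have R := Nodes.RGDTwD4.rgd CoxeterMatrix.G₂.toCoxeterSystem hF hφ r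
  have hG1 := Nodes.RGDTwD4.G1_eq_top CoxeterMatrix.G₂.toCoxeterSystem hF hφ
  have hcT : Nat.card ↥(Nodes.RGDTwD4.T F q) = (q ^ 3 - 1) * (q - 1) := H69.OutTwD4.card_T hqp hF
  obtain ⟨i1, i2, i3, i4, i5⟩ := isolated hq hp h5 hpN
  have hpT : ¬ p ∣ (q ^ 3 - 1) * (q - 1) := by
    have h1 : q ^ 3 - 1 = (q - 1) * (q ^ 2 + q + 1) := by
      have : 1 ≤ q ^ 3 := Nat.one_le_pow _ _ (by omega)
      zify [this, (by omega : 1 ≤ q)]
      ring
    rw [h1]
    intro h
    rcases hp.dvd_mul.1 h with h | h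
    · rcases hp.dvd_mul.1 h with h | h
      · exact i2 h
      · exact i4 h
    · exact i2 h
  have hfT : Fintype ↥(Nodes.RGDTwD4.T F q) := Fintype.ofFinite _
  let X : Finset ↥(twistedD4 F q) := (Finset.univ : Finset ↥(Nodes.RGDTwD4.T F q)).image Subtype.val
  have hX : ∀ x, x ∈ X ↔ x ∈ Nodes.RGDTwD4.T F q := by
    intro x
    constructor
    · intro hx
      obtain ⟨y, -, rfl⟩ := Finset.mem_image.1 hx
      exact y.2
    · intro hx
      exact Finset.mem_image.2 ⟨⟨x, hx⟩, Finset.mem_univ _, rfl⟩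
  have hcX : X.card = (q ^ 3 - 1) * (q - 1) := by
    rw [← hcT, Nat.card_eq_fintype_card, ← Finset.card_univ]
    exact Finset.card_image_of_injective _ Subtype.val_injective
  refine MO.of_count X (fun x hx hpx => ?_) (12 * o) (fun x _ Y hYX hY => ?_) (by rw [hcX]; exact hn)
  · apply hpT
    rw [← hcT]
    exact hpx.trans (Subgroup.orderOf_dvd_natCard _ ((hX x).1 hx))
  · refine card_le_of_fusion (T := Nodes.RGDTwD4.T F q)
      (N := Nodes.Reps.NN CoxeterMatrix.G₂.toCoxeterSystem R.nsys) (PRegFus.T_le_NN R) ?_ ho (X := X) ?_ ?_ hYX hY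
    · have := PRegFus.card_NN_le R
      rwa [H129.CycT.cardW_G2] at this
    · intro x hx t ht
      exact ParSys.Fam.D4.T_comm t ht x ((hX x).1 hx)
    · intro x hx g hg
      refine PRegFus.fusion R (fun a ha b hb => ParSys.Fam.D4.T_comm a ha b hb) ((hX x).1 hx) ?_ ((hX _).1 hg)
      have h1 : g ∈ Nodes.RGDLib.G1 CoxeterMatrix.G₂.toCoxeterSystem Nodes.RGDTwD4.isCartan
          (Nodes.RGDTwD4.X φ q) := by rw [hG1]; exact mem_top g
      exact (le_sup_right : _ ≤ Nodes.RGDTwD4.T F q ⊔ _) h1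

end Tor

section Row

/-- the general case -/
theorem general {F : Type u} [Field F] [Fintype F] {q : ℕ} (hqp : IsPrimePow q) (hF : Fintype.card F = q ^ 3)
    {r p o : ℕ} [Fact r.Prime] [CharP F r] (hp : p.Prime) (h5 : 5 ≤ p)
    (h12 : Iso ↥(twistedD4 F q) (q ^ 4 - q ^ 2 + 1) 1 4) (ho : Nat.card (Out ↥(twistedD4 F q)) ≤ o)
    (hb : (¬ p ∣ q ^ 4 - q ^ 2 + 1 ∧ p ≤ q ^ 2 + q + 1) ∨ p ^ 2 ∣ q ^ 4 - q ^ 2 + 1) (hq5 : 5 ≤ q)
    (hoq : 12 * o + 1 ≤ q * (q - 1)) : MO (Reg p) p ↥(twistedD4 F q) := by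
  obtain ⟨t, rfl⟩ : ∃ t, q = t + 5 := ⟨q - 5, by omega⟩
  have e0 : t + 5 - 1 = t + 4 := by omega
  rw [e0] at hoq
  rcases hb with ⟨h1, h2⟩ | h1
  · refine h12.MO one_pos ho dvd_rfl (fun k hk _ hpk => h1 (hpk.trans hk)) ?_
    have h3 : (p - 1) * (4 * o) * 3 ≤ ((t + 5) ^ 2 + (t + 5)) * ((t + 5) * (t + 4) - 1) := by
      rw [mul_assoc]
      exact Nat.mul_le_mul (by omega) (by omega)
    have h4 : ((t + 5) * (t + 4) - 1) + 1 = (t + 5) * (t + 4) := by
      have : 1 ≤ (t + 5) * (t + 4) := Nat.one_le_iff_ne_zero.2 (by positivity)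
      omega
    have h5' : ((t + 5) ^ 2 + (t + 5)) * ((t + 5) * (t + 4)) < (t + 5) ^ 4 - (t + 5) ^ 2 + 1 := by
      have h6 : (t + 5) ^ 2 ≤ (t + 5) ^ 4 := Nat.pow_le_pow_right (by omega) (by norm_num)
      zify [h6]
      nlinarith
    have h7 : ((t + 5) ^ 2 + (t + 5)) * ((t + 5) * (t + 4) - 1) ≤ ((t + 5) ^ 2 + (t + 5)) * ((t + 5) * (t + 4)) :=
      Nat.mul_le_mul le_rfl (by omega)
    have h8 : 0 < t + 5 := by omega
    generalize hA : (p - 1) * (4 * o) = A at h3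
    generalize hB : ((t + 5) ^ 2 + (t + 5)) * ((t + 5) * (t + 4) - 1) = B at h3 h7
    rcases Nat.eq_zero_or_pos A with h9 | h9
    · rw [h9]
      have : (t + 5) ^ 2 < (t + 5) ^ 4 := Nat.pow_lt_pow_right (by omega) (by norm_num)
      omega
    · omega
  · have hp2 : p ^ 2 ≤ (t + 5) ^ 4 - (t + 5) ^ 2 + 1 := Nat.le_of_dvd (by omega) h1
    have h6 : (t + 5) ^ 2 < (t + 5) ^ 4 := Nat.pow_lt_pow_right (by omega) (by norm_num)
    have h26 : 25 ≤ (t + 5) ^ 2 := by nlinarith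
    have hpq : p < (t + 5) ^ 2 := by
      by_contra hlt
      push Not at hlt
      have h3 := Nat.pow_le_pow_left hlt 2
      rw [← pow_mul] at h3
      norm_num at h3
      omega
    refine split hqp hF hp h5 ((dvd_pow_self p two_ne_zero).trans h1) ho ?_
    rw [e0]
    have h3 : (p - 1) * (12 * o) ≤ ((t + 5) ^ 2 - 2) * ((t + 5) * (t + 4) - 1) :=
      Nat.mul_le_mul (by omega) (by omega)
    refine lt_of_le_of_lt h3 ?_
    have h4 : 1 ≤ (t + 5) * (t + 4) := Nat.one_le_iff_ne_zero.2 (by positivity)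
    have h7 : 1 ≤ (t + 5) ^ 3 := Nat.one_le_pow _ _ (by omega)
    have h8 : 2 ≤ (t + 5) ^ 2 := by omega
    zify [h4, h7, h8]
    nlinarith

/-- **the row of `³D₄(q)`** -/
theorem row_td4 {S : Type u} [Group S] [Finite S] {q : ℕ} (h : Cfsg.Agent.H436.IsNamed (.td4 q) S) : Row S := by
  obtain ⟨F, _, _, hF, ⟨e⟩⟩ := h.real
  have hqp : IsPrimePow q := h.cond
  have hq2 : 2 ≤ q := hqp.two_le
  have hcard : Nat.card ↥(twistedD4 F q) = q ^ 12 * ((q ^ 2 - 1) * (q ^ 6 - 1) * (q ^ 8 + q ^ 4 + 1)) := by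
    rw [← Nat.card_congr e.toEquiv]
    have := h.eq
    have h2 : Cfsg.Agent.H436.den (.td4 q) = 1 := rfl
    rw [h2, one_mul] at this
    exact this
  refine Row.congr e.symm ?_
  have hfin : Finite ↥(twistedD4 F q) := Finite.of_equiv S e.toEquiv
  obtain ⟨r, f, hr, hf, hrf⟩ := (isPrimePow_nat_iff q).1 hqp
  have hFr : Fact r.Prime := ⟨hr⟩
  have hF' : Fintype.card F = r ^ (3 * f) := by rw [hF, ← hrf, ← pow_mul, mul_comm]
  have hch : CharP F r := charP_of_card_eq_prime_pow hF'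
  have hout := Cfsg.Agent.S2129.result (K := F) r f hF' hf
  rw [hrf] at hout
  have h12 := tor12 hqp hF hcard
  intro p hp h5 hpd
  rw [hcard] at hpd
  have hb := bound hq2 hp h5 hpd
  rcases small hr hf with h | h | h | h | h | h | h
  · rw [hrf] at h
    exact general hqp hF hp h5 h12 hout.le hb h.2 (by have := h.1; omega)
  all_goals
    obtain ⟨rfl, rfl⟩ := h
    norm_num at hrf
    subst hrf
  · -- q = 5
    rcases hb with ⟨h1, h2⟩ | h1
    · refine h12.MO one_pos hout.le dvd_rfl (fun k hk _ hpk => h1 (hpk.trans hk)) ?_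
      norm_num at h2 ⊢
      omega
    · exfalso
      norm_num at h1
      have h3 : Nat.Prime 601 := by norm_num
      have h4 := (Nat.prime_dvd_prime_iff_eq hp h3).1 ((dvd_pow_self p two_ne_zero).trans h1)
      subst h4
      norm_num at h1
  · -- q = 2
    have h7 : p = 7 := by
      rcases hb with ⟨h1, h2⟩ | h1
      · norm_num at h2
        interval_cases p <;> first | rfl | (exfalso; revert hp; norm_num; done) | (exfalso; revert hpd; norm_num)
      · exfalso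
        norm_num at h1
        have h4 := Nat.le_of_dvd (by norm_num) h1
        nlinarith
    subst h7
    have h8 : HasOrd ↥(twistedD4 F 2) 8 := Cfsg.Agent.H374.EightExc.twD4 ⟨F, _, _, 2, hqp, hF, ⟨MulEquiv.refl _⟩⟩
    have h6 : HasOrd ↥(twistedD4 F 2) 6 :=
      Cfsg.Agent.H426.SixExc.td4 2 hqp hF Nat.prime_three (by norm_num) (by norm_num)
    refine MO.of_finset {1, 2, 3, 4, 6, 8, 13} (fun k hk => ?_) (fun k hk => ?_)
    · simp only [Finset.mem_insert, Finset.mem_singleton] at hk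
      rcases hk with rfl | rfl | rfl | rfl | rfl | rfl | rfl
      · exact hasOrd_one _
      · exact h8.of_dvd (by norm_num) (by norm_num)
      · exact h6.of_dvd (by norm_num) (by norm_num)
      · exact h8.of_dvd (by norm_num) (by norm_num)
      · exact h6
      · exact h8
      · exact hasOrd_prime (by norm_num) (by rw [hcard]; norm_num)
    · simp only [Finset.mem_insert, Finset.mem_singleton] at hk
      rcases hk with rfl | rfl | rfl | rfl | rfl | rfl | rfl <;> show ¬ _ ∣ _ <;> norm_num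
  · -- q = 4
    have h7 : p = 5 ∨ p = 7 ∨ p = 13 := by
      rcases hb with ⟨h1, h2⟩ | h1
      · norm_num at h2
        interval_cases p <;> first | (left; rfl) | (right; left; rfl) | (right; right; rfl) |
          (exfalso; revert hp; norm_num; done) | (exfalso; revert hpd; norm_num)
      · exfalso
        norm_num at h1
        have h3 : Nat.Prime 241 := by norm_num
        have h4 := (Nat.prime_dvd_prime_iff_eq hp h3).1 ((dvd_pow_self p two_ne_zero).trans h1)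
        subst h4
        norm_num at h1
    have h10 : MO {k | k ∣ 241 ∧ ¬ k ∣ 1} 10 ↥(twistedD4 F 4) :=
      h12.MO one_pos hout.le dvd_rfl (fun k hk hk3 => ⟨hk, hk3⟩) (by norm_num)
    rcases h7 with rfl | rfl | rfl
    · refine h10.mono (fun k hk h => ?_) (by norm_num)
      have := h.trans hk.1
      norm_num at this
    · refine h10.mono (fun k hk h => ?_) (by norm_num)
      have := h.trans hk.1
      norm_num at this
    · refine (mo_add (L := {1, 2, 3}) (n := 10) (p := 13) (fun k hk => ?_) (by decide) ?_ h10 ?_)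
      · simp only [Finset.mem_insert, Finset.mem_singleton] at hk
        rcases hk with rfl | rfl | rfl
        · exact hasOrd_one _
        · exact hasOrd_prime Nat.prime_two (by rw [hcard]; norm_num)
        · exact hasOrd_prime Nat.prime_three (by rw [hcard]; norm_num)
      · intro k hk
        simp only [Finset.mem_insert, Finset.mem_singleton] at hk
        rcases hk with rfl | rfl | rfl <;> simp
      · rintro k ⟨hk, -⟩ h
        have := h.trans hk
        norm_num at this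
  · -- q = 8
    rcases hb with ⟨h1, h2⟩ | h1
    · refine h12.MO one_pos hout.le dvd_rfl (fun k hk _ hpk => h1 (hpk.trans hk)) ?_
      norm_num at h2 ⊢
      omega
    · exfalso
      norm_num at h1
      have h3 : Nat.Prime 37 := by norm_num
      have h3' : Nat.Prime 109 := by norm_num
      have h4 : p ∣ 37 * 109 := (dvd_pow_self p two_ne_zero).trans (by norm_num; exact h1)
      rcases hp.dvd_mul.1 h4 with h4 | h4
      · have h4 := (Nat.prime_dvd_prime_iff_eq hp h3).1 h4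
        subst h4
        norm_num at h1
      · have h4 := (Nat.prime_dvd_prime_iff_eq hp h3').1 h4
        subst h4
        norm_num at h1
  · -- q = 3
    have h7 : p = 7 ∨ p = 13 := by
      rcases hb with ⟨h1, h2⟩ | h1
      · norm_num at h2
        interval_cases p <;> first | (left; rfl) | (right; rfl) |
          (exfalso; revert hp; norm_num; done) | (exfalso; revert hpd; norm_num)
      · exfalso
        norm_num at h1
        have h3 : Nat.Prime 73 := by norm_num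
        have h4 := (Nat.prime_dvd_prime_iff_eq hp h3).1 ((dvd_pow_self p two_ne_zero).trans h1)
        subst h4
        norm_num at h1
    have h10 : MO {k | k ∣ 73 ∧ ¬ k ∣ 1} 6 ↥(twistedD4 F 3) :=
      h12.MO one_pos hout.le dvd_rfl (fun k hk hk3 => ⟨hk, hk3⟩) (by norm_num)
    rcases h7 with rfl | rfl
    · refine (mo_add (L := {1}) (n := 6) (p := 7) (fun k hk => ?_) (by decide) ?_ h10 ?_)
      · simp only [Finset.mem_singleton] at hk
        subst hk
        exact hasOrd_one _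
      · intro k hk
        simp only [Finset.mem_singleton] at hk
        subst hk
        simp
      · rintro k ⟨hk, -⟩ h
        have := h.trans hk
        norm_num at this
    · have h8 : HasOrd ↥(twistedD4 F 3) 8 :=
        Cfsg.Agent.H374.EightExc.twD4 ⟨F, _, _, 3, hqp, hF, ⟨MulEquiv.refl _⟩⟩
      have h6 : HasOrd ↥(twistedD4 F 3) 6 :=
        Cfsg.Agent.H426.SixExc.td4 3 hqp hF Nat.prime_two (by norm_num) (by norm_num)
      refine (mo_add (L := {1, 2, 3, 4, 6, 7, 8}) (n := 6) (p := 13) (fun k hk => ?_) (by decide) ?_ h10 ?_)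
      · simp only [Finset.mem_insert, Finset.mem_singleton] at hk
        rcases hk with rfl | rfl | rfl | rfl | rfl | rfl | rfl
        · exact hasOrd_one _
        · exact h8.of_dvd (by norm_num) (by norm_num)
        · exact h6.of_dvd (by norm_num) (by norm_num)
        · exact h8.of_dvd (by norm_num) (by norm_num)
        · exact h6
        · exact hasOrd_prime (by norm_num) (by rw [hcard]; norm_num)
        · exact h8
      · intro k hk
        simp only [Finset.mem_insert, Finset.mem_singleton] at hk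
        rcases hk with rfl | rfl | rfl | rfl | rfl | rfl | rfl <;> simp <;> norm_num
      · rintro k ⟨hk, -⟩ h
        have := h.trans hk
        norm_num at this
  · -- q = 9
    have h3 : Nat.Prime 6481 := by norm_num
    rcases hb with ⟨h1, h2⟩ | h1
    · refine h12.MO one_pos hout.le dvd_rfl (fun k hk _ hpk => h1 (hpk.trans hk)) ?_
      norm_num at h2 ⊢
      omega
    · exfalso
      norm_num at h1
      have h4 := (Nat.prime_dvd_prime_iff_eq hp h3).1 ((dvd_pow_self p two_ne_zero).trans h1)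
      subst h4
      norm_num at h1

end Row

end Cfsg.Agent.H541.PRegTD4
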