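import Mathlib
import Cfsg.Agent.Lib.FrattiniPGroup

/-!
# Generating tuples of a finite `p`-group and the order of its automorphism group

* `card_gen`: number of generating `r`-tuples of an elementary abelian group of order `p^r`.
* `card_genP`: number of generating `r`-tuples of a `p`-group with `|P/Φ(P)| = p^r`.
* `card_aut_dvd`, `card_dvd_of_trivial`: Burnside/Hall bounds for automorphisms.
-/

set_option autoImplicit false

namespace Cfsg.Agent.H541.AutFrattini

open Subgroup

/-- A group acting freely on a finite set has order dividing the size of the set. -/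
theorem card_dvd_of_free {Z : Type*} [Group Z] [Finite Z] {X : Type*} [Finite X] [MulAction Z X]
    (hfree : ∀ a : X, MulAction.stabilizer Z a = ⊥) : Nat.card Z ∣ Nat.card X := by
  classical
  have e := MulAction.selfEquivSigmaOrbitsQuotientStabilizer Z X
  have : Fintype (Quotient (MulAction.orbitRel Z X)) := Fintype.ofFinite _
  rw [Nat.card_congr e, Nat.card_sigma]
  apply Finset.dvd_sum
  intro i _
  rw [hfree, ← Subgroup.index, Subgroup.index_bot]

/-- The number of generating `r`-tuples of an elementary abelian group of order `p^r`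
(additive version). -/
theorem card_gen_add {V : Type*} [AddCommGroup V] [Finite V] {p r : ℕ} [hp : Fact p.Prime]
    [Module (ZMod p) V] (hcard : Nat.card V = p ^ r) :
    Nat.card {u : Fin r → V // AddSubgroup.closure (Set.range u) = ⊤} =
      ∏ i ∈ Finset.range r, (p ^ r - p ^ i) := by
  have hfin : Module.finrank (ZMod p) V = r := by
    have h1 := Module.natCard_eq_pow_finrank (K := ZMod p) (V := V)
    rw [hcard, Nat.card_zmod] at h1
    exact (Nat.pow_right_injective hp.out.two_le h1).symm
  have h := card_linearIndependent (K := ZMod p) (V := V) (k := r) (le_of_eq hfin.symm)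
  rw [hfin, ZMod.card, Fin.prod_univ_eq_prod_range (fun i => p ^ r - p ^ i)] at h
  rw [← h]
  refine Nat.card_congr (Equiv.subtypeEquiv (Equiv.refl _) ?_)
  intro u
  have h3 : LinearIndependent (ZMod p) u ↔ Submodule.span (ZMod p) (Set.range u) = ⊤ := by
    constructor
    · intro hli
      exact hli.span_eq_top_of_card_eq_finrank' (by rw [Fintype.card_fin, hfin])
    · intro hs
      exact linearIndependent_of_top_le_span_of_card_eq_finrank hs.ge
        (by rw [Fintype.card_fin, hfin])
  change _ ↔ LinearIndependent (ZMod p) u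
  rw [h3]
  have h4 : Submodule.span (ZMod p) (Set.range u) =
      AddSubgroup.toZModSubmodule p (AddSubgroup.closure (Set.range u)) := by
    apply le_antisymm
    · rw [Submodule.span_le]
      intro x hx
      exact AddSubgroup.subset_closure hx
    · have : AddSubgroup.closure (Set.range u) ≤
          (Submodule.span (ZMod p) (Set.range u)).toAddSubgroup := by
        rw [AddSubgroup.closure_le]
        exact Submodule.subset_span
      intro x hx
      exact this hx
  rw [h4]
  constructor
  · intro hc
    rw [hc]
    exact map_top _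
  · intro hc
    exact (AddSubgroup.toZModSubmodule p (M := V)).injective (hc.trans (map_top _).symm)

/-- The number of generating `r`-tuples of an elementary abelian group of order `p^r`. -/
theorem card_gen {V : Type*} [CommGroup V] [Finite V] {p r : ℕ} [hp : Fact p.Prime]
    (hpow : ∀ a : V, a ^ p = 1) (hcard : Nat.card V = p ^ r) :
    Nat.card {u : Fin r → V // closure (Set.range u) = ⊤} =
      ∏ i ∈ Finset.range r, (p ^ r - p ^ i) := by
  let _ : Module (ZMod p) (Additive V) := AddCommGroup.zmodModule (n := p) (fun x => by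
    have := hpow x.toMul
    exact this)
  have h2 : Nat.card (Additive V) = p ^ r := hcard
  rw [← card_gen_add (V := Additive V) h2]
  refine Nat.card_congr (Equiv.subtypeEquiv (Equiv.refl _) ?_)
  intro u
  have h5 : AddSubgroup.closure (Set.range (α := Additive V) u) =
      Subgroup.toAddSubgroup (closure (Set.range u)) := by
    apply le_antisymm
    · rw [AddSubgroup.closure_le]
      rintro _ ⟨i, rfl⟩
      change (u i : V) ∈ closure (Set.range u)
      exact Subgroup.subset_closure (Set.mem_range_self i)
    · rw [← AddSubgroup.toSubgroup'.le_iff_le]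
      change closure (Set.range u) ≤ _
      rw [closure_le]
      rintro _ ⟨i, rfl⟩
      exact AddSubgroup.subset_closure (G := Additive V) (Set.mem_range_self (α := Additive V) i)
  change _ ↔ AddSubgroup.closure (Set.range (α := Additive V) u) = ⊤
  rw [h5]
  constructor
  · intro hc
    rw [hc]
    rfl
  · intro hc
    rw [eq_top_iff]
    intro x _
    have : (Additive.ofMul x) ∈ (Subgroup.toAddSubgroup (closure (Set.range u))) := by
      rw [hc]; trivial
    exact this

section
variable {P : Type*} [Group P]

theorem card_fiber (N : Subgroup P) (u : P ⧸ N) :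
    Nat.card {x : P // (x : P ⧸ N) = u} = Nat.card N := by
  induction u using QuotientGroup.induction_on with
  | H g =>
    refine Nat.card_congr ⟨fun x => ⟨g⁻¹ * x.1, ?_⟩, fun n => ⟨g * n.1, ?_⟩, ?_, ?_⟩
    · exact QuotientGroup.eq.mp x.2.symm
    · exact (QuotientGroup.eq.mpr (by simp)).symm
    · intro x; ext; simp
    · intro x; ext; simp

/-- The tuples lifting a given tuple of cosets. -/
theorem card_fiber_tuple (N : Subgroup P) {r : ℕ} (u : Fin r → P ⧸ N) :
    Nat.card {t : Fin r → P // (fun i => (t i : P ⧸ N)) = u} = Nat.card N ^ r := by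
  have e : {t : Fin r → P // (fun i => (t i : P ⧸ N)) = u} ≃
      ((i : Fin r) → {x : P // (x : P ⧸ N) = u i}) :=
    ⟨fun t i => ⟨t.1 i, congrFun t.2 i⟩, fun f => ⟨fun i => (f i).1, funext fun i => (f i).2⟩,
      fun t => rfl, fun f => rfl⟩
  rw [Nat.card_congr e, Nat.card_pi]
  simp [card_fiber]

/-- Tuples generate iff they generate modulo the Frattini subgroup. -/
theorem gen_iff [Finite P] {r : ℕ} (t : Fin r → P) :
    closure (Set.range t) = ⊤ ↔
      closure (Set.range fun i => (t i : P ⧸ frattini P)) = ⊤ := by
  have h1 : closure (Set.range fun i => (t i : P ⧸ frattini P)) =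
      (closure (Set.range t)).map (QuotientGroup.mk' (frattini P)) := by
    rw [MonoidHom.map_closure, ← Set.range_comp]
    rfl
  rw [h1]
  constructor
  · intro h
    rw [h, Subgroup.map_top_of_surjective _ (QuotientGroup.mk'_surjective _)]
  · intro h
    apply frattini_nongenerating
    rw [eq_top_iff]
    intro x _
    have h2 : (QuotientGroup.mk' (frattini P)) x ∈
        (closure (Set.range t)).map (QuotientGroup.mk' (frattini P)) := by rw [h]; trivial
    obtain ⟨y, hy, hxy⟩ := h2
    have h4 : y⁻¹ * x ∈ frattini P := QuotientGroup.eq.mp hxy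
    have := mul_mem (mem_sup_left hy : y ∈ closure (Set.range t) ⊔ frattini P)
      (mem_sup_right h4 : y⁻¹ * x ∈ closure (Set.range t) ⊔ frattini P)
    simpa using this

theorem quot_comm [Finite P] {p : ℕ} [Fact p.Prime] (hP : IsPGroup p P) (a b : P ⧸ frattini P) :
    a * b = b * a := by
  induction a using QuotientGroup.induction_on with | H a =>
  induction b using QuotientGroup.induction_on with | H b =>
  have h1 := (QuotientGroup.eq_one_iff (N := frattini P) _).mpr
    (Cfsg.Agent.Lib.FrattiniPGroup.commutator_mem_frattini hP a b)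
  have h2 : ((a * b * a⁻¹ * b⁻¹ : P) : P ⧸ frattini P) =
      (a : P ⧸ frattini P) * b * (a : P ⧸ frattini P)⁻¹ * (b : P ⧸ frattini P)⁻¹ := rfl
  rw [commutatorElement_def, h2] at h1
  rw [mul_inv_eq_one, mul_inv_eq_iff_eq_mul] at h1
  exact h1

theorem quot_pow [Finite P] {p : ℕ} [Fact p.Prime] (hP : IsPGroup p P) (a : P ⧸ frattini P) :
    a ^ p = 1 := by
  induction a using QuotientGroup.induction_on with | H a =>
  exact (QuotientGroup.eq_one_iff (N := frattini P) _).mpr
    (Cfsg.Agent.Lib.FrattiniPGroup.pow_mem_frattini hP a)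

/-- The number of generating `r`-tuples of `P ⧸ Φ(P)`. -/
theorem card_genQ [Finite P] {p r : ℕ} [hp : Fact p.Prime] (hP : IsPGroup p P)
    (hr : (frattini P).index = p ^ r) :
    Nat.card {u : Fin r → P ⧸ frattini P // closure (Set.range u) = ⊤} =
      ∏ i ∈ Finset.range r, (p ^ r - p ^ i) := by
  let _ : CommGroup (P ⧸ frattini P) :=
    { (inferInstance : Group (P ⧸ frattini P)) with mul_comm := quot_comm hP }
  exact card_gen (quot_pow hP) hr

/-- The number of generating `r`-tuples of `P`. -/
theorem card_genP [Finite P] {p r : ℕ} [hp : Fact p.Prime] (hP : IsPGroup p P)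
    (hr : (frattini P).index = p ^ r) :
    Nat.card {t : Fin r → P // closure (Set.range t) = ⊤} =
      Nat.card (frattini P) ^ r * ∏ i ∈ Finset.range r, (p ^ r - p ^ i) := by
  have e : {t : Fin r → P // closure (Set.range t) = ⊤} ≃
      Σ u : {u : Fin r → P ⧸ frattini P // closure (Set.range u) = ⊤},
        {t : Fin r → P // (fun i => (t i : P ⧸ frattini P)) = u.1} :=
    ⟨fun t => ⟨⟨fun i => (t.1 i : P ⧸ frattini P), (gen_iff t.1).mp t.2⟩, ⟨t.1, rfl⟩⟩,
      fun s => ⟨s.2.1, (gen_iff s.2.1).mpr (by rw [s.2.2]; exact s.1.2)⟩,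
      fun t => rfl, fun s => by
        obtain ⟨⟨u, hu⟩, ⟨t, ht⟩⟩ := s
        simp only at ht
        subst ht
        rfl⟩
  have : Fintype {u : Fin r → P ⧸ frattini P // closure (Set.range u) = ⊤} := Fintype.ofFinite _
  rw [Nat.card_congr e, Nat.card_sigma]
  simp only [card_fiber_tuple, Finset.sum_const, smul_eq_mul, Finset.card_univ]
  rw [← Nat.card_eq_fintype_card, card_genQ hP hr, mul_comm]

/-- An automorphism fixing a generating tuple is trivial. -/
theorem eq_one_of_fix {r : ℕ} {t : Fin r → P} (ht : closure (Set.range t) = ⊤)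
    (α : MulAut P) (h : ∀ i, α (t i) = t i) : α = 1 := by
  have h1 : (⊤ : Subgroup P) ≤ MonoidHom.eqLocus α.toMonoidHom (MonoidHom.id P) := by
    rw [← ht, closure_le]
    rintro _ ⟨i, rfl⟩
    exact h i
  ext x
  exact h1 (mem_top x)

theorem card_frattini [Finite P] {p n r : ℕ} [hp : Fact p.Prime] (hP : Nat.card P = p ^ n)
    (hr : (frattini P).index = p ^ r) : Nat.card (frattini P) = p ^ (n - r) ∧ r ≤ n := by
  have h := (frattini P).card_mul_index
  rw [hP, hr] at h
  have h1 : p ^ r ∣ p ^ n := ⟨Nat.card (frattini P), by rw [← h]; ring⟩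
  have h2 : r ≤ n := (Nat.pow_dvd_pow_iff_le_right hp.out.one_lt).mp h1
  refine ⟨?_, h2⟩
  have h3 : p ^ n = p ^ (n - r) * p ^ r := by rw [← pow_add]; congr 1; omega
  rw [h3] at h
  exact Nat.eq_of_mul_eq_mul_right (pow_pos hp.out.pos r) h

/-- Automorphisms move generating tuples to generating tuples. -/
theorem gen_image {r : ℕ} {t : Fin r → P} (ht : closure (Set.range t) = ⊤) (α : MulAut P) :
    closure (Set.range fun i => α (t i)) = ⊤ := by
  have : (Set.range fun i => α (t i)) = α.toMonoidHom '' Set.range t := by
    rw [← Set.range_comp]; rfl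
  rw [this, ← MonoidHom.map_closure, ht]
  exact Subgroup.map_top_of_surjective _ α.surjective

/-- **The order of the automorphism group of a finite `p`-group.** -/
theorem card_aut_dvd [Finite P] {p n r : ℕ} [hp : Fact p.Prime] (hP : Nat.card P = p ^ n)
    (hr : (frattini P).index = p ^ r) :
    Nat.card (MulAut P) ∣ p ^ (r * (n - r)) * ∏ i ∈ Finset.range r, (p ^ r - p ^ i) := by
  have hP' : IsPGroup p P := IsPGroup.of_card hP
  let _ : MulAction (MulAut P) {t : Fin r → P // closure (Set.range t) = ⊤} :=
    { smul := fun α t => ⟨fun i => α (t.1 i), gen_image t.2 α⟩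
      one_smul := fun t => rfl
      mul_smul := fun α β t => rfl }
  have hfree : ∀ a : {t : Fin r → P // closure (Set.range t) = ⊤},
      MulAction.stabilizer (MulAut P) a = ⊥ := by
    intro a
    rw [eq_bot_iff]
    intro α hα
    rw [MulAction.mem_stabilizer_iff] at hα
    rw [mem_bot]
    refine eq_one_of_fix a.2 α fun i => ?_
    have h1 : (α • a).1 i = a.1 i := by rw [hα]
    exact h1
  have h := card_dvd_of_free hfree
  rw [card_genP hP' hr, (card_frattini hP hr).1, ← pow_mul, mul_comm (n - r) r] at h
  exact h

/-- **Automorphisms trivial on the Frattini quotient.** -/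
theorem card_dvd_of_trivial [Finite P] {p n r : ℕ} [hp : Fact p.Prime] (hP : Nat.card P = p ^ n)
    (hr : (frattini P).index = p ^ r) (A : Subgroup (MulAut P))
    (hA : ∀ α ∈ A, ∀ x : P, α x * x⁻¹ ∈ frattini P) :
    Nat.card A ∣ p ^ (r * (n - r)) := by
  have hP' : IsPGroup p P := IsPGroup.of_card hP
  -- there is a generating tuple
  obtain ⟨u, hu⟩ : ∃ u : Fin r → P ⧸ frattini P, closure (Set.range u) = ⊤ := by
    have h1 := card_genQ hP' hr
    have h2 : 0 < ∏ i ∈ Finset.range r, (p ^ r - p ^ i) := by
      apply Finset.prod_pos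
      intro i hi
      rw [Finset.mem_range] at hi
      exact Nat.sub_pos_of_lt (Nat.pow_lt_pow_right hp.out.one_lt hi)
    rw [← h1] at h2
    obtain ⟨⟨u, hu⟩⟩ := (Nat.card_pos_iff.mp h2).1
    exact ⟨u, hu⟩
  have hmk : ∀ α ∈ A, ∀ x : P, ((α x : P) : P ⧸ frattini P) = x := by
    intro α hα x
    have h1 := hA α hα x
    rw [eq_comm, QuotientGroup.eq]
    have h2 := (inferInstance : (frattini P).Normal).conj_mem _ h1 x⁻¹
    simpa [mul_assoc] using h2
  let _ : MulAction A {t : Fin r → P // (fun i => (t i : P ⧸ frattini P)) = u} :=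
    { smul := fun α t => ⟨fun i => α.1 (t.1 i), by
        refine Eq.trans ?_ t.2
        funext i
        exact hmk α.1 α.2 (t.1 i)⟩
      one_smul := fun t => rfl
      mul_smul := fun α β t => rfl }
  have hfree : ∀ a : {t : Fin r → P // (fun i => (t i : P ⧸ frattini P)) = u},
      MulAction.stabilizer A a = ⊥ := by
    intro a
    rw [eq_bot_iff]
    intro α hα
    rw [MulAction.mem_stabilizer_iff] at hα
    rw [mem_bot]
    apply Subtype.ext
    have hgen : closure (Set.range a.1) = ⊤ := by
      rw [gen_iff, a.2, hu]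
    refine eq_one_of_fix hgen α.1 fun i => ?_
    have h1 : (α • a).1 i = a.1 i := by rw [hα]
    exact h1
  have h := card_dvd_of_free hfree
  rw [card_fiber_tuple, (card_frattini hP hr).1, ← pow_mul, mul_comm (n - r) r] at h
  exact h

end

end Cfsg.Agent.H541.AutFrattini
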