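import Cfsg.Agent.H541.PRegTorus
import Cfsg.Agent.H541.PRegArith
import Cfsg.Agent.LieRecognition.ReeTorusTw
import Cfsg.Agent.S1159
import Cfsg.Agent.S2127
import Cfsg.Agent.H436.Names

/-!
# The small Ree groups have `p` orbits of `Aut` on the `p`-regular elements (for S4883, helper541)
-/

set_option autoImplicit false
set_option linter.unusedSectionVars false

namespace Cfsg.Agent.H541.PRegRee

open Subgroup Cfsg Cfsg.Lie Cfsg.Agent.H93.PReg Cfsg.Agent.H92.KTools Cfsg.Agent.H541.PRegTorus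
  Cfsg.Agent.H541.PRegArith
open Cfsg.Agent.OrdDiv

universe u

section Arith

variable {q s p : ℕ}

theorem fac (hs : s * s = 3 * q) (h0 : s ≤ q) (h1 : 1 ≤ q) : q ^ 2 - q + 1 = (q + s + 1) * (q - s + 1) := by
  have h2 : q ≤ q ^ 2 := by nlinarith
  zify [h0, h2]
  have hs' : (s : ℤ) * s = 3 * q := by exact_mod_cast hs
  linear_combination hs'

/-- an element order divisible by `q ± s + 1` -/
theorem order_eq (hq : 27 ≤ q) (hsq : 3 * s < q + 1) {N k : ℕ} (hN : N = q + s + 1 ∨ N = q - s + 1)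
    (hNk : N ∣ k) (hk0 : 0 < k) (hk : k ∣ 6 ∨ k ∣ 9 ∨ k ∣ q - 1 ∨ k ∣ (q + 1) / 2 ∨ k ∣ q - s + 1 ∨ k ∣ q + s + 1)
    (ho : Odd q) (hs0 : 9 ≤ s) : k = N := by
  obtain ⟨t, ht⟩ : ∃ t, q = s + s + s + t := ⟨q - (s + s + s), by omega⟩
  have hmul : ∀ a b : ℕ, a ∣ b → 0 < b → a ≤ b := fun a b h1 h2 => Nat.le_of_dvd h2 h1
  have h2q : (q + 1) / 2 ∣ q + 1 := ⟨2, by obtain ⟨a, ha⟩ := ho; omega⟩
  rcases hk with h | h | h | h | h | h
  · have := hmul _ _ (hNk.trans h) (by norm_num); omega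
  · have := hmul _ _ (hNk.trans h) (by norm_num); omega
  · exfalso
    have h1 := hNk.trans h
    rcases hN with rfl | rfl
    · have := hmul _ _ h1 (by omega); omega
    · have h3 := Nat.dvd_sub h1 (dvd_refl (q - s + 1))
      have := hmul _ _ h3 (by omega); omega
  · exfalso
    have h1 := (hNk.trans h).trans h2q
    rcases hN with rfl | rfl
    · have := hmul _ _ h1 (by omega); omega
    · have h3 := Nat.dvd_sub h1 (dvd_refl (q - s + 1))
      have := hmul _ _ h3 (by omega); omega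
  · rcases hN with rfl | rfl
    · have := hmul _ _ (hNk.trans h) (by omega); omega
    · exact Nat.dvd_antisymm h hNk
  · rcases hN with rfl | rfl
    · exact Nat.dvd_antisymm h hNk
    · exfalso
      have h3 := Nat.dvd_sub (hNk.trans h) (dvd_refl (q - s + 1))
      have := hmul _ _ h3 (by omega); omega

theorem bound (hs : s * s = 3 * q) (hsq : 3 * s < q + 1) (hs2 : 3 ≤ s) (hq : ∃ n, q = 3 ^ n) (hp : p.Prime)
    (h5 : 5 ≤ p) (hd : p ^ 2 ∣ q ^ 3 * ((q - 1) * (q ^ 3 + 1))) : p < s := by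
  have h1 : ¬ p ∣ q := by
    obtain ⟨n, rfl⟩ := hq
    intro h
    have h2 := hp.dvd_of_dvd_pow h
    have := Nat.le_of_dvd (by norm_num) h2
    omega
  have c1 : (p ^ 2).Coprime (q ^ 3) := Nat.Coprime.pow _ _ ((Nat.Prime.coprime_iff_not_dvd hp).2 h1)
  have hd1 := c1.dvd_of_dvd_mul_left hd
  have hfac : q ^ 3 + 1 = (q + 1) * ((q + s + 1) * (q - s + 1)) := by
    rw [← fac hs (by omega) (by omega)]
    have h2 : q ≤ q ^ 2 := by nlinarith
    zify [h2]
    ring
  have hle : ∀ N, N ≤ q + s + 1 → 0 < N → p ^ 2 ∣ N → p < s := by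
    intro N hN hN0 h
    have h4 := Nat.le_of_dvd hN0 h
    have h6 : p * p < s * s := by rw [hs]; rw [pow_two] at h4; omega
    by_contra hlt
    push Not at hlt
    have := Nat.mul_le_mul hlt hlt
    omega
  rw [hfac] at hd1
  have hne : ∀ a : ℕ, 0 < a → a ≤ 4 → ¬ p ∣ a := fun a ha ha' h => by
    have := Nat.le_of_dvd ha h; omega
  by_cases h2 : p ∣ q - 1
  · obtain ⟨t, ht⟩ : ∃ t, q = t + 1 := ⟨q - 1, by omega⟩
    have h2' : p ∣ t := by rw [ht, Nat.add_sub_cancel] at h2; exact h2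
    have h3 : ¬ p ∣ q + 1 := fun h => by
      rw [ht, show t + 1 + 1 = t + 2 by ring] at h
      exact hne 2 (by norm_num) (by norm_num) ((Nat.dvd_add_right h2').1 h)
    have h4 : ¬ p ∣ (q + s + 1) * (q - s + 1) := by
      rw [← fac hs (by omega) (by omega)]
      intro h
      have h6 : q ^ 2 - q + 1 = t * (t + 1) + 1 := by
        rw [ht]
        have : t + 1 ≤ (t + 1) ^ 2 := by nlinarith
        zify [this]; ring
      rw [h6] at h
      exact hne 1 (by norm_num) (by norm_num) ((Nat.dvd_add_right (h2'.mul_right _)).1 h)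
    have c2 : (p ^ 2).Coprime (q + 1) := Nat.Coprime.pow_left _ ((Nat.Prime.coprime_iff_not_dvd hp).2 h3)
    have c3 : (p ^ 2).Coprime ((q + s + 1) * (q - s + 1)) :=
      Nat.Coprime.pow_left _ ((Nat.Prime.coprime_iff_not_dvd hp).2 h4)
    exact hle (q - 1) (by omega) (by omega) ((c2.mul_right c3).dvd_of_dvd_mul_right hd1)
  · have c2 : (p ^ 2).Coprime (q - 1) := Nat.Coprime.pow_left _ ((Nat.Prime.coprime_iff_not_dvd hp).2 h2)
    have hd2 := c2.dvd_of_dvd_mul_left hd1
    by_cases h3 : p ∣ q + 1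
    · have h4 : ¬ p ∣ (q + s + 1) * (q - s + 1) := by
        rw [← fac hs (by omega) (by omega)]
        intro h
        obtain ⟨t, ht⟩ := h3
        have h6 : (q + 1) * (q + 1) = (q ^ 2 - q + 1) + 3 * q := by
          have : q ≤ q ^ 2 := by nlinarith
          zify [this]; ring
        have h7 : p ∣ (q ^ 2 - q + 1) + 3 * q := by rw [← h6, ht, mul_assoc]; exact dvd_mul_right _ _
        have h8 := (Nat.dvd_add_right h).1 h7
        rcases hp.dvd_mul.1 h8 with h9 | h9
        · exact hne 3 (by norm_num) (by norm_num) h9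
        · exact h1 h9
      have c3 : (p ^ 2).Coprime ((q + s + 1) * (q - s + 1)) :=
        Nat.Coprime.pow_left _ ((Nat.Prime.coprime_iff_not_dvd hp).2 h4)
      exact hle (q + 1) (by omega) (by omega) (c3.dvd_of_dvd_mul_right hd2)
    · have c3 : (p ^ 2).Coprime (q + 1) := Nat.Coprime.pow_left _ ((Nat.Prime.coprime_iff_not_dvd hp).2 h3)
      have hd3 := c3.dvd_of_dvd_mul_left hd2
      by_cases h4 : p ∣ q + s + 1
      · have h6 : ¬ p ∣ q - s + 1 := by
          intro h
          have h6 := Nat.dvd_sub h4 h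
          have h7 : q + s + 1 - (q - s + 1) = 2 * s := by omega
          rw [h7] at h6
          rcases hp.dvd_mul.1 h6 with h9 | h9
          · exact hne 2 (by norm_num) (by norm_num) h9
          · have h10 : p ∣ 3 * q := by rw [← hs]; exact h9.mul_right _
            rcases hp.dvd_mul.1 h10 with h11 | h11
            · exact hne 3 (by norm_num) (by norm_num) h11
            · exact h1 h11
        have c4 : (p ^ 2).Coprime (q - s + 1) := Nat.Coprime.pow_left _ ((Nat.Prime.coprime_iff_not_dvd hp).2 h6)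
        exact hle _ le_rfl (by omega) (c4.dvd_of_dvd_mul_right hd3)
      · have c4 : (p ^ 2).Coprime (q + s + 1) := Nat.Coprime.pow_left _ ((Nat.Prime.coprime_iff_not_dvd hp).2 h4)
        exact hle (q - s + 1) (by omega) (by omega) (c4.dvd_of_dvd_mul_left hd3)

theorem general {S : Type u} [Group S] [Finite S] {o : ℕ} (hs : s * s = 3 * q) (hsq : 3 * s < q + 1) (hs2 : 3 ≤ s)
    (hq : ∃ n, q = 3 ^ n) (hp : p.Prime) (h5 : 5 ≤ p) (hps : p < s)
    (h1 : Iso S (q + s + 1) 1 6) (h2 : Iso S (q - s + 1) 1 6) (ho : Nat.card (Out S) ≤ o)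
    (hos : (p - 1) * (6 * o) < q - s) : MO (Reg p) p S := by
  by_cases h3 : p ∣ q + s + 1
  · have h4 : ¬ p ∣ q - s + 1 := by
      intro h
      have h6 := Nat.dvd_sub h3 h
      have h7 : q + s + 1 - (q - s + 1) = 2 * s := by omega
      rw [h7] at h6
      have h8 : p ∣ 2 * (3 * q) := by
        rw [← hs]
        rcases hp.dvd_mul.1 h6 with h9 | h9
        · exact h9.mul_right _
        · exact (h9.mul_right _).mul_left _
      obtain ⟨n, rfl⟩ := hq
      rcases hp.dvd_mul.1 h8 with h9 | h9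
      · have := Nat.le_of_dvd (by norm_num) h9
        omega
      · rw [← pow_succ'] at h9
        have h10 := hp.dvd_of_dvd_pow h9
        have := Nat.le_of_dvd (by norm_num) h10
        omega
    exact h2.MO one_pos ho dvd_rfl (fun k hk _ hpk => h4 (hpk.trans hk)) (by omega)
  · exact h1.MO one_pos ho dvd_rfl (fun k hk _ hpk => h3 (hpk.trans hk)) (by omega)

theorem three_pow {m : ℕ} (h : 4 ≤ m) : 18 * (2 * m + 1) + 3 ≤ 3 ^ (m + 1) := by
  induction m, h using Nat.le_induction with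
  | base => norm_num
  | succ n hn ih => rw [pow_succ]; omega

end Arith

section Tor

variable {K : Type u} [Field K] [Fintype K] {m : ℕ}

theorem iso_ree (hm : 1 ≤ m) (hK : Fintype.card K = 3 ^ (2 * m + 1)) {N : ℕ}
    (hN : N = 3 ^ (2 * m + 1) + 3 ^ (m + 1) + 1 ∨ N = 3 ^ (2 * m + 1) - 3 ^ (m + 1) + 1) :
    Iso ↥(Lie.twistedG2 K (3 ^ m)) N 1 6 := by
  have hfin : Finite ↥(Lie.twistedG2 K (3 ^ m)) := inferInstance
  have hs : 3 ^ (m + 1) * 3 ^ (m + 1) = 3 * 3 ^ (2 * m + 1) := by rw [← pow_add, ← pow_succ']; congr 1; ring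
  have hs9 : 9 ≤ 3 ^ (m + 1) := by
    calc 9 = 3 ^ 2 := by norm_num
      _ ≤ _ := Nat.pow_le_pow_right (by norm_num) (by omega)
  have hsq : 3 * 3 ^ (m + 1) < 3 ^ (2 * m + 1) + 1 := by
    rw [← pow_succ']
    exact Nat.lt_succ_of_le (Nat.pow_le_pow_right (by norm_num) (by omega))
  have hq27 : 27 ≤ 3 ^ (2 * m + 1) := by
    calc 27 = 3 ^ 3 := by norm_num
      _ ≤ _ := Nat.pow_le_pow_right (by norm_num) (by omega)
  have hodd : Odd (3 ^ (2 * m + 1)) := Odd.pow (by decide)
  have hNq : N ∣ (3 ^ (2 * m + 1)) ^ 2 - 3 ^ (2 * m + 1) + 1 := by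
    rw [fac hs (by omega) (by omega)]
    rcases hN with rfl | rfl
    · exact dvd_mul_right _ _
    · exact dvd_mul_left _ _
  have hN0 : 1 < N := by rcases hN with rfl | rfl <;> omega
  -- centralizers
  have key : ∀ x : ↥(Lie.twistedG2 K (3 ^ m)), x ≠ 1 → orderOf x ∣ N → N ∣ Nat.card ↥(centralizer {x}) →
      Nat.card ↥(centralizer {x}) = N := by
    intro x hx1 hx hd
    obtain ⟨hc, -⟩ := LieRecognition.ReeTorusTw.isCyclic_centralizer hK hx1 (hx.trans hNq)
    obtain ⟨g, hg⟩ := hc.exists_generator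
    have h1 : orderOf (g : ↥(Lie.twistedG2 K (3 ^ m))) = Nat.card ↥(centralizer {x}) := by
      rw [Subgroup.orderOf_coe, orderOf_eq_card_of_forall_mem_zpowers hg]
    have h2 := (Cfsg.Agent.S1159.result hm hK _).1 ⟨(g : ↥(Lie.twistedG2 K (3 ^ m))), h1⟩
    exact order_eq hq27 hsq hN hd Nat.card_pos h2 hodd hs9
  obtain ⟨x, hx⟩ := (Cfsg.Agent.S1159.result hm hK N).2 (by
    rcases hN with rfl | rfl
    · exact Or.inr (Or.inr (Or.inr (Or.inr (Or.inr dvd_rfl))))
    · exact Or.inr (Or.inr (Or.inr (Or.inr (Or.inl dvd_rfl)))))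
  have hx1 : x ≠ 1 := by
    rintro rfl
    rw [orderOf_one] at hx
    omega
  have hxC : x ∈ centralizer {x} := by rw [mem_centralizer_singleton_iff]
  obtain ⟨hc, hn⟩ := LieRecognition.ReeTorusTw.isCyclic_centralizer hK hx1 (hx ▸ hNq)
  have hT : Nat.card ↥(centralizer {x}) = N := key x hx1 (by rw [hx]) (by
    have := Subgroup.orderOf_dvd_natCard _ hxC
    rwa [hx] at this)
  refine ⟨centralizer {x}, hc, hT, fun y hy hy1 => ?_, ?_⟩
  · rw [pow_one] at hy1
    have h1 : centralizer {x} ≤ centralizer {y} := by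
      intro z hz
      rw [mem_centralizer_singleton_iff]
      exact comm_of_cyclic hc hz hy
    have h2 : orderOf y ∣ N := by rw [← hT]; exact Subgroup.orderOf_dvd_natCard _ hy
    have h3 : Nat.card ↥(centralizer {y}) = N := key y hy1 h2 (by rw [← hT]; exact card_dvd_of_le h1)
    exact (Subgroup.eq_of_le_of_card_ge h1 (by rw [h3, hT])).symm
  · rw [hT] at hn
    exact Nat.le_of_dvd (by omega) hn

end Tor

/-- **the row of `²G₂(q)`** -/
theorem row_ree {S : Type u} [Group S] [Finite S] {q : ℕ} (h : Cfsg.Agent.H436.IsNamed (.ree q) S) : Row S := by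
  obtain ⟨F, _, _, m, hm, hF, hq, ⟨e⟩⟩ := h.real
  have hcard : Nat.card ↥(Lie.twistedG2 F (3 ^ m)) = q ^ 3 * ((q - 1) * (q ^ 3 + 1)) := by
    rw [← Nat.card_congr e.toEquiv]
    have := h.eq
    have h2 : Cfsg.Agent.H436.den (.ree q) = 1 := rfl
    rw [h2, one_mul] at this
    exact this
  refine Row.congr e.symm ?_
  have hfin : Finite ↥(Lie.twistedG2 F (3 ^ m)) := Finite.of_equiv S e.toEquiv
  subst hq
  have hout := Cfsg.Agent.S2127.result hm hF
  have h1 := iso_ree hm hF (Or.inl rfl)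
  have h2 := iso_ree hm hF (Or.inr rfl)
  have hs : 3 ^ (m + 1) * 3 ^ (m + 1) = 3 * 3 ^ (2 * m + 1) := by rw [← pow_add, ← pow_succ']; congr 1; ring
  have hs3 : 3 ≤ 3 ^ (m + 1) := by rw [pow_succ]; have := Nat.one_le_pow m 3 (by norm_num); omega
  have hsq : 3 * 3 ^ (m + 1) < 3 ^ (2 * m + 1) + 1 := by
    rw [← pow_succ']
    exact Nat.lt_succ_of_le (Nat.pow_le_pow_right (by norm_num) (by omega))
  intro p hp h5 hpd
  rw [hcard] at hpd
  have hps := bound hs hsq hs3 ⟨_, rfl⟩ hp h5 hpd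
  rcases Nat.lt_or_ge m 4 with h6 | h6
  · interval_cases m
    · -- q = 27
      exfalso
      norm_num at hps
      interval_cases p <;> first | (revert hp; norm_num; done) | (revert hpd; norm_num)
    · -- q = 243
      norm_num at hps
      have h7 : p = 11 := by
        interval_cases p <;> first | rfl | (exfalso; revert hp; norm_num; done) | (exfalso; revert hpd; norm_num)
      subst h7
      have h8 : MO {k | k ∣ 271 ∧ ¬ k ∣ 1} 9 ↥(Lie.twistedG2 F (3 ^ 2)) :=
        h1.MO one_pos hout.le dvd_rfl (fun k hk hk3 => ⟨hk, hk3⟩) (by norm_num)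
      have h9 : MO {k | k ∣ 217 ∧ ¬ k ∣ 1} 2 ↥(Lie.twistedG2 F (3 ^ 2)) :=
        h2.MO one_pos hout.le dvd_rfl (fun k hk hk3 => ⟨hk, hk3⟩) (by norm_num)
      refine (MO.add (Set.disjoint_left.2 ?_) h8 h9).mono ?_ le_rfl
      · rintro k ⟨hk, hk3⟩ ⟨hk', -⟩
        have := Nat.dvd_gcd hk hk'
        norm_num at this
        rw [this] at hk3
        exact hk3 dvd_rfl
      · rintro k (⟨hk, -⟩ | ⟨hk, -⟩) h <;>
        · have := h.trans hk
          norm_num at this
    · -- q = 2187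
      norm_num at hps
      refine general hs hsq hs3 ⟨_, rfl⟩ hp h5 (by norm_num; exact hps) h1 h2 hout.le ?_
      norm_num
      have h7 : p = 7 := by
        interval_cases p <;> first | rfl | (exfalso; revert hp; norm_num; done) | (exfalso; revert hpd; norm_num)
      subst h7
      norm_num
  · refine general hs hsq hs3 ⟨_, rfl⟩ hp h5 hps h1 h2 hout.le ?_
    have h7 := three_pow h6
    generalize 3 ^ (m + 1) = s at *
    generalize 3 ^ (2 * m + 1) = q at *
    have e1 : 3 * ((p - 1) * (6 * (2 * m + 1))) ≤ (s - 2) * (s - 3) := by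
      have : (p - 1) * (18 * (2 * m + 1)) ≤ (s - 2) * (s - 3) := Nat.mul_le_mul (by omega) (by omega)
      calc 3 * ((p - 1) * (6 * (2 * m + 1))) = (p - 1) * (18 * (2 * m + 1)) := by ring
        _ ≤ _ := this
    obtain ⟨t, rfl⟩ : ∃ t, s = t + 3 := ⟨s - 3, by omega⟩
    have e2 : t + 3 - 2 = t + 1 := by omega
    have e3 : t + 3 - 3 = t := by omega
    rw [e2, e3] at e1
    have e4 : (t + 1) * t = t * t + t := by ring
    have e5 : (t + 3) * (t + 3) = t * t + 6 * t + 9 := by ring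
    rw [e4] at e1
    rw [e5] at hs
    have ht : 0 < t := by omega
    omega

end Cfsg.Agent.H541.PRegRee
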