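import Cfsg.Agent.H541.PRegTorus
import Cfsg.Agent.H541.PRegArith
import Cfsg.Agent.S0333
import Cfsg.Agent.OddCyclic.ClaimC.SzIso
import Cfsg.Agent.S2126
import Cfsg.Agent.H436.Names

/-!
# The Suzuki groups have `p` orbits of `Aut` on the `p`-regular elements (for S4883, helper541)
-/

set_option autoImplicit false
set_option linter.unusedSectionVars false

namespace Cfsg.Agent.H541.PRegSz

open Cfsg Cfsg.Lie Cfsg.Agent.H93.PReg Cfsg.Agent.H92.KTools Cfsg.Agent.H541.PRegTorus Cfsg.Agent.H541.PRegArith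
open Cfsg.Agent.OrdDiv

universe u

theorem iso_sz {F : Type u} [Field F] [Fintype F] {m : ℕ} (hm : 1 ≤ m) (hF : Fintype.card F = 2 ^ (2 * m + 1))
    {k : ℕ} (hk : k = 2 ^ (2 * m + 1) + 2 ^ (m + 1) + 1 ∨ k = 2 ^ (2 * m + 1) - 2 ^ (m + 1) + 1) :
    Iso ↥(Lie.Sz F (2 ^ (m + 1))) k 1 4 := by
  obtain ⟨e⟩ := OddCyclic.ClaimC.SzIso.iso hm hF
  have hfin : Finite ↥(Cfsg.Sz F m) := inferInstance
  refine Iso.congr e ?_
  obtain ⟨U, hc, hU, hcent, hN⟩ := Cfsg.Agent.S0333.result hm hF k hk
  refine ⟨U, hc, hU, fun y hy hy1 => hcent y hy fun h => hy1 (by rw [h, one_pow]), hN.le⟩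

section Arith

variable {q s p : ℕ}

/-- the parameters -/
theorem bound (hs : s * s = 2 * q) (hsq : s + 1 ≤ q) (hs2 : 2 ≤ s) (hq : ∃ n, q = 2 ^ n) (hp : p.Prime) (h5 : 5 ≤ p)
    (hd : p ^ 2 ∣ q ^ 2 * ((q - 1) * (q ^ 2 + 1))) : p < s := by
  have h1 : ¬ p ∣ q := by
    obtain ⟨n, rfl⟩ := hq
    intro h
    have h2 := hp.dvd_of_dvd_pow h
    have := Nat.le_of_dvd (by norm_num) h2
    omega
  have c1 : (p ^ 2).Coprime (q ^ 2) := Nat.Coprime.pow _ _ ((Nat.Prime.coprime_iff_not_dvd hp).2 h1)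
  have hd1 := c1.dvd_of_dvd_mul_left hd
  have hfac : q ^ 2 + 1 = (q + s + 1) * (q - s + 1) := by
    have h0 : s ≤ q := by omega
    zify [h0]
    have hs' : (s : ℤ) * s = 2 * q := by exact_mod_cast hs
    linear_combination hs'
  have hle : ∀ N, N ≤ q + s + 1 → 0 < N → p ^ 2 ∣ N → p < s := by
    intro N hN hN0 h
    have h4 := Nat.le_of_dvd hN0 h
    have h6 : p * p ≤ s * s := by rw [hs]; rw [pow_two] at h4; omega
    have h7 : p ≤ s := by
      by_contra hlt
      push Not at hlt
      have := Nat.mul_lt_mul'' hlt hlt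
      omega
    rcases Nat.lt_or_ge p s with h8 | h8
    · exact h8
    · exfalso
      have h9 : p = s := le_antisymm h7 h8
      apply h1
      have h10 : p ∣ 2 * q := ⟨p, by rw [← hs, h9]⟩
      rcases hp.dvd_mul.1 h10 with h11 | h11
      · have := Nat.le_of_dvd (by norm_num) h11; omega
      · exact h11
  by_cases h2 : p ∣ q - 1
  · have h3 : ¬ p ∣ q ^ 2 + 1 := by
      intro h
      obtain ⟨t, rfl⟩ : ∃ t, q = t + 1 := ⟨q - 1, by omega⟩
      rw [Nat.add_sub_cancel] at h2
      have h4 : (t + 1) ^ 2 + 1 = t * (t + 2) + 2 := by ring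
      rw [h4] at h
      have h5' := (Nat.dvd_add_right (h2.mul_right (t + 2))).1 h
      have := Nat.le_of_dvd (by norm_num) h5'
      omega
    have c2 : (p ^ 2).Coprime (q ^ 2 + 1) := Nat.Coprime.pow_left _ ((Nat.Prime.coprime_iff_not_dvd hp).2 h3)
    exact hle (q - 1) (by omega) (by omega) (c2.dvd_of_dvd_mul_right hd1)
  · have c2 : (p ^ 2).Coprime (q - 1) := Nat.Coprime.pow_left _ ((Nat.Prime.coprime_iff_not_dvd hp).2 h2)
    have hd2 := c2.dvd_of_dvd_mul_left hd1
    rw [hfac] at hd2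
    by_cases h3 : p ∣ q + s + 1
    · have h4 : ¬ p ∣ q - s + 1 := by
        intro h
        have h6 := Nat.dvd_sub h3 h
        have h7 : q + s + 1 - (q - s + 1) = 2 * s := by omega
        rw [h7] at h6
        have h8 : p ∣ 2 * q := by
          rw [← hs]
          rcases hp.dvd_mul.1 h6 with h9 | h9
          · have := Nat.le_of_dvd (by norm_num) h9; omega
          · exact h9.mul_right _
        rcases hp.dvd_mul.1 h8 with h11 | h11
        · have := Nat.le_of_dvd (by norm_num) h11; omega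
        · exact h1 h11
      have c3 : (p ^ 2).Coprime (q - s + 1) := Nat.Coprime.pow_left _ ((Nat.Prime.coprime_iff_not_dvd hp).2 h4)
      exact hle _ le_rfl (by omega) (c3.dvd_of_dvd_mul_right hd2)
    · have c3 : (p ^ 2).Coprime (q + s + 1) := Nat.Coprime.pow_left _ ((Nat.Prime.coprime_iff_not_dvd hp).2 h3)
      exact hle _ (by omega) (by omega) (c3.dvd_of_dvd_mul_left hd2)

theorem general {S : Type u} [Group S] [Finite S] {o : ℕ} (hs : s * s = 2 * q) (hsq : s + 1 ≤ q) (hs2 : 2 ≤ s)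
    (hq : ∃ n, q = 2 ^ n) (hp : p.Prime) (h5 : 5 ≤ p) (hps : p < s)
    (h1 : Iso S (q + s + 1) 1 4) (h2 : Iso S (q - s + 1) 1 4) (ho : Nat.card (Out S) ≤ o) (hos : 8 * o + 2 ≤ s) :
    MO (Reg p) p S := by
  have key : (p - 1) * (4 * o) < q - s := by
    have e1 : 2 * ((p - 1) * (4 * o)) ≤ (s - 1) * (s - 2) := by
      have : (p - 1) * (8 * o) ≤ (s - 1) * (s - 2) := Nat.mul_le_mul (by omega) (by omega)
      calc 2 * ((p - 1) * (4 * o)) = (p - 1) * (8 * o) := by ring
        _ ≤ _ := this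
    obtain ⟨t, rfl⟩ : ∃ t, s = t + 2 := ⟨s - 2, by omega⟩
    have e2 : t + 2 - 1 = t + 1 := by omega
    have e3 : t + 2 - 2 = t := by omega
    rw [e2, e3] at e1
    have e4 : (t + 1) * t = t * t + t := by ring
    have e5 : (t + 2) * (t + 2) = t * t + 4 * t + 4 := by ring
    rw [e4] at e1
    rw [e5] at hs
    have ht : 0 < t := by omega
    omega
  by_cases h3 : p ∣ q + s + 1
  · have h4 : ¬ p ∣ q - s + 1 := by
      intro h
      have h6 := Nat.dvd_sub h3 h
      have h7 : q + s + 1 - (q - s + 1) = 2 * s := by omega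
      rw [h7] at h6
      have h8 : p ∣ 2 * q := by
        rw [← hs]
        rcases hp.dvd_mul.1 h6 with h9 | h9
        · have := Nat.le_of_dvd (by norm_num) h9; omega
        · exact h9.mul_right _
      obtain ⟨n, rfl⟩ := hq
      rw [← pow_succ'] at h8
      have h9 := hp.dvd_of_dvd_pow h8
      have := Nat.le_of_dvd (by norm_num) h9
      omega
    exact h2.MO one_pos ho dvd_rfl (fun k hk _ hpk => h4 (hpk.trans hk)) (by omega)
  · exact h1.MO one_pos ho dvd_rfl (fun k hk _ hpk => h3 (hpk.trans hk)) (by omega)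

end Arith

theorem two_pow {m : ℕ} (h : 6 ≤ m) : 8 * (2 * m + 1) + 2 ≤ 2 ^ (m + 1) := by
  induction m, h using Nat.le_induction with
  | base => norm_num
  | succ n hn ih => rw [pow_succ]; omega

/-- **the row of `Sz(q)`** -/
theorem row_sz {S : Type u} [Group S] [Finite S] {q : ℕ} (h : Cfsg.Agent.H436.IsNamed (.sz q) S) : Row S := by
  obtain ⟨F, _, _, m, hm, hF, hq, ⟨e⟩⟩ := h.real
  have hcard : Nat.card ↥(Lie.Sz F (2 ^ (m + 1))) = q ^ 2 * ((q - 1) * (q ^ 2 + 1)) := by
    rw [← Nat.card_congr e.toEquiv]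
    have := h.eq
    have h2 : Cfsg.Agent.H436.den (.sz q) = 1 := rfl
    rw [h2, one_mul] at this
    exact this
  refine Row.congr e.symm ?_
  have hfin : Finite ↥(Lie.Sz F (2 ^ (m + 1))) := Finite.of_equiv S e.toEquiv
  subst hq
  have hout := Cfsg.Agent.S2126.result hm hF
  have h1 := iso_sz hm hF (Or.inl rfl)
  have h2 := iso_sz hm hF (Or.inr rfl)
  have hs : 2 ^ (m + 1) * 2 ^ (m + 1) = 2 * 2 ^ (2 * m + 1) := by rw [← pow_add, ← pow_succ']; congr 1; ring
  have hsq : 2 ^ (m + 1) + 1 ≤ 2 ^ (2 * m + 1) := by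
    have := Nat.pow_lt_pow_right (show 1 < 2 by norm_num) (show m + 1 < 2 * m + 1 by omega)
    exact this
  have hs2 : 2 ≤ 2 ^ (m + 1) := by rw [pow_succ]; have := Nat.one_le_two_pow (n := m); omega
  intro p hp h5 hpd
  rw [hcard] at hpd
  have hps := bound hs hsq hs2 ⟨_, rfl⟩ hp h5 hpd
  rcases Nat.lt_or_ge m 6 with h6 | h6
  · interval_cases m
    · -- q = 8
      exfalso
      norm_num at hps
      omega
    · -- q = 32
      norm_num at hps
      have h7 : p = 5 := by
        interval_cases p <;> first | rfl | (exfalso; revert hp; norm_num; done) | (exfalso; revert hpd; norm_num)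
      subst h7
      have h41 : MO {k | k ∣ 41 ∧ ¬ k ∣ 1} 2 ↥(Lie.Sz F (2 ^ (2 + 1))) :=
        h1.MO one_pos hout.le dvd_rfl (fun k hk hk3 => ⟨hk, hk3⟩) (by norm_num)
      refine mo_add (L := {1, 2, 31}) (fun k hk => ?_) (by decide) ?_ h41 ?_
      · simp only [Finset.mem_insert, Finset.mem_singleton] at hk
        rcases hk with rfl | rfl | rfl
        · exact hasOrd_one _
        · exact hasOrd_prime Nat.prime_two (by rw [hcard]; norm_num)
        · exact hasOrd_prime (by norm_num) (by rw [hcard]; norm_num)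
      · intro k hk
        simp only [Finset.mem_insert, Finset.mem_singleton] at hk
        rcases hk with rfl | rfl | rfl <;> simp
      · rintro k ⟨hk, -⟩ h
        have := h.trans hk
        norm_num at this
    · -- q = 128
      exfalso
      norm_num at hps
      interval_cases p <;> first | (revert hp; norm_num; done) | (revert hpd; norm_num)
    · exfalso
      norm_num at hps
      interval_cases p <;> first | (revert hp; norm_num; done) | (revert hpd; norm_num)
    · exfalso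
      norm_num at hps
      interval_cases p <;> first | (revert hp; norm_num; done) | (revert hpd; norm_num)
  · exact general hs hsq hs2 ⟨_, rfl⟩ hp h5 hps h1 h2 hout.le (two_pow h6)

end Cfsg.Agent.H541.PRegSz
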