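import Cfsg.Agent.H301.SY.Tools
import Cfsg.Agent.H410.EndRee
import Cfsg.Agent.LieRecognition.ReeTorusTw
import Cfsg.Agent.S1159

/-!
# S3846: the small Ree groups (helper541, task 1558)
-/

set_option autoImplicit false

namespace Cfsg.Agent.H541.NoyaRee

open Subgroup Cfsg.Agent.H459.Rad Cfsg.Agent.H459.Iface Cfsg.Agent.H628.ZRankOne Cfsg.Agent.H301.SY
  Cfsg.Agent.LieRecognition.ReeAbs Cfsg.Agent.LieRecognition.ReeSylowThree
  Cfsg.Agent.LieRecognition.ReeSplit Cfsg.Agent.LieRecognition Cfsg.Agent.H71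

section abs

variable {K : Type*} [Field K] {L : Type*} [Group L] {m : ℕ} {U : K → K → K → L} {h : Kˣ → L} {n : L} [Fintype K]

/-- the centralizer of the involution -/
theorem centralizer_ne_top [Finite L] (hK : Fintype.card K = 3 ^ (2 * m + 1)) (D : Data m U h n) :
    h (-1) ∉ center L ∧ h (-1) ≠ 1 := by
  have h3 : (3 : K) = 0 := ReeOut.three_eq_zero hK
  have h2 : (2 : K) ≠ 0 := by
    intro h2
    have h1 : (1 : K) = 3 - 2 := by norm_num
    rw [h2, h3, sub_zero] at h1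
    exact one_ne_zero h1
  have hneg : (-1 : Kˣ) ≠ 1 := by
    intro h1
    apply h2
    have h4 : (-1 : K) = 1 := by
      have := congrArg Units.val h1
      simpa using this
    calc (2 : K) = 1 + 1 := by norm_num
      _ = 1 + (-1) := by rw [h4]
      _ = 0 := by ring
  have ht1 : h (-1) ≠ 1 := by
    intro h1
    rw [← D.h_one] at h1
    exact hneg (ReeOut.h_injective D h1)
  refine ⟨fun h1 => ht1 ?_, ht1⟩
  refine ReeOut.conj_eq_one D hK (h (-1)) ⟨_, rfl⟩ ?_
  ext y
  rw [MulAut.conj_apply, MulAut.one_apply, mul_inv_eq_iff_eq_mul]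
  exact (mem_center_iff.1 h1 y).symm

/-- radical automorphisms of prime order `p ≥ 5` are inner (helper410's proof) -/
theorem inner_abs [Finite L] [hL : IsSimpleGroup L] {p : ℕ} [hp : Fact p.Prime] (hp5 : 5 ≤ p) (hm : 1 ≤ m)
    (hK : Fintype.card K = 3 ^ (2 * m + 1))
    (D : Data m U h n) {Φ : (K ≃+* K) → MulAut L} (F : ReeOut.Fld D Φ) (hΦ1 : Φ 1 = 1)
    (hΦmul : ∀ σ τ, Φ (σ * τ) = Φ σ * Φ τ)
    (hcyc : ∀ P : Sylow p L, IsCyclic (P : Subgroup L)) {x : MulAut L} (hx : orderOf x = p) (hR : RC x) :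
    ∃ g : L, x = MulAut.conj g := by
  have hp2 : p ≠ 2 := by omega
  -- the form of automorphisms
  obtain ⟨g, τ, hg⟩ : ∃ (g : L) (τ : K ≃+* K), x = MulAut.conj g * Φ τ := by
    obtain ⟨k, hk⟩ := ReeOut.exists_frame hK D x
    obtain ⟨a, τ, h1⟩ := ReeOut.exists_of_frame hm hK F hk
    refine ⟨k⁻¹ * h a, τ, ?_⟩
    rw [map_mul, map_inv, mul_assoc, ← h1, inv_mul_cancel_left]
  by_cases hτ : τ = 1
  · exact ⟨g, by rw [hg, hτ, hΦ1, mul_one]⟩
  exfalso
  have hxp : x ^ p = 1 := by rw [← hx, pow_orderOf_eq_one]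
  obtain ⟨hnc, ht1⟩ := centralizer_ne_top hK D
  have hZ : center L = ⊥ := by
    rcases (inferInstance : (center L).Normal).eq_bot_or_eq_top with h1 | h1
    · exact h1
    · exact absurd (h1 ▸ mem_top _) hnc
  obtain ⟨ho, k, hk⟩ := Cfsg.Agent.H410.EndFld.conj_std hZ hΦmul hΦ1
    (fun τ g hg => Cfsg.Agent.H628.ZRowRee.eq_one_of_conj hK F (g := g) fun s => by rw [hg, MulAut.conj_apply])
    hp2 hxp hg hτ hcyc (d := 3) (by norm_num)
    (by rw [card_eq D, ← Nat.card_eq_fintype_card, add_comm ((Nat.card K) ^ 3) 1])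
    (Cfsg.Agent.H628.ZRowRee.card_fixed F τ) (by
      rw [Nat.card_eq_fintype_card, hK]
      intro h1
      have := (Nat.prime_dvd_prime_iff_eq hp.out Nat.prime_three).1 (hp.out.dvd_of_dvd_pow h1)
      omega)
  have hRC : RC (Φ τ) := Cfsg.Agent.H410.EndRee.RC.conj hR hk
  obtain ⟨e⟩ := D.centralizer_iso hK
  have hcard4 : 3 < Fintype.card K := by
    rw [hK]
    calc 3 = 3 ^ 1 := by norm_num
      _ < 3 ^ (2 * m + 1) := Nat.pow_lt_pow_right (by norm_num) (by omega)
  have hodd : Odd (Fintype.card K) := by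
    rw [hK]
    exact Odd.pow (by decide)
  have hs := Cfsg.Agent.TwoFusion.SLTwoFacts.isSimpleGroup_psl (F := K) hcard4
  have hrad : Cfsg.solvableRadical (Matrix.ProjectiveSpecialLinearGroup (Fin 2) K) = ⊥ :=
    rad_eq_bot_of_simple (Cfsg.Agent.ClassicalGeometry.PSL2Solvable.not_isSolvable_psl K (by omega))
  have hfixt : Φ τ (h (-1)) = h (-1) := by
    rw [F.onH]
    congr 1
    apply Units.ext
    simp
  have hle := Cfsg.Agent.H410.EndRee.card_fixed_ge hRC (M := centralizer {h (-1)}) (by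
      intro h1
      apply hnc
      rw [mem_center_iff]
      intro y
      have h4 : y ∈ centralizer {h (-1)} := h1 ▸ mem_top y
      exact mem_centralizer_singleton_iff.1 h4) (by
      intro y hy
      rw [mem_centralizer_singleton_iff] at hy ⊢
      have h4 := congrArg (Φ τ) hy
      rw [map_mul, map_mul, hfixt] at h4
      exact h4)
    ((MonoidHom.snd (Multiplicative (ZMod 2)) (Matrix.ProjectiveSpecialLinearGroup (Fin 2) K)).comp e.toMonoidHom) (by
      intro y
      refine ⟨e.symm (1, y), ?_⟩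
      simp) hrad (z := e.symm (Multiplicative.ofAdd 1, 1)) (by
      intro y hy
      have h4 : (e y).2 = 1 := hy
      have h5 : ∀ i : Multiplicative (ZMod 2), i = 1 ∨ i = Multiplicative.ofAdd 1 := by decide
      rcases h5 (e y).1 with h6 | h6
      · left
        apply e.injective
        rw [map_one]
        exact Prod.ext h6 h4
      · right
        apply e.injective
        rw [e.apply_symm_apply]
        exact Prod.ext h6 h4) (by
      rw [Nat.card_congr e.toEquiv, Nat.card_prod]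
      congr 1
      rw [Nat.card_eq_fintype_card]
      rfl)
  rw [Cfsg.Agent.H628.ZRowRee.card_fixed F τ] at hle
  have hcF := Cfsg.Agent.H202.Descent.card_fixed ho
  have hpc := Cfsg.Agent.CTwoTab.card_psl_two (F := K) hodd
  have hn2 : 2 ≤ Nat.card ↥(RingHom.eqLocusField (τ : K →+* K) (RingHom.id K)) := Finite.one_lt_card
  rw [← Nat.card_eq_fintype_card, hcF] at hpc
  refine Cfsg.Agent.H410.EndRee.num hn2 hp5 ?_
  rw [hpc]
  exact Nat.mul_le_mul_left 2 hle

/-- `p ∣ q² - 1`: the centralizer of an involution -/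
theorem lw_abs [Finite L] {p : ℕ} [hp : Fact p.Prime] (hp5 : 5 ≤ p) (hm : 1 ≤ m)
    (hK : Fintype.card K = 3 ^ (2 * m + 1)) (D : Data m U h n) (hpq : p ∣ (Fintype.card K) ^ 2 - 1) : Lw p L := by
  obtain ⟨hnc, ht1⟩ := centralizer_ne_top hK D
  obtain ⟨e⟩ := D.centralizer_iso hK
  have hcard4 : 3 < Fintype.card K := by
    rw [hK]
    calc 3 = 3 ^ 1 := by norm_num
      _ < 3 ^ (2 * m + 1) := Nat.pow_lt_pow_right (by norm_num) (by omega)
  have hodd : Odd (Fintype.card K) := by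
    rw [hK]
    exact Odd.pow (by decide)
  have hs := Cfsg.Agent.TwoFusion.SLTwoFacts.isSimpleGroup_psl (F := K) hcard4
  have hrad : Cfsg.solvableRadical (Matrix.ProjectiveSpecialLinearGroup (Fin 2) K) = ⊥ :=
    rad_eq_bot_of_simple (Cfsg.Agent.ClassicalGeometry.PSL2Solvable.not_isSolvable_psl K (by omega))
  have hpc := Cfsg.Agent.CTwoTab.card_psl_two (F := K) hodd
  have hpP : p ∣ Nat.card (Matrix.ProjectiveSpecialLinearGroup (Fin 2) K) := by
    have h1 : p ∣ 2 * Nat.card (Matrix.ProjectiveSpecialLinearGroup (Fin 2) K) := by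
      rw [← hpc]
      exact hpq.mul_left _
    rcases (hp.out.dvd_mul).1 h1 with h2 | h2
    · have := Nat.le_of_dvd (by norm_num) h2
      omega
    · exact h2
  have hZ2 : Nat.card (Multiplicative (ZMod 2)) = 2 := by
    rw [Nat.card_eq_fintype_card]
    rfl
  refine Lw.of_hom (L := centralizer {h (-1)}) ?_ ?_
    ((MonoidHom.snd (Multiplicative (ZMod 2)) (Matrix.ProjectiveSpecialLinearGroup (Fin 2) K)).comp e.toMonoidHom)
    ?_ hrad ?_
  · intro h1
    apply hnc
    rw [mem_center_iff]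
    intro y
    have h4 : y ∈ centralizer {h (-1)} := h1 ▸ mem_top y
    exact mem_centralizer_singleton_iff.1 h4
  · rw [Nat.card_congr e.toEquiv, Nat.card_prod]
    exact hpP.mul_left _
  · intro y
    refine ⟨e.symm (1, y), ?_⟩
    simp
  · intro h1
    have h2 : Nat.card ((MonoidHom.snd (Multiplicative (ZMod 2))
        (Matrix.ProjectiveSpecialLinearGroup (Fin 2) K)).comp e.toMonoidHom).ker ≤ 2 := by
      refine (Nat.card_le_card_of_injective (fun y : ((MonoidHom.snd (Multiplicative (ZMod 2))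
        (Matrix.ProjectiveSpecialLinearGroup (Fin 2) K)).comp e.toMonoidHom).ker =>
          (e (y : ↥(centralizer {h (-1)}))).1) ?_).trans hZ2.le
      intro y z hyz
      apply Subtype.ext
      apply e.injective
      refine Prod.ext hyz ?_
      have h3 : (e y).2 = 1 := y.2
      have h4 : (e z).2 = 1 := z.2
      rw [h3, h4]
    have h3 := Nat.le_of_dvd Nat.card_pos h1
    omega

/-- an element of order prime to `q³ (q - 1)` normalises no nontrivial `3`-subgroup -/
theorem not_fixR_abs [Finite L] {p : ℕ} (hK : Fintype.card K = 3 ^ (2 * m + 1)) (D : Data m U h n)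
    (hpq : ¬ p ∣ (Fintype.card K) ^ 3 * (Fintype.card K - 1)) {x : L} (hx : orderOf x = p) :
    ¬ FixR 3 (MulAut.conj x) := by
  rintro ⟨R, hR1, hR, hRx⟩
  have hfact : Fact (Nat.Prime 3) := ⟨Nat.prime_three⟩
  have hcardU : Nat.card (uSub D) = 3 ^ (3 * (2 * m + 1)) := by
    rw [card_uSub, hK, ← pow_mul, mul_comm]
  have hfac : (Nat.card L).factorization 3 = 3 * (2 * m + 1) := by
    rw [card_eq D, hK]
    set q := 3 ^ (2 * m + 1) with hq
    have hq3 : 3 ∣ q := dvd_pow_self 3 (by omega)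
    have hq0 : 0 < q := by positivity
    have h1 : ¬ 3 ∣ (q - 1) * (q ^ 3 + 1) := by
      rw [Nat.prime_three.dvd_mul]
      have h3 : 3 ∣ q ^ 3 := dvd_pow hq3 (by norm_num)
      rintro (h | h) <;> omega
    rw [mul_assoc, Nat.factorization_mul (by positivity) (by intro h0; rw [h0] at h1; exact h1 (dvd_zero 3)),
      Finsupp.add_apply, Nat.factorization_eq_zero_of_not_dvd h1, hq, ← pow_mul,
      Nat.Prime.factorization_pow Nat.prime_three, Finsupp.single_apply, if_pos rfl, add_zero, mul_comm]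
  let S : Sylow 3 L := Sylow.ofCard (uSub D) (by rw [hcardU, hfac])
  have hS : (S : Subgroup L) = uSub D := rfl
  obtain ⟨P, hP⟩ := hR.exists_le_sylow
  obtain ⟨g, hg⟩ := MulAction.exists_smul_eq L S P
  obtain ⟨r, hr, hr1⟩ : ∃ r ∈ R, r ≠ 1 := by
    by_contra hcon
    push Not at hcon
    exact hR1 ((Subgroup.eq_bot_iff_forall R).2 hcon)
  have key : ∀ y ∈ R, g⁻¹ * y * g ∈ uSub D := by
    intro y hy
    have h1 := hP hy
    rw [← hg, Sylow.coe_subgroup_smul, Subgroup.mem_pointwise_smul_iff_inv_smul_mem, hS] at h1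
    have e : (MulAut.conj g)⁻¹ • y = g⁻¹ * y * g := by
      rw [← map_inv]
      simp
    rwa [e] at h1
  have h2 : x * r * x⁻¹ ∈ R := hRx r hr
  have h3 : g⁻¹ * x⁻¹ * g ∈ bSub D := by
    refine mem_bSub_of_inv_conj_mem D (key r hr) ?_ ?_
    · intro h4
      apply hr1
      calc r = g * (g⁻¹ * r * g) * g⁻¹ := by group
        _ = 1 := by rw [h4]; group
    · have h5 := key _ h2
      rwa [show (g⁻¹ * x⁻¹ * g)⁻¹ * (g⁻¹ * r * g) * (g⁻¹ * x⁻¹ * g) = g⁻¹ * (x * r * x⁻¹) * g by group]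
  apply hpq
  have h6 : orderOf (g⁻¹ * x⁻¹ * g) = p := by
    have h7 : g⁻¹ * x⁻¹ * g = MulAut.conj g⁻¹ x⁻¹ := by rw [MulAut.conj_apply, inv_inv]
    rw [h7, ← hx, ← orderOf_inv x]
    exact orderOf_injective (MulAut.conj g⁻¹).toMonoidHom (MulAut.conj g⁻¹).injective x⁻¹
  rw [← card_bSub D, ← h6]
  exact Subgroup.orderOf_dvd_natCard _ h3

end abs

section tw

/-- `M0` for the elements of order `p ∣ q² - q + 1`, `p > 8` -/
theorem m0 (hh : HH) {F : Type} [Field F] [Fintype F] {m : ℕ} (hF : Fintype.card F = 3 ^ (2 * m + 1))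
    [Finite ↥(Cfsg.Lie.twistedG2 F (3 ^ m))]
    {p : ℕ} [hp : Fact p.Prime] (hp8 : 8 < p) {x : ↥(Cfsg.Lie.twistedG2 F (3 ^ m))} (hx : orderOf x = p)
    (hcyc : ∀ P : Sylow p ↥(Cfsg.Lie.twistedG2 F (3 ^ m)), IsCyclic (P : Subgroup ↥(Cfsg.Lie.twistedG2 F (3 ^ m))))
    (hfix : ¬ FixR 3 (MulAut.conj x)) : M0 x := by
  classical
  have hfact3 : Fact (Nat.Prime 3) := ⟨Nat.prime_three⟩
  have hchar : CharP F 3 := charP_of_card_eq_prime_pow hF
  have hne : ∀ t : ℕ, t.Prime → t ≠ 3 → (t : F) ≠ 0 := by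
    intro t ht ht2 h1
    exact ht2 ((Nat.prime_dvd_prime_iff_eq Nat.prime_three ht).1 ((CharP.cast_eq_zero_iff F 3 t).1 h1)).symm
  refine M0.of_triv hcyc hx ?_
  intro t ht htp R hR hRx
  by_cases ht2 : t = 3
  · subst ht2
    have hR1 : R = ⊥ := by
      by_contra hne
      exact hfix ⟨R, hne, hR, fun a ha => hRx a ha⟩
    intro a ha
    rw [hR1, mem_bot] at ha
    rw [ha, mul_one, one_mul]
  · let ρ : Representation F ↥(Cfsg.Lie.twistedG2 F (3 ^ m)) (Fin 7 → F) :=
      ((Matrix.toLinAlgEquiv' : Matrix (Fin 7) (Fin 7) F ≃ₐ[F] _) : Matrix (Fin 7) (Fin 7) F →* _).comp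
        ((Units.coeHom _).comp (ReeSevenGroup.ree F (3 ^ m)))
    have hρ : Function.Injective ρ := by
      refine (Matrix.toLinAlgEquiv' (R := F) (n := Fin 7)).injective.comp
        (Units.val_injective.comp (ReeSevenGroup.ree_injective (3 ^ m)))
    refine hh F (Fin 7 → F) ↥(Cfsg.Lie.twistedG2 F (3 ^ m)) ρ hρ p t hp.out ht (Ne.symm htp)
      (hne p hp.out (by omega)) (hne t ht ht2) ?_ R hR x ⟨1, by rw [pow_one, hx]⟩ hRx
    rw [Module.finrank_fin_fun]
    omega

/-- the arithmetic of the tori -/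
theorem arith (m : ℕ) : (3 ^ (2 * m + 1) + 3 ^ (m + 1) + 1) * (3 ^ (2 * m + 1) - 3 ^ (m + 1) + 1) =
    (3 ^ (2 * m + 1)) ^ 2 - 3 ^ (2 * m + 1) + 1 := by
  have hs : 3 ^ (m + 1) * 3 ^ (m + 1) = 3 * 3 ^ (2 * m + 1) := by rw [← pow_add, ← pow_succ']; congr 1; ring
  have hle : 3 ^ (m + 1) ≤ 3 ^ (2 * m + 1) := Nat.pow_le_pow_right (by norm_num) (by omega)
  have hle2 : 3 ^ (2 * m + 1) ≤ (3 ^ (2 * m + 1)) ^ 2 := Nat.le_self_pow (by norm_num) _
  zify [hle, hle2]
  zify at hs
  linear_combination (-1 : ℤ) * hs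

/-- `7 ∣ q² - q + 1`: there is an element `z` of prime order `ℓ ≥ 5`, `ℓ ≠ 7`, `ℓ ∣ q² - q + 1` with centralizer of
order prime to `3` -/
theorem zc {F : Type*} [Field F] [Fintype F] {m : ℕ} (hm : 1 ≤ m) (hF : Fintype.card F = 3 ^ (2 * m + 1))
    [Finite ↥(Cfsg.Lie.twistedG2 F (3 ^ m))] (h7 : 7 ∣ (3 ^ (2 * m + 1)) ^ 2 - 3 ^ (2 * m + 1) + 1) :
    Zc 3 7 ↥(Cfsg.Lie.twistedG2 F (3 ^ m)) := by
  have hs : 3 ^ (m + 1) * 3 ^ (m + 1) = 3 * 3 ^ (2 * m + 1) := by rw [← pow_add, ← pow_succ']; congr 1; ring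
  have hle : 3 ^ (m + 1) < 3 ^ (2 * m + 1) := Nat.pow_lt_pow_right (by norm_num) (by omega)
  have h27 : 27 ≤ 3 ^ (2 * m + 1) := by
    calc 27 = 3 ^ 3 := by norm_num
      _ ≤ _ := Nat.pow_le_pow_right (by norm_num) (by omega)
  have hodd1 : Odd (3 ^ (2 * m + 1)) := Odd.pow (by decide)
  have hodd2 : Odd (3 ^ (m + 1)) := Odd.pow (by decide)
  have h3q : 3 ∣ 3 ^ (2 * m + 1) := dvd_pow_self 3 (by omega)
  have h3r : 3 ∣ 3 ^ (m + 1) := dvd_pow_self 3 (by omega)
  have har := arith m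
  have hord := Cfsg.Agent.S1159.result hm hF
  set q := 3 ^ (2 * m + 1) with hq
  set r := 3 ^ (m + 1) with hr
  -- the coprimality of the two factors
  have hcop : ∀ l : ℕ, l.Prime → l ∣ q + r + 1 → l ∣ q - r + 1 → False := by
    intro l hl h1 h2
    have h3 : l ∣ 2 * r := by
      have := Nat.dvd_sub h1 h2
      have h4 : q + r + 1 - (q - r + 1) = 2 * r := by omega
      rwa [h4] at this
    rcases (hl.dvd_mul).1 h3 with h4 | h4
    · have h5 : l = 2 := (Nat.prime_dvd_prime_iff_eq hl Nat.prime_two).1 h4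
      rw [h5] at h1
      obtain ⟨a, ha⟩ := hodd1
      obtain ⟨b, hb⟩ := hodd2
      omega
    · have h5 : l = 3 := (Nat.prime_dvd_prime_iff_eq hl Nat.prime_three).1 (hl.dvd_of_dvd_pow h4)
      rw [h5] at h1
      omega
  -- the other factor
  obtain ⟨N, hN, hN7, hN1⟩ : ∃ N, (N = q - r + 1 ∨ N = q + r + 1) ∧ ¬ 7 ∣ N ∧ N ≠ 1 := by
    rw [← har] at h7
    rcases ((by norm_num : Nat.Prime 7).dvd_mul).1 h7 with h1 | h1
    · exact ⟨q - r + 1, Or.inl rfl, fun h2 => hcop 7 (by norm_num) h1 h2,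
        (Nat.succ_lt_succ (Nat.sub_pos_of_lt hle)).ne'⟩
    · exact ⟨q + r + 1, Or.inr rfl, fun h2 => hcop 7 (by norm_num) h2 h1,
        (Nat.succ_lt_succ (lt_of_lt_of_le (by norm_num) (h27.trans (Nat.le_add_right q r)))).ne'⟩
  obtain ⟨l, hl, hlN⟩ := Nat.exists_prime_and_dvd hN1
  have hl2 : l ≠ 2 := by
    rintro rfl
    obtain ⟨a, ha⟩ := hodd1
    obtain ⟨b, hb⟩ := hodd2
    rcases hN with h1 | h1 <;> omega
  have hl3 : l ≠ 3 := by
    rintro rfl
    rcases hN with h1 | h1 <;> omega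
  have hl7 : l ≠ 7 := by
    rintro rfl
    exact hN7 hlN
  have hlq : l ∣ q ^ 2 - q + 1 := by
    rw [← har]
    rcases hN with h1 | h1
    · rw [h1] at hlN
      exact hlN.mul_left _
    · rw [h1] at hlN
      exact hlN.mul_right _
  obtain ⟨z, hz⟩ := (hord l).2 (by
    rcases hN with h1 | h1
    · rw [h1] at hlN
      tauto
    · rw [h1] at hlN
      tauto)
  intro s hs hs6 hs3
  refine ⟨z, ?_, ?_, ?_⟩
  · rintro rfl
    rw [orderOf_one] at hz
    exact hl.one_lt.ne hz
  · intro h3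
    have hfact3 : Fact (Nat.Prime 3) := ⟨Nat.prime_three⟩
    obtain ⟨w, hw⟩ := exists_prime_orderOf_dvd_card' 3 h3
    have hw' : orderOf (w : ↥(Cfsg.Lie.twistedG2 F (3 ^ m))) = 3 := by rw [Subgroup.orderOf_coe]; exact hw
    have hcomm : Commute z (w : ↥(Cfsg.Lie.twistedG2 F (3 ^ m))) :=
      (mem_centralizer_singleton_iff.1 w.2).symm
    have hzw : orderOf (z * w) = l * 3 := by
      rw [hcomm.orderOf_mul_eq_mul_orderOf_of_coprime, hz, hw']
      rw [hz, hw']
      exact (Nat.coprime_primes hl Nat.prime_three).2 hl3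
    have h4 := (hord (l * 3)).1 ⟨_, hzw⟩
    -- `l ∤ q² - 1`
    have hlq1 : ∀ {k : ℕ}, l ∣ k → ¬ k ∣ q ^ 2 - 1 := by
      intro k hk hk1
      have h5 := hk.trans hk1
      have hq1 : q ≤ q ^ 2 := Nat.le_self_pow (by norm_num) _
      have h6 : l ∣ (q ^ 2 - 1) - (q ^ 2 - q + 1) := Nat.dvd_sub h5 hlq
      have h7 : (q ^ 2 - 1) - (q ^ 2 - q + 1) = q - 2 := by omega
      rw [h7] at h6
      have h8 : (q - 2) * (q + 1) + 3 = q ^ 2 - q + 1 := by
        obtain ⟨c, hc⟩ := Nat.exists_eq_add_of_le (show 2 ≤ q by omega)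
        have e1 : (2 + c) ^ 2 - (2 + c) = c * c + 3 * c + 2 := by
          have : (2 + c) ^ 2 = c * c + 3 * c + 2 + (2 + c) := by ring
          omega
        rw [hc, e1, Nat.add_sub_cancel_left]
        ring
      have h9 : l ∣ 3 := by
        have h10 := hlq
        rw [← h8] at h10
        exact (Nat.dvd_add_right (h6.mul_right _)).1 h10
      exact hl3 ((Nat.prime_dvd_prime_iff_eq hl Nat.prime_three).1 h9)
    have hl5 : 5 ≤ l := by
      have := hl.two_le
      have h4 : l ≠ 4 := by rintro rfl; exact absurd hl (by norm_num)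
      omega
    rcases h4 with h5 | h5 | h5 | h5 | h5 | h5
    · have := Nat.le_of_dvd (by norm_num) h5
      omega
    · have := Nat.le_of_dvd (by norm_num) h5
      omega
    · refine hlq1 ((dvd_mul_right l 3).trans h5) ⟨q + 1, ?_⟩
      have := Nat.sq_sub_sq q 1
      rw [one_pow] at this
      rw [this, mul_comm]
    · refine hlq1 ((dvd_mul_right l 3).trans (h5.trans (Nat.div_dvd_of_dvd ?_))) ⟨q - 1, ?_⟩
      · obtain ⟨a, ha⟩ := hodd1
        exact ⟨a + 1, by omega⟩
      · have := Nat.sq_sub_sq q 1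
        rw [one_pow] at this
        rw [this]
    · have h6 : 3 ∣ q - r + 1 := (dvd_mul_left 3 l).trans h5
      omega
    · have h6 : 3 ∣ q + r + 1 := (dvd_mul_left 3 l).trans h5
      omega
  · rw [hz]
    have hs2 : s = 2 := by
      have h1 : s ∣ 2 * 3 := hs6
      rcases (hs.dvd_mul).1 h1 with h2 | h2
      · exact (Nat.prime_dvd_prime_iff_eq hs Nat.prime_two).1 h2
      · exact absurd ((Nat.prime_dvd_prime_iff_eq hs Nat.prime_three).1 h2) hs3
    subst hs2
    exact Nat.Coprime.mul_right ((Nat.coprime_primes hl (by norm_num)).2 hl7)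
      ((Nat.coprime_primes hl Nat.prime_two).2 hl2)

end tw

/-- **The row of the small Ree groups** (task 1558). -/
theorem noya_ree (hh : HH) {K : Type*} [Group K] [Finite K] [IsSimpleGroup K] {p : ℕ} [hp : Fact p.Prime]
    (h : Cfsg.Lie.IsoRee K) (hp5 : 5 ≤ p) (hb : Blk p K) (hg : Gw 3 K) : NoYA p K := by
  obtain ⟨F, iF, iF', m, hm, hK, ⟨f⟩⟩ := h
  obtain ⟨θ, c⟩ := Cfsg.Agent.ChevalleyStructure.Ree.Normal.exists_ctx hK
  have hs := (Cfsg.Agent.S1073.result hm hK).1
  have hfin : Finite ↥(Cfsg.Lie.twistedG2 F (3 ^ m)) := Finite.of_injective f.symm f.symm.injective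
  have D := Cfsg.Agent.ChevalleyStructure.Ree.Data.data c
  have hcycL : ∀ P : Sylow p ↥(Cfsg.Lie.twistedG2 F (3 ^ m)),
      IsCyclic (P : Subgroup ↥(Cfsg.Lie.twistedG2 F (3 ^ m))) :=
    fun P => Cfsg.Agent.S1156.result hm hK (by omega) P
  have hfact3 : Fact (Nat.Prime 3) := ⟨Nat.prime_three⟩
  intro x hx hR hY
  -- `x` is inner
  have h1 := FldAut.fldG_mul (1 : F ≃+* F) 1 (3 ^ m)
  rw [mul_one] at h1
  obtain ⟨g, hg1⟩ := inner_abs hp5 hm hK _ (FldAut.reeFld c) (mul_eq_left.1 h1.symm)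
    (fun σ τ => FldAut.fldG_mul σ τ _) hcycL (x := Cfsg.Agent.H459.Rad.tr f x) (by rw [orderOf_tr, hx]) (hR.tr f)
  obtain ⟨hnc, ht1⟩ := centralizer_ne_top hK (Cfsg.Agent.ChevalleyStructure.Ree.Data.data c)
  have hZ' : center ↥(Cfsg.Lie.twistedG2 F (3 ^ m)) = ⊥ := by
    rcases (inferInstance : (center ↥(Cfsg.Lie.twistedG2 F (3 ^ m))).Normal).eq_bot_or_eq_top with h1 | h1
    · exact h1
    · exact absurd (h1 ▸ mem_top _) hnc
  have hZ : center K = ⊥ := by
    rw [eq_bot_iff]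
    intro z hz
    have h1 : f z ∈ center ↥(Cfsg.Lie.twistedG2 F (3 ^ m)) := by
      rw [mem_center_iff] at hz ⊢
      intro y
      have h2 := congrArg f (hz (f.symm y))
      rwa [map_mul, map_mul, f.apply_symm_apply] at h2
    rw [hZ', mem_bot] at h1
    rw [mem_bot]
    exact f.injective (h1.trans (map_one f).symm)
  have hna : ¬ IsMulCommutative K := by
    intro h1
    have h2 : center K = ⊤ := by
      rw [eq_top_iff]
      intro z _
      rw [mem_center_iff]
      intro y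
      exact h1.is_comm.comm y z
    rw [hZ] at h2
    exact bot_ne_top h2
  obtain ⟨y, hy⟩ : ∃ y : K, x = MulAut.conj y := by
    refine ⟨f.symm g, ?_⟩
    ext a
    have h1 : f (x (f.symm (f a))) = g * f a * g⁻¹ := by
      have h2 := DFunLike.congr_fun hg1 (f a)
      rwa [tr_apply, MulAut.conj_apply] at h2
    rw [f.symm_apply_apply] at h1
    rw [MulAut.conj_apply]
    apply f.injective
    rw [h1, map_mul, map_mul, map_inv, f.apply_symm_apply]
  subst hy
  have hyo : orderOf y = p := by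
    rw [← hx]
    exact (orderOf_injective (MulAut.conj : K →* MulAut K) (conj_injective hZ) y).symm
  have hYE : YE p y := YE.of_ya hZ hY
  have hzo : orderOf (f y) = p := by
    rw [← hyo]
    exact orderOf_injective f.toMonoidHom f.injective y
  have hcyc : ∀ P : Sylow p K, IsCyclic (P : Subgroup K) := by
    intro P
    have hP : IsPGroup p ↥((P : Subgroup K).map f.toMonoidHom) := P.isPGroup'.map _
    obtain ⟨Q, hQ⟩ := hP.exists_le_sylow
    have := hcycL Q
    have h2 : IsCyclic ↥((P : Subgroup K).map f.toMonoidHom) :=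
      isCyclic_of_injective (Subgroup.inclusion hQ) (Subgroup.inclusion_injective hQ)
    have h3 : IsCyclic ↥(map (↑f : K →* ↥(Cfsg.Lie.twistedG2 F (3 ^ m))) ↑P) := h2
    exact isCyclic_of_surjective (f.subgroupMap (P : Subgroup K)).symm
      (f.subgroupMap (P : Subgroup K)).symm.surjective
  have hcard := card_eq (Cfsg.Agent.ChevalleyStructure.Ree.Data.data c)
  have hq27 : 27 ≤ Fintype.card F := by
    rw [hK]
    calc 27 = 3 ^ 3 := by norm_num
      _ ≤ _ := Nat.pow_le_pow_right (by norm_num) (by omega)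
  by_cases hpq : p ∣ (Fintype.card F) ^ 2 - 1
  · -- the centralizer of an involution
    have hLw := lw_abs hp5 hm hK (Cfsg.Agent.ChevalleyStructure.Ree.Data.data c) hpq
    have hRf : RC (MulAut.conj (f y)) := by
      rw [← tr_conj]
      exact hR.tr f
    exact hLw.false hzo (RE.of_rc hRf) hcycL
  · have hpK : p ∣ (Fintype.card F) ^ 3 * (Fintype.card F - 1) * ((Fintype.card F) ^ 3 + 1) := by
      rw [← hcard, ← hzo]
      exact orderOf_dvd_natCard _
    have hp3 : p ≠ 3 := by omega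
    have hfac1 : (Fintype.card F) ^ 2 - 1 = (Fintype.card F + 1) * (Fintype.card F - 1) := by
      have := Nat.sq_sub_sq (Fintype.card F) 1
      rwa [one_pow] at this
    have hp1 : ¬ p ∣ (Fintype.card F) ^ 3 * (Fintype.card F - 1) := by
      intro h2
      rcases (hp.out.dvd_mul).1 h2 with h3 | h3
      · rw [hK] at h3
        exact hp3 ((Nat.prime_dvd_prime_iff_eq hp.out Nat.prime_three).1
          (hp.out.dvd_of_dvd_pow (hp.out.dvd_of_dvd_pow h3)))
      · exact hpq (by rw [hfac1]; exact h3.mul_left _)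
    have hq0 : Fintype.card F ≤ (Fintype.card F) ^ 2 := Nat.le_self_pow (by norm_num) _
    have hfac3 : (Fintype.card F) ^ 3 + 1 = (Fintype.card F + 1) * ((Fintype.card F) ^ 2 - Fintype.card F + 1) := by
      zify [hq0]
      ring
    have hp2 : p ∣ (Fintype.card F) ^ 2 - Fintype.card F + 1 := by
      have h2 := ((hp.out.dvd_mul).1 hpK).resolve_left hp1
      rw [hfac3] at h2
      refine ((hp.out.dvd_mul).1 h2).resolve_left fun h3 => hpq ?_
      rw [hfac1]
      exact h3.mul_right _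
    have hnf : ¬ FixR 3 (MulAut.conj (f y)) :=
      not_fixR_abs hK (Cfsg.Agent.ChevalleyStructure.Ree.Data.data c) hp1 hzo
    have hnfK : ¬ FixR 3 (MulAut.conj y) := by
      intro h2
      apply hnf
      refine FixR.of_tr f.symm ?_
      rwa [tr_conj, f.symm_apply_apply]
    refine false_of_crow hna hb hg hyo hYE hcyc hnfK ?_
    by_cases hp8 : 8 < p
    · left
      exact (m0 hh hK hp8 hzo hcycL hnf).congr f
    · right
      have hp7 : p = 7 := by
        have h5 : p ≠ 6 := by rintro rfl; exact absurd hp.out (by norm_num)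
        have h6 : p ≠ 8 := by rintro rfl; exact absurd hp.out (by norm_num)
        have h7 : p ≠ 5 := by
          rintro rfl
          -- `5 ∤ q² - q + 1`
          have h8 : (Fintype.card F) ^ 2 - Fintype.card F + 1 + Fintype.card F = (Fintype.card F) ^ 2 + 1 := by omega
          have h9 : (Fintype.card F ^ 2 + 1) % 5 = Fintype.card F % 5 := by
            rw [← h8, Nat.add_mod, Nat.mod_eq_zero_of_dvd hp2, zero_add, Nat.mod_mod]
          have h10 : Fintype.card F % 5 < 5 := Nat.mod_lt _ (by norm_num)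
          rw [Nat.add_mod, Nat.pow_mod] at h9
          interval_cases h11 : (Fintype.card F % 5) <;> omega
        omega
      subst hp7
      rw [hK] at hp2
      exact (zc hm hK hp2).congr f

end Cfsg.Agent.H541.NoyaRee
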