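import Cfsg.Agent.H301.SY.Tools
import Cfsg.Agent.H410.EndSz

/-!
# S3846: the Suzuki groups (helper541, task 1557)
-/

set_option autoImplicit false

namespace Cfsg.Agent.H541.NoyaSz

open Subgroup MulAction Cfsg.Agent.H101.SzAbs Cfsg.Agent.H101.SzAbs.Geo Cfsg.Agent.H459.Rad
  Cfsg.Agent.H459.Iface Cfsg.Agent.H301.SY Cfsg.Agent.LieExceptional Cfsg.Agent.LieExceptional.SuzukiTori

section abs

variable {G Ω : Type*} [Group G] [MulAction G Ω] {P : Ω → Subgroup G}

/-- an element of odd order which preserves a set of two points fixes them -/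
theorem fix_of_odd {x : G} {a b : Ω} (hx : Odd (orderOf x)) (ha : x • a = a ∨ x • a = b)
    (hb : x • b = a ∨ x • b = b) : x • a = a ∧ x • b = b := by
  have h2 : (x * x) • a = a ∧ (x * x) • b = b := by
    rw [mul_smul, mul_smul]
    rcases ha with h1 | h1
    · rw [h1, h1]
      rcases hb with h3 | h3
      · have : a = b := by
          have h4 : x • a = x • b := by rw [h1, h3]
          exact (smul_left_cancel_iff x).1 h4
        rw [← this]
        exact ⟨rfl, by rw [h1, h1]⟩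
      · rw [h3, h3]
        exact ⟨rfl, rfl⟩
    · rcases hb with h3 | h3
      · rw [h1, h3, h1]
        exact ⟨rfl, rfl⟩
      · have : a = b := by
          have h4 : x • a = x • b := by rw [h1, h3]
          exact (smul_left_cancel_iff x).1 h4
        rw [← this] at h1 ⊢
        rw [h1, h1]
        exact ⟨rfl, rfl⟩
  obtain ⟨k, hk⟩ := hx
  have h1 : x = (x * x) ^ (k + 1) := by
    have h3 : (x * x) ^ (k + 1) = x ^ (orderOf x) * x := by
      rw [← pow_two, ← pow_mul, hk, ← pow_succ]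
      rfl
    rw [h3, pow_orderOf_eq_one, one_mul]
  have key : ∀ c : Ω, (x * x) • c = c → x • c = c := by
    intro c hc
    have h3 : (x * x) ^ (k + 1) ∈ stabilizer G c := pow_mem (mem_stabilizer_iff.2 hc) _
    rw [← h1] at h3
    exact mem_stabilizer_iff.1 h3
  exact ⟨key a h2.1, key b h2.2⟩

variable [Finite G] [Finite Ω] {q : ℕ}

/-- elements of even order lie in some `P a` -/
theorem odd_of_notMem (h : Geo G Ω P) {y : G} (hy : ∀ a, y ∉ P a) : Odd (orderOf y) := by
  by_contra hodd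
  rw [Nat.not_odd_iff_even] at hodd
  obtain ⟨k, hk⟩ := hodd
  have hpos : 0 < orderOf y := orderOf_pos y
  have hz1 : y ^ k ≠ 1 := by
    intro h1
    have := orderOf_dvd_of_pow_eq_one h1
    have := Nat.le_of_dvd (by omega) this
    omega
  have hzz : y ^ k * y ^ k = 1 := by rw [← pow_add, ← hk, pow_orderOf_eq_one]
  obtain ⟨a, ha⟩ := h.fix _ hzz hz1
  exact hy a (h.cent a _ ha hz1 y ((Commute.refl y).pow_right k).eq)

/-- **an element of order `p ∣ q - 1`**: `YE` fails -/
theorem split_false (h : Geo G Ω P) (H : Hyp G Ω q) (hP : ∀ a x, x ∈ P a ↔ x = 1 ∨ ∀ b, x • b = b ↔ b = a)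
    (h4 : ∃ a, ∃ u ∈ P a, u * u ≠ 1) {p : ℕ} (hp : p.Prime) (hp5 : 5 ≤ p) (hpq : p ∣ q - 1) {x : G}
    (hx : orderOf x = p) (hY : YE p x) : False := by
  classical
  have hfact : Fact p.Prime := ⟨hp⟩
  have h8 := H.eight_le
  have hx1 : x ≠ 1 := by
    intro h1
    rw [h1, orderOf_one] at hx
    exact hp.one_lt.ne hx
  have hodd : Odd (orderOf x) := by rw [hx]; exact hp.odd_of_ne_two (by omega)
  have hpq2 : ¬ p ∣ q ^ 2 + 1 := fun h1 => (H.prime_dvd_facts hp h1).2 (hpq.mul_left _)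
  -- a fixed point
  obtain ⟨a, ha⟩ : ∃ a : Ω, x • a = a := by
    by_contra hcon
    push Not at hcon
    have h1 : x ∈ Hyp.free G Ω := Hyp.mem_free_iff.2 hcon
    exact hpq2 (H.dvd_of_free h1 hp (dvd_of_eq hx.symm))
  -- a point which is not fixed
  obtain ⟨c, hc⟩ : ∃ c : Ω, x • c ≠ c := by
    by_contra hcon
    push Not at hcon
    have h1 := H.three x hx1
    have h2 : fixedBy Ω x = Set.univ := Set.eq_univ_of_forall fun b => mem_fixedBy.2 (hcon b)
    rw [h2, Nat.card_congr (Equiv.Set.univ Ω), H.card_set] at h1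
    nlinarith
  -- the element of order four
  have htr : IsPretransitive G Ω := by
    have := H.two
    exact MulAction.isPretransitive_of_is_two_pretransitive
  obtain ⟨a₀, u₀, hu₀, hu₀2⟩ := h4
  have hu : ∀ b : Ω, ∃ u ∈ P b, u * u ≠ 1 := by
    intro b
    obtain ⟨g, hg⟩ := exists_smul_eq G a₀ b
    refine ⟨g * u₀ * g⁻¹, hg ▸ h.conj g a₀ u₀ hu₀, fun h1 => hu₀2 ?_⟩
    calc u₀ * u₀ = g⁻¹ * (g * u₀ * g⁻¹ * (g * u₀ * g⁻¹)) * g := by group
      _ = 1 := by rw [h1]; group
  obtain ⟨u, hua, hu2⟩ := hu a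
  have hu1 : u ≠ 1 := by
    rintro rfl
    exact hu2 (one_mul 1)
  obtain ⟨g, hg⟩ := exists_smul_eq G a c
  set v := g * u * g⁻¹ with hv
  have hvc : v ∈ P c := hg ▸ h.conj g a u hua
  have hv2 : v * v ≠ 1 := by
    intro h1
    apply hu2
    calc u * u = g⁻¹ * (v * v) * g := by rw [hv]; group
      _ = 1 := by rw [h1]; group
  have hv1 : v ≠ 1 := by
    intro h1
    apply hv2
    rw [h1, one_mul]
  have hvp : ∀ d : Ω, v • d = d → d = c := fun d hd => h.free c d v hvc hd hv1
  have hvvp : ∀ d : Ω, (v * v) • d = d → d = c := fun d hd => h.free c d _ ((P c).mul_mem hvc hvc) hd hv2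
  -- solvability
  have hsol : Group.IsSolvable ↥(closure ({x, u} : Set G)) := by
    have hPs : Group.IsSolvable (P a) := by
      have : Fact (Nat.Prime 2) := ⟨Nat.prime_two⟩
      have := (h.two a).isNilpotent
      infer_instance
    have h1 : Group.IsSolvable ↥(P a ⊔ zpowers x) := by
      refine Cfsg.Agent.SignalizersComponents.CoprimeBasic.isSolvable_sup ?_ hPs
        (Group.isSolvable_of_comm fun a b => by
          obtain ⟨i, hi⟩ := mem_zpowers_iff.1 a.2
          obtain ⟨j, hj⟩ := mem_zpowers_iff.1 b.2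
          apply Subtype.ext
          change (a : G) * b = b * a
          rw [← hi, ← hj]
          exact (Commute.refl x).zpow_zpow i j)
      rw [zpowers_le, mem_normalizer_iff]
      intro y
      constructor
      · intro hy
        have := h.conj x a y hy
        rwa [ha] at this
      · intro hy
        have h2 := h.conj x⁻¹ a _ hy
        have h3 : x⁻¹ • a = a := by rw [inv_smul_eq_iff, ha]
        rw [h3] at h2
        rwa [show x⁻¹ * (x * y * x⁻¹) * x⁻¹⁻¹ = y by group] at h2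
    refine Cfsg.Agent.SignalizersComponents.ComponentExists.isSolvable_of_le ?_ h1
    rw [closure_le]
    rintro y (rfl | rfl)
    · exact (le_sup_right : zpowers y ≤ _) (mem_zpowers y)
    · exact (le_sup_left : P a ≤ _) hua
  have hu2pow : ∃ k : ℕ, orderOf u = 2 ^ k := by
    obtain ⟨k, hk⟩ := (IsPGroup.iff_orderOf (p := 2)).1 (h.two a) ⟨u, hua⟩
    exact ⟨k, by rw [← hk, orderOf_mk]⟩
  have hD := hY 2 Nat.prime_two (by omega) u hu2pow hsol g
  rw [← hv] at hD
  set D : Subgroup G := closure ({x, v} : Set G) with hDdef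
  have hxD : x ∈ D := subset_closure (by simp)
  have hvD : v ∈ D := subset_closure (by simp)
  have hnt : Nontrivial D := ⟨⟨⟨x, hxD⟩, 1, fun h0 => hx1 (congrArg Subtype.val h0)⟩⟩
  obtain ⟨A, hAn, hA1, hAc⟩ := Cfsg.Agent.H410.EndSz.exists_abelian_normal hD
  have hconj : ∀ d ∈ D, ∀ y : D, y ∈ A → ∃ z : D, z ∈ A ∧ (z : G) = d * y * d⁻¹ := fun d hd y hy =>
    ⟨⟨d, hd⟩ * y * ⟨d, hd⟩⁻¹, hAn.conj_mem y hy ⟨d, hd⟩, rfl⟩
  have hcomm : ∀ y z : D, y ∈ A → z ∈ A → (y : G) * z = z * y := fun y z hy hz => congrArg Subtype.val (hAc y hy z hz)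
  by_cases hcase : ∃ y : D, y ∈ A ∧ y ≠ 1 ∧ ∃ c, (y : G) ∈ P c
  · obtain ⟨y, hy, hy1, d, hyd⟩ := hcase
    have hy1' : (y : G) ≠ 1 := fun h0 => hy1 (Subtype.ext h0)
    have key : ∀ t ∈ D, t • d = d := by
      intro t htD
      obtain ⟨z, hz, hzy⟩ := hconj t htD y hy
      have h4 : (z : G) ∈ P d := h.cent d y hyd hy1' z (hcomm z y hz hy)
      have h5 : (z : G) ∈ P (t • d) := by
        rw [hzy]
        exact h.conj t d y hyd
      have hz1 : (z : G) ≠ 1 := by
        rw [hzy]
        intro h0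
        apply hy1'
        calc (y : G) = t⁻¹ * (t * y * t⁻¹) * t := by group
          _ = 1 := by rw [h0]; group
      exact (h.free _ d z h5 (h.le d z h4) hz1).symm
    have h5 := hvp d (key v hvD)
    rw [h5] at key
    exact hc (key x hxD)
  · push Not at hcase
    obtain ⟨y, hyA, hy1⟩ := A.ne_bot_iff_exists_ne_one.1 hA1 |> fun ⟨y, hy⟩ => (⟨y, y.2, fun h0 => hy (Subtype.ext h0)⟩ :
      ∃ y : D, y ∈ A ∧ y ≠ 1)
    have hyP : ∀ d, (y : G) ∉ P d := hcase y hyA hy1
    have hy1' : (y : G) ≠ 1 := fun h0 => hy1 (Subtype.ext h0)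
    have hyodd : Odd (orderOf (y : G)) := odd_of_notMem h hyP
    by_cases hfix : ∃ d : Ω, (y : G) • d = d
    · -- two fixed points
      obtain ⟨d, hd⟩ := hfix
      obtain ⟨e, he, hed⟩ : ∃ e : Ω, (y : G) • e = e ∧ e ≠ d := by
        by_contra hcon
        push Not at hcon
        apply hyP d
        rw [hP]
        right
        intro b
        exact ⟨hcon b, fun hb => hb ▸ hd⟩
      have hfy : ∀ b : Ω, (y : G) • b = b → b = d ∨ b = e := by
        intro b hb
        by_contra hcon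
        push Not at hcon
        exact hy1' (h.three y d e b hed.symm (Ne.symm hcon.2) (Ne.symm hcon.1) hd he hb)
      have key : ∀ t ∈ D, (t • d = d ∨ t • d = e) ∧ (t • e = d ∨ t • e = e) := by
        intro t ht
        obtain ⟨z, hz, hzy⟩ := hconj t ht y hyA
        have hzc := hcomm y z hyA hz
        -- the fixed points of `z` are `t d`, `t e`
        have hz1 : (z : G) ≠ 1 := by
          rw [hzy]
          intro h0
          apply hy1'
          calc (y : G) = t⁻¹ * (t * y * t⁻¹) * t := by group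
            _ = 1 := by rw [h0]; group
        have hzd : (z : G) • (t • d) = t • d := by
          rw [hzy, ← mul_smul]
          rw [show t * (y : G) * t⁻¹ * t = t * y by group, mul_smul, hd]
        have hze : (z : G) • (t • e) = t • e := by
          rw [hzy, ← mul_smul]
          rw [show t * (y : G) * t⁻¹ * t = t * y by group, mul_smul, he]
        have hne : t • d ≠ t • e := fun h1 => hed ((smul_left_cancel_iff t).1 h1).symm
        have hfz : ∀ b : Ω, (z : G) • b = b → b = t • d ∨ b = t • e := by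
          intro b hb
          by_contra hcon
          push Not at hcon
          exact hz1 (h.three z (t • d) (t • e) b hne (Ne.symm hcon.2) (Ne.symm hcon.1) hzd hze hb)
        have h1 : (z : G) • ((y : G) • (t • d)) = (y : G) • (t • d) := by
          rw [← mul_smul, ← hzc, mul_smul, hzd]
        have h2 : (z : G) • ((y : G) • (t • e)) = (y : G) • (t • e) := by
          rw [← mul_smul, ← hzc, mul_smul, hze]
        obtain ⟨h5, h6⟩ := fix_of_odd hyodd (hfz _ h1) (hfz _ h2)
        exact ⟨hfy _ h5, hfy _ h6⟩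
      have h5 := key v hvD
      have h6 : (v * v) • d = d ∧ (v * v) • e = e := by
        rw [mul_smul v v d, mul_smul v v e]
        rcases h5 with ⟨h1 | h1, h2 | h2⟩
        · exact absurd ((smul_left_cancel_iff v).1 (h2.trans h1.symm)) hed
        · rw [h1, h1, h2, h2]; exact ⟨rfl, rfl⟩
        · rw [h1, h2, h1]; exact ⟨rfl, rfl⟩
        · exact absurd ((smul_left_cancel_iff v).1 (h2.trans h1.symm)) hed
      exact hed ((hvvp e h6.2).trans (hvvp d h6.1).symm)
    · push Not at hfix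
      have hyf : (y : G) ∈ Hyp.free G Ω := Hyp.mem_free_iff.2 hfix
      have hxN : x ∈ normalizer ((centralizer ({(y : G)} : Set G) : Subgroup G) : Set G) := by
        obtain ⟨z, hz, hzy⟩ := hconj x hxD y hyA
        refine H.ti hyf x y (mem_centralizer_singleton_iff.2 rfl) hy1' ?_
        rw [← hzy]
        exact mem_centralizer_singleton_iff.2 (hcomm z y hz hyA)
      obtain ⟨n, hn1, hn4, -, -, hn, -⟩ := H.data hyf
      have h5 : p ∣ n * Nat.card (centralizer ({(y : G)} : Set G)) := by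
        rw [← hn, ← hx]
        exact Subgroup.orderOf_dvd_natCard _ hxN
      rcases (hp.dvd_mul).1 h5 with h6 | h6
      · have := Nat.le_of_dvd (by omega) h6
        omega
      · exact hpq2 (H.dvd_card_centralizer hyf hp h6)

/-- an element of order prime to `q (q - 1)` normalises no nontrivial `2`-subgroup -/
theorem not_fixR (h : Geo G Ω P) (H : Hyp G Ω q) {p : ℕ} (hp : p.Prime) (hpq : p ∣ q ^ 2 + 1) {x : G}
    (hx : orderOf x = p) : ¬ FixR 2 (MulAut.conj x) := by
  rintro ⟨R, hR1, hR, hRx⟩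
  have hfact : Fact (Nat.Prime 2) := ⟨Nat.prime_two⟩
  -- a fixed point of `R`
  have hcard : ¬ 2 ∣ Nat.card Ω := by
    rw [H.card_set]
    obtain ⟨t, ht⟩ := H.even_q
    have : q ^ 2 = 2 * (2 * t * t) := by rw [ht]; ring
    omega
  obtain ⟨c, hc⟩ := hR.nonempty_fixed_point_of_prime_not_dvd_card Ω hcard
  have hc' : ∀ r ∈ R, r • c = c := fun r hr => mem_fixedPoints.1 hc ⟨r, hr⟩
  -- an involution of `R`
  obtain ⟨t, ht1, htR, htt⟩ : ∃ t : G, t ≠ 1 ∧ t ∈ R ∧ t * t = 1 := by
    have h2 : 2 ∣ Nat.card R := by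
      obtain ⟨n, hn⟩ := IsPGroup.iff_card.1 hR
      rw [hn]
      refine dvd_pow_self 2 ?_
      rintro rfl
      rw [pow_zero] at hn
      exact hR1 (Subgroup.card_eq_one.1 hn)
    obtain ⟨t, ht⟩ := exists_prime_orderOf_dvd_card' 2 h2
    refine ⟨t, ?_, t.2, ?_⟩
    · intro h1
      rw [Subtype.ext h1 (a2 := (1 : R)), orderOf_one] at ht
      omega
    · have := pow_orderOf_eq_one t
      rw [ht, pow_two] at this
      exact congrArg Subtype.val this
  obtain ⟨d, hd⟩ := h.fix t htt ht1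
  have hcd : c = d := h.free d c t hd (hc' t htR) ht1
  rw [← hcd] at hd
  have h5 : x * t * x⁻¹ ∈ P (x • c) := h.conj x c t hd
  have h6 : x * t * x⁻¹ ∈ R := hRx t htR
  have h7 : x * t * x⁻¹ ≠ 1 := by
    intro h0
    apply ht1
    calc t = x⁻¹ * (x * t * x⁻¹) * x := by group
      _ = 1 := by rw [h0]; group
  have h8 : x • c = c := (h.free _ c _ h5 (hc' _ h6) h7).symm
  -- the order of the stabiliser
  have htr : IsPretransitive G Ω := by
    have := H.two
    exact MulAction.isPretransitive_of_is_two_pretransitive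
  have h9 : Nat.card G = Nat.card (stabilizer G c) * (q ^ 2 + 1) := by
    rw [← H.card_set, ← MulAction.index_stabilizer_of_transitive G c, Subgroup.card_mul_index]
  rw [H.card_group] at h9
  have h10 : q ^ 2 * (q - 1) = Nat.card (stabilizer G c) := Nat.eq_of_mul_eq_mul_right (by positivity) h9
  apply (H.prime_dvd_facts hp hpq).2
  rw [h10, ← hx]
  exact Subgroup.orderOf_dvd_natCard _ (mem_stabilizer_iff.2 h8)

end abs

/-- `YA` is invariant under conjugation by inner automorphisms -/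
theorem YA.conj {L : Type*} [Group L] {p : ℕ} {x y : MulAut L} (h : YA p x) {k : L}
    (hk : x = MulAut.conj k * y * (MulAut.conj k)⁻¹) : YA p y := by
  have h1 := h.tr (MulAut.conj k)⁻¹
  have h2 : Cfsg.Agent.H459.Rad.tr (MulAut.conj k)⁻¹ x = y := by
    ext l
    rw [tr_apply]
    change (MulAut.conj k)⁻¹ (x (MulAut.conj k l)) = y l
    rw [hk, MulAut.mul_apply, MulAut.mul_apply, MulAut.inv_apply_self, MulAut.inv_apply_self]
  rwa [h2] at h1

/-- `YA` makes `⟨t, σ t, σ² t⟩` solvable for the conjugates `t` of an involution fixed by `σ` -/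
theorem exists_solvable {G : Type*} [Group G] [Finite G] {σ : MulAut G} {p : ℕ} (h : YA p σ) (hp : p ≠ 2)
    (hinj : Function.Injective (MulAut.conj : G →* MulAut G)) {w : G} (hw : w * w = 1) (hw1 : w ≠ 1)
    (hσ : σ w = w) (g : G) :
    ∃ D : Subgroup G, Group.IsSolvable D ∧ g * w * g⁻¹ ∈ D ∧ σ (g * w * g⁻¹) ∈ D ∧
      σ (σ (g * w * g⁻¹)) ∈ D := by
  have hc : σ * MulAut.conj w = MulAut.conj w * σ := by
    ext y
    simp [MulAut.conj_apply, hσ]
  have hs : Group.IsSolvable ↥(closure ({σ, MulAut.conj w} : Set (MulAut G))) := by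
    refine Group.isSolvable_of_comm fun a b => ?_
    have key : ∀ y ∈ closure ({σ, MulAut.conj w} : Set (MulAut G)),
        y ∈ centralizer ({σ, MulAut.conj w} : Set (MulAut G)) := by
      have h1 : closure ({σ, MulAut.conj w} : Set (MulAut G)) ≤ centralizer ({σ, MulAut.conj w} : Set (MulAut G)) := by
        rw [closure_le]
        rintro y (rfl | rfl)
        · rw [SetLike.mem_coe, mem_centralizer_iff]
          rintro z (rfl | rfl)
          · rfl
          · exact hc.symm
        · rw [SetLike.mem_coe, mem_centralizer_iff]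
          rintro z (rfl | rfl)
          · exact hc
          · rfl
      exact fun y hy => h1 hy
    have h2 : closure ({σ, MulAut.conj w} : Set (MulAut G)) ≤ centralizer {(b : MulAut G)} := by
      rw [closure_le]
      intro z hz
      rw [SetLike.mem_coe, mem_centralizer_singleton_iff]
      exact mem_centralizer_iff.1 (key b b.2) z hz
    exact Subtype.ext (mem_centralizer_singleton_iff.1 (h2 a.2))
  have ho : orderOf w = 2 := orderOf_eq_prime (by rw [pow_two, hw]) hw1
  have h1 := h 2 Nat.prime_two (Ne.symm hp) w ⟨1, by rw [ho, pow_one]⟩ hs g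
  set E : Subgroup (MulAut G) := closure ({σ, MulAut.conj (g * w * g⁻¹)} : Set (MulAut G)) with hE
  have hσE : σ ∈ E := subset_closure (by simp)
  have hcE : MulAut.conj (g * w * g⁻¹) ∈ E := subset_closure (by simp)
  have hconj : ∀ k : G, MulAut.conj k ∈ E → MulAut.conj (σ k) ∈ E := by
    intro k hk
    have h2 : MulAut.conj (σ k) = σ * MulAut.conj k * σ⁻¹ := by
      ext y
      simp [MulAut.conj_apply]
    rw [h2]
    exact E.mul_mem (E.mul_mem hσE hk) (E.inv_mem hσE)
  refine ⟨E.comap MulAut.conj, ?_, hcE, hconj _ hcE, hconj _ (hconj _ hcE)⟩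
  let f : ↥(E.comap (MulAut.conj : G →* MulAut G)) →* E :=
    ((MulAut.conj : G →* MulAut G).comp (E.comap (MulAut.conj : G →* MulAut G)).subtype).codRestrict E fun x => x.2
  exact Group.isSolvable_of_isSolvable_injective (f := f) (fun x y hxy => Subtype.ext (hinj (congrArg Subtype.val hxy)))

section sz

variable {F : Type*} [Field F] [Fintype F] {m : ℕ}

/-- the automorphisms of order `p` with `YA` are inner -/
theorem inner (hm : 1 ≤ m) (hF : Fintype.card F = 2 ^ (2 * m + 1)) {p : ℕ} [hp : Fact p.Prime] (hp5 : 5 ≤ p)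
    {x : MulAut ↥(Cfsg.Lie.Sz F (2 ^ (m + 1)))} (hx : orderOf x = p) (hY : YA p x) : ∃ g, x = MulAut.conj g := by
  have hp2 : p ≠ 2 := by omega
  obtain ⟨g, τ, hg⟩ := Cfsg.Agent.H70.SzAutThm.exists_conj_field hm hF x
  have hcycS := fun P : Sylow p ↥(Cfsg.Lie.Sz F (2 ^ (m + 1))) => Cfsg.Agent.H67.SzOdd.sylow_cyclic hm hF hp2 P
  by_cases hτ : τ = 1
  · exact ⟨g, by rw [hg, hτ, map_one, mul_one]⟩
  exfalso
  have hxp : x ^ p = 1 := by rw [← hx, pow_orderOf_eq_one]
  have hZ := Cfsg.Agent.H67.SzOdd.center_sz hm hF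
  obtain ⟨ho, k, hk⟩ := Cfsg.Agent.H410.EndFld.conj_std hZ
    (Φ := Cfsg.Agent.H70.SzOut.fieldAut (Cfsg.Agent.LieRecognition.SzMatrix.good hF))
    (fun σ τ => map_mul _ σ τ) (map_one _)
    (fun τ g hg => Cfsg.Agent.H70.SzOut.eq_one_of_conj (Cfsg.Agent.LieRecognition.SzMatrix.good hF) hg) hp2 hxp hg hτ
    hcycS (d := 2) (by norm_num) (Cfsg.Agent.H628.ZRowSz.card_sz hF) (Cfsg.Agent.H628.ZRowSz.card_fixed hF τ) (by
      rw [Nat.card_eq_fintype_card, hF]
      intro h1
      exact hp2 ((Nat.prime_dvd_prime_iff_eq hp.out Nat.prime_two).1 (hp.out.dvd_of_dvd_pow h1)))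
  have hinj : Function.Injective (MulAut.conj : ↥(Cfsg.Lie.Sz F (2 ^ (m + 1))) →* _) := conj_injective hZ
  set R := Cfsg.Agent.ThreePrime.SzRel.ofGood (Cfsg.Agent.LieRecognition.SzMatrix.good hF) with hRdef
  set σ := Cfsg.Agent.H70.SzOut.fieldAut (Cfsg.Agent.LieRecognition.SzMatrix.good hF) τ with hσ
  have hσu : ∀ b : F, σ (R.u 0 b) = R.u 0 (τ b) := by
    intro b
    have h1 := Cfsg.Agent.H70.SzOut.fieldAut_u (Cfsg.Agent.LieRecognition.SzMatrix.good hF) τ 0 b
    rw [map_zero] at h1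
    exact h1
  have hσw : σ R.w = R.w := Cfsg.Agent.H70.SzOut.fieldAut_w (Cfsg.Agent.LieRecognition.SzMatrix.good hF) τ
  have hYσ : YA p σ := YA.conj hY hk
  obtain ⟨b, hb⟩ : ∃ b : F, τ b ≠ b := by
    by_contra h1
    push Not at h1
    exact hτ (RingEquiv.ext h1)
  have hb2 : τ (τ b) ≠ b := by
    intro h1
    apply hb
    have h2 : ∀ n : ℕ, (τ ^ (2 * n)) b = b := by
      intro n
      induction n with
      | zero => rfl
      | succ n ih =>
        have h3 : (τ ^ (2 * (n + 1))) b = (τ ^ (2 * n)) (τ (τ b)) := by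
          rw [mul_add, pow_add]
          rfl
        rw [h3, h1, ih]
    obtain ⟨n, hn⟩ := hp.out.odd_of_ne_two hp2
    have h3 : (τ ^ p) b = τ b := by
      rw [hn, pow_succ']
      exact congrArg τ (h2 n)
    rw [← h3, ← ho, pow_orderOf_eq_one]
    rfl
  have hww := R.w_mul_w
  have hwN := R.w_not_mem_normalizer
  have hw1 : R.w ≠ 1 := by
    intro h1
    rw [h1] at hwN
    exact hwN (one_mem _)
  have huu : ∀ c : F, R.u 0 c * R.u 0 c = 1 := fun c => (R.u_sq_iff 0 c).2 rfl
  have hucomm : ∀ c e : F, R.u 0 c * R.u 0 e = R.u 0 e * R.u 0 c := by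
    intro c e
    rw [R.comm_iff, zero_mul]
  have hui : (R.u 0 b)⁻¹ = R.u 0 b := inv_eq_of_mul_eq_one_right (huu b)
  obtain ⟨D, hD, hD1, hD2, hD3⟩ := exists_solvable hYσ hp2 hinj hww hw1 hσw (R.u 0 b)
  rw [hui] at hD1 hD2 hD3
  -- transport to the permutation model
  obtain ⟨e⟩ := Cfsg.Agent.OddCyclic.ClaimC.SzIso.iso hm hF
  have hG := Cfsg.Agent.H101.SzGeo.geo hm hF
  have hfin : Finite ↥(Cfsg.Sz F m) := Finite.of_injective e e.injective
  have h11 : e.symm (R.u 0 1) ≠ 1 := by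
    intro h1
    rw [map_eq_one_iff e.symm e.symm.injective] at h1
    exact R.u_ne_one one_ne_zero h1
  obtain ⟨a, ha⟩ := hG.fix (e.symm (R.u 0 1)) (by rw [← map_mul, huu, map_one]) h11
  have hua : ∀ c : F, e.symm (R.u 0 c) ∈ Cfsg.Agent.H101.SzGeo.P hF a := by
    intro c
    refine hG.cent a _ ha h11 _ ?_
    rw [← map_mul, ← map_mul, hucomm]
  have htr : ∀ y, Cfsg.Agent.H459.Rad.tr e.symm σ (e.symm y) = e.symm (σ y) := by
    intro y
    rw [tr_apply]
    simp
  refine Cfsg.Agent.H410.EndSz.key hG (Cfsg.Agent.H410.EndSz.abC hm hF) (σ := Cfsg.Agent.H459.Rad.tr e.symm σ)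
    (w := e.symm R.w) (u := e.symm (R.u 0 b)) (a := a)
    (D := D.map e.symm.toMonoidHom) ?_ ?_ ?_ ?_ (hua b) ?_ ?_ ?_ ?_ ?_ ?_ ?_ ?_ ?_
  · rw [← map_mul, hww, map_one]
  · intro h1
    exact hw1 ((map_eq_one_iff e.symm e.symm.injective).1 h1)
  · intro h1
    apply hwN
    have h2 := hG.central a _ ha (by rw [← map_mul, huu, map_one]) _ h1
    rw [← map_mul, ← map_mul] at h2
    have h3 := e.symm.injective h2
    refine R.ti (x := R.u 0 1) (R.u_mem 0 1) (R.u_ne_one one_ne_zero) ?_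
    rw [← h3, mul_inv_cancel_right]
    exact R.u_mem 0 1
  · rw [htr, hσw]
  · rw [htr, hσu]
    exact hua _
  · rw [htr, htr, hσu, hσu]
    exact hua _
  · rw [← map_mul, huu, map_one]
  · rw [htr, hσu]
    intro h1
    exact hb (R.u_inj (e.symm.injective h1)).2
  · rw [htr, htr, hσu, hσu]
    intro h1
    exact hb2 (R.u_inj (e.symm.injective h1)).2
  · exact Cfsg.Agent.SignalizersComponents.ComponentExists.isSolvable_map hD _
  · exact ⟨_, hD1, by simp⟩
  · rw [← map_mul, ← map_mul, htr]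
    exact ⟨_, hD2, rfl⟩
  · rw [← map_mul, ← map_mul, htr, htr]
    exact ⟨_, hD3, rfl⟩

/-- there is an element of order four in some `P a` -/
theorem exists_order_four (hm : 1 ≤ m) (hF : Fintype.card F = 2 ^ (2 * m + 1)) :
    ∃ a, ∃ u ∈ Cfsg.Agent.H101.SzGeo.P hF a, u * u ≠ 1 := by
  refine ⟨Cfsg.Agent.H101.SzGeo.inf F m, ?_⟩
  rw [Cfsg.Agent.H101.SzGeo.P_inf hm hF]
  refine ⟨(SuzukiSylow.qu hF (1 : F) 0 : Cfsg.Sz F m), (SuzukiSylow.qu hF (1 : F) 0).2, fun h1 => ?_⟩
  have h2 : SuzukiSylow.qu hF (1 : F) 0 ^ 2 = 1 := by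
    apply Subtype.ext
    rw [pow_two]
    exact h1
  rw [SuzukiSylow.qu_sq, ← SuzukiSylow.qu_zero_zero hF, SuzukiSylow.qu_eq_iff, one_pow, one_mul] at h2
  exact one_ne_zero h2.2

/-- `M0` for the elements of order `p ∣ q² + 1`, `p ≥ 7` -/
theorem m0 (hh : HH) {F : Type} [Field F] [Fintype F] {m : ℕ} (hm : 1 ≤ m) (hF : Fintype.card F = 2 ^ (2 * m + 1))
    {p : ℕ} [hp : Fact p.Prime] (hp7 : 5 < p) {x : Cfsg.Sz F m} (hx : orderOf x = p)
    (hcyc : ∀ P : Sylow p (Cfsg.Sz F m), IsCyclic (P : Subgroup (Cfsg.Sz F m)))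
    (hfix : ¬ FixR 2 (MulAut.conj x)) : M0 x := by
  classical
  have hchar : CharP F 2 := by
    obtain ⟨c, hc⟩ := CharP.exists F
    have hcp : c.Prime := (CharP.char_is_prime_or_zero F c).resolve_right (by
      rintro rfl
      have := CharP.charP_to_charZero F
      exact not_injective_infinite_finite (fun n : ℕ => (n : F)) Nat.cast_injective)
    have h1 : c ∣ Fintype.card F := (CharP.cast_eq_zero_iff F c _).1 (Nat.cast_card_eq_zero F)
    rw [hF] at h1
    have h2 : c = 2 := (Nat.prime_dvd_prime_iff_eq hcp Nat.prime_two).1 (hcp.dvd_of_dvd_pow h1)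
    rwa [h2] at hc
  have hne : ∀ t : ℕ, t.Prime → t ≠ 2 → (t : F) ≠ 0 := by
    intro t ht ht2 h1
    exact ht2 ((Nat.prime_dvd_prime_iff_eq Nat.prime_two ht).1 ((CharP.cast_eq_zero_iff F 2 t).1 h1)).symm
  refine M0.of_triv hcyc hx ?_
  intro t ht htp R hR hRx
  by_cases ht2 : t = 2
  · subst ht2
    have hR1 : R = ⊥ := by
      by_contra hne
      exact hfix ⟨R, hne, hR, fun a ha => hRx a ha⟩
    intro a ha
    rw [hR1, mem_bot] at ha
    rw [ha, mul_one, one_mul]
  · refine hh F (Fin 4 → F) (Cfsg.Sz F m) (SuzukiHyp.rep F m) (SuzukiHyp.rep_injective m) p t hp.out ht (Ne.symm htp)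
      (hne p hp.out (by omega)) (hne t ht ht2) ?_ R hR x ⟨1, by rw [pow_one, hx]⟩ hRx
    rw [Module.finrank_fin_fun]
    have : p ≠ 6 := by
      rintro rfl
      exact absurd hp.out (by norm_num)
    omega

end sz

/-- **The row of the Suzuki groups** (task 1557). -/
theorem noya_sz (hh : HH) {K : Type*} [Group K] [Finite K] [IsSimpleGroup K] {p : ℕ} [hp : Fact p.Prime]
    (h : Cfsg.Lie.IsoSuzuki K) (hp5 : 5 ≤ p) (hb : Blk p K) (hg : Gw 2 K) : NoYA p K := by
  obtain ⟨F, iF, iF', m, hm, hF, ⟨f⟩⟩ := h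
  obtain ⟨e⟩ := Cfsg.Agent.OddCyclic.ClaimC.SzIso.iso hm hF
  have hfin : Finite ↥(Cfsg.Sz F m) := Finite.of_injective e e.injective
  have hfinΩ := Cfsg.Agent.H101.SzGeo.finite_ovoid F m
  intro x hx hR hY
  have hp2 : p ≠ 2 := by omega
  have hfact2 : Fact (Nat.Prime 2) := ⟨Nat.prime_two⟩
  -- `x` is inner
  obtain ⟨g, hg1⟩ := inner hm hF hp5 (x := Cfsg.Agent.H459.Rad.tr f x) (by rw [orderOf_tr, hx]) (hY.tr f)
  have hZ' := Cfsg.Agent.H67.SzOdd.center_sz hm hF
  have hZ : center K = ⊥ := by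
    rw [eq_bot_iff]
    intro z hz
    have h1 : f z ∈ center ↥(Cfsg.Lie.Sz F (2 ^ (m + 1))) := by
      rw [mem_center_iff] at hz ⊢
      intro y
      have h2 := congrArg f (hz (f.symm y))
      rwa [map_mul, map_mul, f.apply_symm_apply] at h2
    rw [hZ', mem_bot] at h1
    rw [mem_bot]
    exact f.injective (h1.trans (map_one f).symm)
  have hna : ¬ IsMulCommutative K := by
    intro h1
    have h2 : center K = ⊤ := by
      rw [eq_top_iff]
      intro z _
      rw [mem_center_iff]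
      intro y
      exact h1.is_comm.comm y z
    rw [hZ] at h2
    exact bot_ne_top h2
  obtain ⟨y, hy⟩ : ∃ y : K, x = MulAut.conj y := by
    refine ⟨f.symm g, ?_⟩
    ext a
    have h1 : f (x (f.symm (f a))) = g * f a * g⁻¹ := by
      have h2 := DFunLike.congr_fun hg1 (f a)
      rwa [tr_apply, MulAut.conj_apply] at h2
    rw [f.symm_apply_apply] at h1
    rw [MulAut.conj_apply]
    apply f.injective
    rw [h1, map_mul, map_mul, map_inv, f.apply_symm_apply]
  subst hy
  have hinj := conj_injective hZ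
  have hyo : orderOf y = p := by
    rw [← hx]
    exact (orderOf_injective (MulAut.conj : K →* MulAut K) hinj y).symm
  have hYE : YE p y := YE.of_ya hZ hY
  -- the model
  set ε : K ≃* ↥(Cfsg.Sz F m) := f.trans e.symm with hε
  have hzo : orderOf (ε y) = p := by
    rw [← hyo]
    exact orderOf_injective ε.toMonoidHom ε.injective y
  have hZL : center ↥(Cfsg.Sz F m) = ⊥ := by
    rw [eq_bot_iff]
    intro z hz
    have h1 : e z ∈ center ↥(Cfsg.Lie.Sz F (2 ^ (m + 1))) := by
      rw [mem_center_iff] at hz ⊢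
      intro y
      have h2 := congrArg e (hz (e.symm y))
      rwa [map_mul, map_mul, e.apply_symm_apply] at h2
    rw [hZ', mem_bot] at h1
    rw [mem_bot]
    exact e.injective (h1.trans (map_one e).symm)
  have hYL : YE p (ε y) := by
    refine YE.of_ya hZL ?_
    rw [← tr_conj]
    exact hY.tr ε
  have hcycL : ∀ P : Sylow p ↥(Cfsg.Sz F m), IsCyclic (P : Subgroup ↥(Cfsg.Sz F m)) :=
    fun P => Cfsg.Agent.S0331.result hm hF hp2 P
  have hcyc : ∀ P : Sylow p K, IsCyclic (P : Subgroup K) := by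
    intro P
    have hP : IsPGroup p ↥((P : Subgroup K).map ε.toMonoidHom) := P.isPGroup'.map _
    obtain ⟨Q, hQ⟩ := hP.exists_le_sylow
    have := hcycL Q
    have h2 : IsCyclic ↥((P : Subgroup K).map ε.toMonoidHom) :=
      isCyclic_of_injective (Subgroup.inclusion hQ) (Subgroup.inclusion_injective hQ)
    have h3 : IsCyclic ↥(map (↑ε : K →* ↥(Cfsg.Sz F m)) ↑P) := h2
    exact isCyclic_of_surjective (ε.subgroupMap (P : Subgroup K)).symm
      (ε.subgroupMap (P : Subgroup K)).symm.surjective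
  have hG := Cfsg.Agent.H101.SzGeo.geo hm hF
  have H := SuzukiHyp.hyp hm hF
  -- the order
  have hpK : p ∣ (2 ^ (2 * m + 1)) ^ 2 * (2 ^ (2 * m + 1) - 1) * ((2 ^ (2 * m + 1)) ^ 2 + 1) := by
    rw [← H.card_group, ← hzo]
    exact orderOf_dvd_natCard _
  rcases (hp.out.dvd_mul).1 hpK with h1 | h1
  · rcases (hp.out.dvd_mul).1 h1 with h2 | h2
    · exact hp2 ((Nat.prime_dvd_prime_iff_eq hp.out Nat.prime_two).1
        (hp.out.dvd_of_dvd_pow (hp.out.dvd_of_dvd_pow h2)))
    · exact split_false hG H (fun a z => Cfsg.Agent.H101.SzGeo.mem_P hm hF a z) (exists_order_four hm hF) hp.out hp5 h2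
        hzo hYL
  · have hnf : ¬ FixR 2 (MulAut.conj (ε y)) := not_fixR hG H hp.out h1 hzo
    have hnfK : ¬ FixR 2 (MulAut.conj y) := by
      intro h2
      apply hnf
      refine FixR.of_tr ε.symm ?_
      rwa [tr_conj, ε.symm_apply_apply]
    refine false_of_crow hna hb hg hyo hYE hcyc hnfK ?_
    by_cases hp7 : 5 < p
    · left
      exact (m0 hh hm hF hp7 hzo hcycL hnf).congr ε
    · right
      have hp5' : p = 5 := by omega
      intro s hs hsp hs2
      exfalso
      rw [hp5'] at hsp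
      have h3 : s ∣ 2 ^ 2 := hsp
      exact hs2 ((Nat.prime_dvd_prime_iff_eq hs Nat.prime_two).1 (hs.dvd_of_dvd_pow h3))

end Cfsg.Agent.H541.NoyaSz
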