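import Cfsg.Agent.H387.VO.Main
import Cfsg.Agent.H620.Kill
import Cfsg.Agent.H678.SuzGraph
import Cfsg.Agent.H732.DegRee
import Cfsg.Agent.H67.SzOdd
import Cfsg.Agent.H438.SzMax
import Cfsg.Agent.S1156

/-!
# S4987: the rows of the Suzuki groups and of the small Ree groups (helper541, task 3068)

* `row_of_cyclic` : cyclic Sylow `p`-subgroups and a character of `p`-defect zero;
* `row_sz`, `row_ree` : the rows (`p ≥ 5`).
-/

set_option autoImplicit false

namespace Cfsg.Agent.H541.VanSzRee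

open Cfsg Cfsg.Agent.H620 Cfsg.Agent.H387.VO

universe u

/-- Cyclic Sylow `p`-subgroups and a character of `p`-defect zero. -/
theorem row_of_cyclic {K : Type u} [Group K] [Finite K] {p : ℕ} [hp : Fact p.Prime]
    (hcyc : ∃ P : Sylow p K, IsCyclic (P : Subgroup K)) (hk : Kill K p) (hd : p ∣ Nat.card K) : Row p K := by
  by_cases h1 : (Nat.card K).factorization p = 1
  · exact Or.inl h1
  refine Or.inr (Or.inr ?_)
  obtain ⟨P, hP⟩ := hcyc
  set v := (Nat.card K).factorization p with hv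
  have hv0 : 1 ≤ v := (hp.out.dvd_iff_one_le_factorization Nat.card_pos.ne').1 hd
  have hv2 : 2 ≤ v := by omega
  obtain ⟨g, hg⟩ := IsCyclic.exists_generator (α := (P : Subgroup K))
  have hgo : orderOf g = p ^ v := by
    rw [orderOf_eq_card_of_forall_mem_zpowers hg, P.card_eq_multiplicity]
  have hgo' : orderOf (g : K) = p ^ v := by rw [Subgroup.orderOf_coe, hgo]
  have hy : orderOf ((g : K) ^ (p ^ (v - 1))) = p := by
    have h2 : p ^ v = p ^ (v - 1) * p := by rw [← pow_succ]; congr 1; omega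
    rw [orderOf_pow_of_dvd (pow_ne_zero _ hp.out.ne_zero) (by rw [hgo', h2]; exact dvd_mul_right _ _), hgo', h2]
    exact Nat.mul_div_cancel_left p (pow_pos hp.out.pos _)
  refine TwoVan.of_order (x := (g : K)) (y := (g : K) ^ (p ^ (v - 1))) ?_ ?_ ?_ ?_ ?_
  · rw [hgo']
    exact dvd_pow_self p (by omega)
  · rw [hy]
  · exact hk.vz (by rw [hgo']; exact dvd_pow_self p (by omega))
  · exact hk.vz (by rw [hy])
  · rw [hgo', hy]
    intro h
    have h3 : p ^ 2 ≤ p ^ v := Nat.pow_le_pow_right hp.out.pos hv2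
    have h4 := hp.out.two_le
    nlinarith

/-- A degree divisible by the `p`-part of the order. -/
theorem kill_of_deg {K : Type u} [Group K] [Finite K] {p : ℕ} [hp : Fact p.Prime] {d : ℕ} (hd : d ∈ charDegrees K)
    {m n : ℕ} (hc : Nat.card K = m * n) (hm : ¬ p ∣ m) (hn : n ∣ d) : Kill K p := by
  obtain ⟨χ, hχ⟩ := hd
  refine kill_of_dvd p χ.2 d (by rw [← hχ]; exact Cfsg.Agent.Blocks.Basic.irr_one_eq_charDegree χ.2) ?_
  refine Dvd.dvd.trans ?_ hn
  have h1 : p ^ (Nat.card K).factorization p ∣ m * n := hc ▸ Nat.ordProj_dvd _ _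
  exact Nat.Coprime.dvd_of_dvd_mul_left (Nat.Coprime.pow_left _ ((Nat.Prime.coprime_iff_not_dvd hp.out).2 hm)) h1

theorem cyclic_congr {K L : Type*} [Group K] [Group L] [Finite K] {p : ℕ} [hp : Fact p.Prime] (e : K ≃* L)
    (h : ∀ P : Sylow p L, IsCyclic (P : Subgroup L)) : ∃ P : Sylow p K, IsCyclic (P : Subgroup K) := by
  obtain ⟨P⟩ : Nonempty (Sylow p K) := inferInstance
  refine ⟨P, ?_⟩
  have hP : IsPGroup p ↥((P : Subgroup K).map e.toMonoidHom) := P.isPGroup'.map _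
  obtain ⟨Q, hQ⟩ := hP.exists_le_sylow
  have := h Q
  have h2 : IsCyclic ↥((P : Subgroup K).map e.toMonoidHom) :=
    isCyclic_of_injective (Subgroup.inclusion hQ) (Subgroup.inclusion_injective hQ)
  have h3 : IsCyclic ↥(Subgroup.map (↑e : K →* L) ↑P) := h2
  exact isCyclic_of_surjective (e.subgroupMap (P : Subgroup K)).symm
    (e.subgroupMap (P : Subgroup K)).symm.surjective

/-- **The row of the Suzuki groups.** -/
theorem row_sz {K : Type u} [Group K] [Finite K] {p : ℕ} [hp : Fact p.Prime] (hp5 : 5 ≤ p)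
    (h : Lie.IsoSuzuki K) (hd : p ∣ Nat.card K) : Row p K := by
  obtain ⟨F, iF, iF', m, hm, hF, ⟨f⟩⟩ := h
  have hcard := Cfsg.Agent.H438.SzMax.card_sz hF
  rw [← Nat.card_congr f.toEquiv] at hcard
  refine row_of_cyclic (cyclic_congr f fun P => Cfsg.Agent.H67.SzOdd.sylow_cyclic hm hF (by omega) P) ?_ hd
  have hq : 2 ^ (2 * m + 1) = 8 * (2 ^ (m - 1)) ^ 2 := by
    obtain ⟨c, rfl⟩ : ∃ c, m = c + 1 := ⟨m - 1, by omega⟩
    rw [Nat.add_sub_cancel]
    ring
  have hk1 : 1 ≤ 2 ^ (m - 1) := Nat.one_le_pow _ _ (by norm_num)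
  have hp2 : ¬ p ∣ 2 ^ (2 * m + 1) := by
    intro h
    have := Cfsg.Agent.H678.SuzGraph.prime_dvd_two_pow hp.out h
    omega
  have hmem := Cfsg.Agent.H678.SuzGraph.mem_charDegrees hm hF (S := K) ⟨f⟩ (2 ^ (m - 1))
    (8 * (2 ^ (m - 1)) ^ 2 - 1) (8 * (2 ^ (m - 1)) ^ 2 + 4 * 2 ^ (m - 1) + 1)
    (8 * (2 ^ (m - 1)) ^ 2 + 1 - 4 * 2 ^ (m - 1)) rfl (by
      have : 1 ≤ (2 ^ (m - 1)) ^ 2 := Nat.one_le_pow _ _ hk1
      omega) rfl (by
      have : 2 ^ (m - 1) ≤ (2 ^ (m - 1)) ^ 2 := Nat.le_self_pow (by norm_num) _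
      omega)
  rw [hq] at hcard hp2
  clear hF hq f
  generalize 2 ^ (m - 1) = k at *
  have hk2 : 1 ≤ 8 * k ^ 2 := by
    have : 1 ≤ k ^ 2 := Nat.one_le_pow _ _ hk1
    omega
  have h64 : (8 * k ^ 2) ^ 2 = 64 * k ^ 4 := by ring
  by_cases hA : p ∣ (8 * k ^ 2) ^ 2 + 1
  · refine kill_of_deg (d := 64 * k ^ 4 + 1) ((hmem _).2 (by tauto)) hcard ?_ (by rw [h64])
    intro h
    rcases hp.out.dvd_mul.1 h with h | h
    · exact hp2 (hp.out.dvd_of_dvd_pow h)
    · have h2 : (8 * k ^ 2) ^ 2 + 1 = (8 * k ^ 2 - 1) * (8 * k ^ 2 + 1) + 2 := by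
        obtain ⟨c, hc⟩ : ∃ c, 8 * k ^ 2 = c + 1 := ⟨8 * k ^ 2 - 1, by omega⟩
        rw [hc, Nat.add_sub_cancel]
        ring
      rw [h2] at hA
      have h3 := (Nat.dvd_add_right (dvd_mul_of_dvd_left h _)).1 hA
      have := Nat.le_of_dvd (by norm_num) h3
      omega
  · have hcard' : Nat.card K = ((8 * k ^ 2) ^ 2 * ((8 * k ^ 2) ^ 2 + 1)) * (8 * k ^ 2 - 1) := by
      rw [hcard]; ring
    refine kill_of_deg (d := (8 * k ^ 2 - 1) * (8 * k ^ 2 + 4 * k + 1)) ((hmem _).2 (by tauto)) hcard' ?_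
      (dvd_mul_right _ _)
    intro h
    rcases hp.out.dvd_mul.1 h with h | h
    · exact hp2 (hp.out.dvd_of_dvd_pow h)
    · exact hA h

/-- **The row of the small Ree groups.** -/
theorem row_ree {K : Type u} [Group K] [Finite K] {p : ℕ} [hp : Fact p.Prime] (hp5 : 5 ≤ p)
    (h : Lie.IsoRee K) (hd : p ∣ Nat.card K) : Row p K := by
  obtain ⟨m', hm', hF', hc⟩ := Cfsg.Agent.H732.DegRee.facts_of_iso h
  obtain ⟨F, iF, iF', m, hm, hK, ⟨f⟩⟩ := h
  refine row_of_cyclic (cyclic_congr f fun P => Cfsg.Agent.S1156.result hm hK (by omega) P) ?_ hd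
  have hp3 : ¬ p ∣ (3 ^ (2 * m' + 1)) := by
    intro h
    have := (Nat.prime_dvd_prime_iff_eq hp.out Nat.prime_three).1 (hp.out.dvd_of_dvd_pow h)
    omega
  have hodd : 3 ^ (2 * m' + 1) % 2 = 1 := by
    rw [Nat.pow_mod]; norm_num
  have h1 : 3 ≤ 3 ^ (2 * m' + 1) := Nat.le_self_pow (by omega) 3
  clear f
  generalize 3 ^ (2 * m' + 1) = q at *
  obtain ⟨c, rfl⟩ : ∃ c, q = c + 1 := ⟨q - 1, by omega⟩
  rw [Nat.add_sub_cancel] at hc
  by_cases hA : p ∣ (c + 1) ^ 3 + 1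
  · refine kill_of_deg hF'.ps hc ?_ dvd_rfl
    intro h
    rcases hp.out.dvd_mul.1 h with h | h
    · exact hp3 (hp.out.dvd_of_dvd_pow h)
    · have h2 : (c + 1) ^ 3 + 1 = c * (c ^ 2 + 3 * c + 3) + 2 := by ring
      rw [h2] at hA
      have h3 := (Nat.dvd_add_right (dvd_mul_of_dvd_left h _)).1 hA
      have := Nat.le_of_dvd (by norm_num) h3
      omega
  · obtain ⟨d, hd1, hd2⟩ := hF'.cusp
    rw [Nat.add_sub_cancel] at hd2
    have hc' : Nat.card K = (2 * ((c + 1) ^ 3 * ((c + 1) ^ 3 + 1))) * (c / 2) := by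
      obtain ⟨e, rfl⟩ : ∃ e, c = 2 * e := ⟨c / 2, by omega⟩
      rw [hc, Nat.mul_div_cancel_left _ (by norm_num)]
      ring
    refine kill_of_deg hd1 hc' ?_ (Dvd.dvd.trans (dvd_mul_left _ _) hd2)
    intro h
    rcases hp.out.dvd_mul.1 h with h | h
    · have := Nat.le_of_dvd (by norm_num) h
      omega
    · rcases hp.out.dvd_mul.1 h with h | h
      · exact hp3 (hp.out.dvd_of_dvd_pow h)
      · exact hA h

end Cfsg.Agent.H541.VanSzRee
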