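import Cfsg.Agent.H541.PwMa
import Cfsg.Agent.H547.SelfCent.Conway
import Cfsg.Agent.H393.Iso.Co2
import Cfsg.Agent.H393.Iso.Co3
import Cfsg.Agent.BiChar.SmallCard

/-!
# S2454: the rows `Co2`, `Co3` (helper541, for helper773)
-/

set_option autoImplicit false

namespace Cfsg.Agent.H541.PwCo

open Cfsg Subgroup Cfsg.Agent.H514.DP
open Cfsg.Agent.H121.Cyc (fL fL_injective fL_mem fL_U fL_V fL_U')

theorem primes {p : ℕ} (hp : p.Prime) {a : ℕ} (hM : a ∣ 2 ^ 40 * 3 ^ 20 * 5 ^ 10 * 7 * 11 * 23)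
    (hd : p ∣ a) : (p = 2 ∨ p = 3 ∨ p = 5 ∨ p = 7 ∨ p = 11) ∨ p = 23 := by
  have h := hd.trans hM
  simp only [hp.dvd_mul] at h
  have key : ∀ q : ℕ, q.Prime → p ∣ q → p = q := fun q hq h => (Nat.prime_dvd_prime_iff_eq hp hq).1 h
  rcases h with ((((h | h) | h) | h) | h) | h
  · exact Or.inl (Or.inl (key 2 (by norm_num) (hp.dvd_of_dvd_pow h)))
  · exact Or.inl (Or.inr (Or.inl (key 3 (by norm_num) (hp.dvd_of_dvd_pow h))))
  · exact Or.inl (Or.inr (Or.inr (Or.inl (key 5 (by norm_num) (hp.dvd_of_dvd_pow h)))))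
  · exact Or.inl (Or.inr (Or.inr (Or.inr (Or.inl (key 7 (by norm_num) h)))))
  · exact Or.inl (Or.inr (Or.inr (Or.inr (Or.inr (key 11 (by norm_num) h)))))
  · exact Or.inr (key 23 (by norm_num) h)

/-- **`Co3`** -/
theorem pw_co3 {S : Type*} [Group S] [Finite S] [IsSimpleGroup S] (h : Spor.IsoCo3 S) {p : ℕ} (hp : p.Prime)
    (hd : p ∣ Nat.card S) : PW p 70 S := by
  have hcard := Cfsg.Agent.BiChar.Small.card_of_isoCo3 h
  have hna := H253.TC.not_comm_of_card hcard (by norm_num) (p := 2) Nat.prime_two (by norm_num) (by norm_num)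
  rcases primes hp (a := Nat.card S) (by rw [hcard]; norm_num) hd with h1 | rfl
  · obtain ⟨e⟩ := h
    exact PwMa.pw_of_m22 e inf_le_left Cfsg.Agent.H547.SelfCent.McLHS.leechV_ne (fun k hk => hk.2)
      (fun g => ⟨fL_mem g, fL_V g⟩) hna h1
  · exact Cfsg.Agent.H773.Pw.pw_of_order hna hp hd (PwMa.minDeg (Cfsg.Agent.H121.Cyc.co3 h)) (c := 23)
      (fun y hy => (Cfsg.Agent.H547.SelfCent.Conway.co3 h (Cfsg.Agent.H393.Iso.na_co3 h) hy).le) (k := 5)
      (by norm_num) (by norm_num) (by norm_num)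

theorem leechU_ne : Spor.leechU ≠ 0 := by
  intro h
  have h2 := congrArg (fun w : leechLattice => (w : GolayPt → ℤ) none) h
  have h3 : (Spor.leechU : GolayPt → ℤ) none = Spor.vecU none := rfl
  have h4 : ((0 : leechLattice) : GolayPt → ℤ) none = 0 := rfl
  have h5 : (Spor.leechU : GolayPt → ℤ) none = ((0 : leechLattice) : GolayPt → ℤ) none := h2
  rw [h3, h4] at h5
  revert h5
  unfold Spor.vecU
  norm_num

/-- **`Co2`** -/
theorem pw_co2 {S : Type*} [Group S] [Finite S] [IsSimpleGroup S] (h : Spor.IsoCo2 S) {p : ℕ} (hp : p.Prime)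
    (hd : p ∣ Nat.card S) : PW p 70 S := by
  have hcard := Cfsg.Agent.BiChar.Small.card_of_isoCo2 h
  have hna := H253.TC.not_comm_of_card hcard (by norm_num) (p := 2) Nat.prime_two (by norm_num) (by norm_num)
  rcases primes hp (a := Nat.card S) (by rw [hcard]; norm_num) hd with h1 | rfl
  · obtain ⟨e⟩ := h
    exact PwMa.pw_of_m22 e inf_le_left leechU_ne (fun k hk => hk.2) (fun g => ⟨fL_mem g, fL_U g⟩) hna h1
  · exact Cfsg.Agent.H773.Pw.pw_of_order hna hp hd (PwMa.minDeg (Cfsg.Agent.H121.Cyc.co2 h)) (c := 23)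
      (fun y hy => (Cfsg.Agent.H547.SelfCent.Conway.co2 h (Cfsg.Agent.H393.Iso.na_co2 h) hy).le) (k := 5)
      (by norm_num) (by norm_num) (by norm_num)

end Cfsg.Agent.H541.PwCo
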