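import Mathlib

/-!
# Composition factors as simple quotients of subnormal subgroups (helper541)

* `CF S G` : some subnormal subgroup of `G` maps onto `S`;
* `CF.of_isSubnormal`, `CF.of_surjective`, `CF.split`, `CF.nonempty_mulEquiv`, `CF.exists_of_iSup`.
-/

set_option autoImplicit false

namespace Cfsg.Agent.H541

universe u v w

/-- Some subnormal subgroup of `G` maps onto `S`. For simple `S`: `S` is a composition factor of `G`. -/
def CF (S : Type v) [Group S] (G : Type u) [Group G] : Prop :=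
  ∃ H : Subgroup G, H.IsSubnormal ∧ ∃ f : ↥H →* S, Function.Surjective f

variable {S : Type v} [Group S] {G : Type u} [Group G]

theorem CF.of_hom {f : G →* S} (hf : Function.Surjective f) : CF S G := by
  refine ⟨⊤, Subgroup.IsSubnormal.top, f.comp (Subgroup.topEquiv : (⊤ : Subgroup G) ≃* G).toMonoidHom, ?_⟩
  exact hf.comp (Subgroup.topEquiv : (⊤ : Subgroup G) ≃* G).surjective

/-- composition factors of subnormal subgroups -/
theorem CF.of_isSubnormal {N : Subgroup G} (hN : N.IsSubnormal) (h : CF S ↥N) : CF S G := by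
  obtain ⟨H, hH, f, hf⟩ := h
  refine ⟨H.map N.subtype, hH.trans' hN,
    f.comp (H.equivMapOfInjective N.subtype N.subtype_injective).symm.toMonoidHom, ?_⟩
  exact hf.comp (H.equivMapOfInjective N.subtype N.subtype_injective).symm.surjective

/-- composition factors of quotients -/
theorem CF.of_surjective {Q : Type w} [Group Q] {π : G →* Q} (hπ : Function.Surjective π) (h : CF S Q) :
    CF S G := by
  obtain ⟨H, hH, f, hf⟩ := h
  refine ⟨H.comap π, hH.comap π, f.comp (π.subgroupComap H), ?_⟩
  exact hf.comp (π.subgroupComap_surjective_of_surjective H hπ)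

theorem CF.congr {G' : Type w} [Group G'] (e : G ≃* G') (h : CF S G) : CF S G' :=
  h.of_surjective (π := e.symm.toMonoidHom) e.symm.surjective

theorem CF.congr_left {S' : Type w} [Group S'] (e : S ≃* S') (h : CF S G) : CF S' G := by
  obtain ⟨H, hH, f, hf⟩ := h
  exact ⟨H, hH, e.toMonoidHom.comp f, e.surjective.comp hf⟩

/-- **A composition factor of `G` is a composition factor of `N` or of `G ⧸ N`.** -/
theorem CF.split [IsSimpleGroup S] (N : Subgroup G) [N.Normal] (h : CF S G) : CF S ↥N ∨ CF S (G ⧸ N) := by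
  obtain ⟨H, hH, f, hf⟩ := h
  have hn : ((N.subgroupOf H).map f).Normal := Subgroup.Normal.map inferInstance f hf
  rcases hn.eq_bot_or_eq_top with h1 | h1
  · right
    have hk : ((QuotientGroup.mk' N).subgroupMap H).ker ≤ f.ker := by
      intro x hx
      have hx1 : (x : G) ∈ N := by
        have h2 : (QuotientGroup.mk' N) (x : G) = 1 := congrArg Subtype.val (MonoidHom.mem_ker.1 hx)
        rwa [QuotientGroup.mk'_apply, QuotientGroup.eq_one_iff] at h2
      have h3 : f x ∈ (N.subgroupOf H).map f := ⟨x, hx1, rfl⟩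
      rw [h1, Subgroup.mem_bot] at h3
      exact h3
    have hs := (QuotientGroup.mk' N).subgroupMap_surjective H
    refine ⟨H.map (QuotientGroup.mk' N), hH.map (QuotientGroup.mk'_surjective N),
      MonoidHom.liftOfSurjective _ hs ⟨f, hk⟩, ?_⟩
    intro s
    obtain ⟨x, rfl⟩ := hf s
    refine ⟨(QuotientGroup.mk' N).subgroupMap H x, ?_⟩
    exact MonoidHom.liftOfRightInverse_comp_apply _ _ (Function.rightInverse_surjInv hs) ⟨f, hk⟩ x
  · left
    refine ⟨H.subgroupOf N, hH.subgroupOf,
      { toFun := fun x => f ⟨x.1.1, x.2⟩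
        map_one' := map_one f
        map_mul' := fun x y => map_mul f ⟨x.1.1, x.2⟩ ⟨y.1.1, y.2⟩ }, ?_⟩
    intro s
    have h2 : s ∈ (N.subgroupOf H).map f := by rw [h1]; trivial
    obtain ⟨x, hx, rfl⟩ := h2
    exact ⟨⟨⟨x.1, hx⟩, x.2⟩, rfl⟩

/-- A simple group has only itself as a composition factor. -/
theorem CF.nonempty_mulEquiv [IsSimpleGroup S] [IsSimpleGroup G] (h : CF S G) : Nonempty (G ≃* S) := by
  obtain ⟨H, hH, f, hf⟩ := h
  rcases hH.eq_bot_or_top_of_isSimpleGroup ‹_› with h1 | h1
  · exfalso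
    subst h1
    have : Subsingleton S := hf.subsingleton
    exact not_subsingleton S this
  · subst h1
    let g : G →* S := f.comp (Subgroup.topEquiv : (⊤ : Subgroup G) ≃* G).symm.toMonoidHom
    have hg : Function.Surjective g := hf.comp (Subgroup.topEquiv : (⊤ : Subgroup G) ≃* G).symm.surjective
    have hk : g.ker = ⊥ := by
      rcases (inferInstance : g.ker.Normal).eq_bot_or_eq_top with h2 | h2
      · exact h2
      · exfalso
        obtain ⟨s, hs⟩ := exists_ne (1 : S)
        obtain ⟨x, rfl⟩ := hg s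
        have : x ∈ g.ker := by rw [h2]; trivial
        exact hs (MonoidHom.mem_ker.1 this)
    exact ⟨MulEquiv.ofBijective g ⟨(MonoidHom.ker_eq_bot_iff g).1 hk, hg⟩⟩

/-- A group with a nontrivial composition factor is not trivial. -/
theorem CF.nontrivial [Nontrivial S] (h : CF S G) : Nontrivial G := by
  obtain ⟨H, hH, f, hf⟩ := h
  have : Nontrivial ↥H := hf.nontrivial
  exact (Subgroup.nontrivial_iff_exists_ne_one H).1 this |>.elim fun x hx => ⟨⟨x, 1, hx.2⟩⟩

theorem CF.exists_of_finset [IsSimpleGroup S] {ι : Type w} (N : ι → Subgroup G) [hN : ∀ i, (N i).Normal]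
    (s : Finset ι) (h : CF S ↥(⨆ i ∈ s, N i)) : ∃ i ∈ s, CF S ↥(N i) := by
  classical
  induction s using Finset.induction_on with
  | empty =>
    exfalso
    have h1 : Nontrivial ↥(⨆ i ∈ (∅ : Finset ι), N i) := h.nontrivial
    simp at h1
    obtain ⟨⟨x, hx⟩, ⟨y, hy⟩, hne⟩ := h1
    exact hne (Subtype.ext (hx.trans hy.symm))
  | insert j s hj ih =>
    have h0 : (⨆ i ∈ insert j s, N i) = N j ⊔ ⨆ i ∈ s, N i := by
      rw [Finset.iSup_insert]
    rw [h0] at h
    set M : Subgroup G := ⨆ i ∈ s, N i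
    rcases h.split ((N j).subgroupOf (N j ⊔ M)) with h1 | h1
    · refine ⟨j, Finset.mem_insert_self _ _, ?_⟩
      exact h1.congr (Subgroup.subgroupOfEquivOfLe le_sup_left)
    · have h2 : CF S ↥M := by
        let π : ↥M →* ↥(N j ⊔ M) ⧸ ((N j).subgroupOf (N j ⊔ M)) :=
          (QuotientGroup.mk' _).comp (Subgroup.inclusion le_sup_right)
        refine h1.of_surjective (π := π) ?_
        intro y
        obtain ⟨⟨x, hx⟩, rfl⟩ := QuotientGroup.mk'_surjective _ y
        obtain ⟨n, hn, m, hm, rfl⟩ := Subgroup.mem_sup_of_normal_left.1 hx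
        refine ⟨⟨m, hm⟩, ?_⟩
        change (QuotientGroup.mk _ : ↥(N j ⊔ M) ⧸ ((N j).subgroupOf (N j ⊔ M))) = QuotientGroup.mk _
        rw [QuotientGroup.eq]
        change m⁻¹ * (n * m) ∈ N j
        have := (hN j).conj_mem n hn m⁻¹
        rwa [inv_inv, mul_assoc] at this
      obtain ⟨i, hi, h3⟩ := ih h2
      exact ⟨i, Finset.mem_insert_of_mem hi, h3⟩

/-- A composition factor of a product of finitely many normal subgroups is one of a factor. -/
theorem CF.exists_of_iSup [IsSimpleGroup S] {ι : Type w} [Finite ι] (N : ι → Subgroup G) [hN : ∀ i, (N i).Normal]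
    (htop : ⨆ i, N i = ⊤) (h : CF S G) : ∃ i, CF S ↥(N i) := by
  classical
  have : Fintype ι := Fintype.ofFinite ι
  have h1 : (⨆ i ∈ (Finset.univ : Finset ι), N i) = ⊤ := by simpa using htop
  have h2 : CF S ↥(⨆ i ∈ (Finset.univ : Finset ι), N i) := by
    rw [h1]
    exact h.congr (Subgroup.topEquiv : (⊤ : Subgroup G) ≃* G).symm
  obtain ⟨i, -, hi⟩ := CF.exists_of_finset N _ h2
  exact ⟨i, hi⟩

end Cfsg.Agent.H541
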