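import Mathlib
import Cfsg.Agent.H541.CompFactors
import Cfsg.Agent.H566.Fixed
import Cfsg.Agent.H586.GenAut
import Cfsg.Agent.H254.CopDef

/-!
# Composition factors under the action of a noncyclic abelian group of coprime order (helper541)

`main`: modulo "coprime groups of automorphisms of the nonabelian simple subgroups are cyclic".
-/

set_option autoImplicit false

namespace Cfsg.Agent.H541

universe u v w

theorem natCard_filter {X : Type*} [Fintype X] (P : X → Prop) [DecidablePred P] :
    Nat.card {a // P a} = (Finset.univ.filter P).card := by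
  rw [Nat.card_eq_fintype_card, Fintype.card_subtype]

/-- A noncyclic abelian group has an element of prime order outside a given cyclic subgroup. -/
theorem exists_prime_order_notMem {A : Type*} [CommGroup A] [Finite A] (hA : ¬ IsCyclic A) (B : Subgroup A)
    [hB : IsCyclic B] : ∃ a : A, (orderOf a).Prime ∧ a ∉ B := by
  classical
  by_contra hcon
  push Not at hcon
  apply hA
  let T : ℕ → Subgroup A := fun n => (powMonoidHom n : A →* A).ker
  have hT : ∀ n x, x ∈ T n ↔ x ^ n = 1 := fun n x => Iff.rfl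
  have hprime : ∀ p : ℕ, p.Prime → Nat.card (T p) ≤ p := by
    intro p hp
    have h1 : T p ≤ B := by
      intro x hx
      by_cases hx1 : x = 1
      · rw [hx1]; exact one_mem _
      · have : Fact p.Prime := ⟨hp⟩
        apply hcon
        rw [orderOf_eq_prime ((hT p x).1 hx) hx1]
        exact hp
    have h2 : Nat.card (T p) = Nat.card ((T p).subgroupOf B) :=
      (Nat.card_congr (Subgroup.subgroupOfEquivOfLe h1).toEquiv).symm
    rw [h2]
    have : Fintype B := Fintype.ofFinite B
    have h3 := IsCyclic.card_pow_eq_one_le (α := B) (n := p) hp.pos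
    refine le_trans (le_of_eq ?_) h3
    rw [← natCard_filter]
    apply Nat.card_congr
    refine Equiv.subtypeEquivRight fun x => ?_
    rw [Subgroup.mem_subgroupOf, hT]
    constructor
    · intro h; exact Subtype.ext h
    · intro h; exact congrArg Subtype.val h
  have hle : ∀ n : ℕ, 0 < n → Nat.card (T n) ≤ n := by
    intro n
    induction n using induction_on_primes with
    | zero => intro h; exact absurd h (lt_irrefl _)
    | one =>
      intro _
      have : T 1 = ⊥ := by
        ext x
        rw [hT, pow_one, Subgroup.mem_bot]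
      rw [this]
      simp
    | prime_mul p n hp ih =>
      intro h0
      have hn : 0 < n := Nat.pos_of_mul_pos_left h0
      let g : ↥(T (p * n)) →* ↥(T n) :=
        { toFun := fun x => ⟨x.1 ^ p, by rw [hT, ← pow_mul]; exact (hT _ _).1 x.2⟩
          map_one' := Subtype.ext (one_pow _)
          map_mul' := fun x y => Subtype.ext (mul_pow _ _ _) }
      have h1 : Nat.card g.ker ≤ Nat.card (T p) := by
        refine Nat.card_le_card_of_injective (fun x => ⟨x.1.1, ?_⟩) ?_
        · rw [hT]; exact congrArg Subtype.val (MonoidHom.mem_ker.1 x.2)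
        · intro x y hxy
          have h : x.1.1 = y.1.1 := Subtype.mk.inj hxy
          exact Subtype.ext (Subtype.ext h)
      have h2 : Nat.card g.range ≤ Nat.card (T n) := Nat.card_le_card_of_injective _ g.range.subtype_injective
      have h3 : Nat.card g.ker * Nat.card g.range = Nat.card (T (p * n)) := by
        rw [← Nat.card_congr (QuotientGroup.quotientKerEquivRange g).toEquiv, mul_comm]
        exact (Subgroup.card_eq_card_quotient_mul_card_subgroup g.ker).symm
      rw [← h3]
      exact Nat.mul_le_mul (h1.trans (hprime p hp)) (h2.trans (ih hn))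
  have : Fintype A := Fintype.ofFinite A
  apply isCyclic_of_card_pow_eq_one_le
  intro n hn
  refine le_trans (le_of_eq ?_) (hle n hn)
  rw [← natCard_filter]
  apply Nat.card_congr
  exact Equiv.subtypeEquivRight fun x => (hT n x).symm

/-- fixed points of an automorphism -/
abbrev fixS {G : Type*} [Group G] (b : MulAut G) : Subgroup G := b.toMonoidHom.eqLocus (MonoidHom.id G)

theorem mem_fixS {G : Type*} [Group G] {b : MulAut G} {x : G} : x ∈ fixS b ↔ b x = x := Iff.rfl

section Quot

variable {G : Type u} [Group G] {N : Subgroup G}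

/-- The automorphism induced on an invariant subgroup, for a group acting. -/
def restHom {A : Type v} [Group A] (φ : A →* MulAut G) (hN : ∀ a, ∀ x ∈ N, φ a x ∈ N) : A →* MulAut ↥N where
  toFun a :=
    { toFun := fun x => ⟨φ a x.1, hN a x.1 x.2⟩
      invFun := fun x => ⟨φ a⁻¹ x.1, hN a⁻¹ x.1 x.2⟩
      left_inv := fun x => Subtype.ext (by
        change φ a⁻¹ (φ a x.1) = x.1
        rw [← MulAut.mul_apply, ← map_mul, inv_mul_cancel, map_one, MulAut.one_apply])
      right_inv := fun x => Subtype.ext (by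
        change φ a (φ a⁻¹ x.1) = x.1
        rw [← MulAut.mul_apply, ← map_mul, mul_inv_cancel, map_one, MulAut.one_apply])
      map_mul' := fun x y => Subtype.ext (map_mul (φ a) x.1 y.1) }
  map_one' := by
    ext x
    change φ 1 x.1 = x.1
    rw [map_one, MulAut.one_apply]
  map_mul' a b := by
    ext x
    change φ (a * b) x.1 = φ a (φ b x.1)
    rw [map_mul, MulAut.mul_apply]

theorem coe_restHom {A : Type v} [Group A] (φ : A →* MulAut G) (hN : ∀ a, ∀ x ∈ N, φ a x ∈ N) (a : A) (x : ↥N) :
    ((restHom φ hN a x : ↥N) : G) = φ a x.1 := rfl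

/-- The automorphism induced on the quotient by an invariant normal subgroup. -/
def quotHom {A : Type v} [Group A] [N.Normal] (φ : A →* MulAut G) (hN : ∀ a, ∀ x ∈ N, φ a x ∈ N) :
    A →* MulAut (G ⧸ N) where
  toFun a :=
    { toFun := QuotientGroup.map N N (φ a).toMonoidHom (fun x hx => hN a x hx)
      invFun := QuotientGroup.map N N (φ a⁻¹).toMonoidHom (fun x hx => hN a⁻¹ x hx)
      left_inv := fun x => by
        obtain ⟨g, rfl⟩ := QuotientGroup.mk_surjective x
        change ((φ a⁻¹ (φ a g) : G) : G ⧸ N) = (g : G ⧸ N)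
        rw [← MulAut.mul_apply, ← map_mul, inv_mul_cancel, map_one, MulAut.one_apply]
      right_inv := fun x => by
        obtain ⟨g, rfl⟩ := QuotientGroup.mk_surjective x
        change ((φ a (φ a⁻¹ g) : G) : G ⧸ N) = (g : G ⧸ N)
        rw [← MulAut.mul_apply, ← map_mul, mul_inv_cancel, map_one, MulAut.one_apply]
      map_mul' := fun x y => map_mul _ x y }
  map_one' := by
    ext x
    obtain ⟨g, rfl⟩ := QuotientGroup.mk_surjective x
    change ((φ 1 g : G) : G ⧸ N) = (g : G ⧸ N)
    rw [map_one, MulAut.one_apply]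
  map_mul' a b := by
    ext x
    obtain ⟨g, rfl⟩ := QuotientGroup.mk_surjective x
    change ((φ (a * b) g : G) : G ⧸ N) = ((φ a (φ b g) : G) : G ⧸ N)
    rw [map_mul, MulAut.mul_apply]

theorem quotHom_mk {A : Type v} [Group A] [N.Normal] (φ : A →* MulAut G) (hN : ∀ a, ∀ x ∈ N, φ a x ∈ N)
    (a : A) (g : G) : quotHom φ hN a (g : G ⧸ N) = ((φ a g : G) : G ⧸ N) := rfl

theorem CF.fix_of_rest {A : Type v} [Group A] [hn : N.Normal] (φ : A →* MulAut G)
    (hN : ∀ a, ∀ x ∈ N, φ a x ∈ N) {S : Type w} [Group S] {a : A} (h : CF S ↥(fixS (restHom φ hN a))) :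
    CF S ↥(fixS (φ a)) := by
  have hn' : (N.subgroupOf (fixS (φ a))).Normal := inferInstance
  refine CF.of_isSubnormal hn'.isSubnormal ?_
  refine h.congr
    { toFun := fun x => ⟨⟨x.1.1, congrArg Subtype.val x.2⟩, x.1.2⟩
      invFun := fun x => ⟨⟨x.1.1, x.2⟩, Subtype.ext x.1.2⟩
      left_inv := fun x => rfl
      right_inv := fun x => rfl
      map_mul' := fun x y => rfl }

theorem CF.fix_of_quot [Finite G] {A : Type v} [Group A] [Finite A] [hn : N.Normal] (φ : A →* MulAut G)
    (hN : ∀ a, ∀ x ∈ N, φ a x ∈ N) (hcop : (Nat.card A).Coprime (Nat.card G)) {S : Type w} [Group S] {a : A}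
    (h : CF S ↥(fixS (quotHom φ hN a))) : CF S ↥(fixS (φ a)) := by
  let π : ↥(fixS (φ a)) →* ↥(fixS (quotHom φ hN a)) :=
    { toFun := fun x => ⟨((x.1 : G) : G ⧸ N), by
        rw [mem_fixS, quotHom_mk, mem_fixS.1 x.2]⟩
      map_one' := rfl
      map_mul' := fun x y => rfl }
  refine h.of_surjective (π := π) ?_
  rintro ⟨y, hy⟩
  obtain ⟨g, rfl⟩ := QuotientGroup.mk_surjective y
  have hst : H566.Stab (Subgroup.zpowers (φ a)) N := by
    rintro α ⟨k, rfl⟩ x hx
    change ((φ a) ^ k) x ∈ N
    rw [← map_zpow]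
    exact hN _ x hx
  have hc : (Nat.card (Subgroup.zpowers (φ a))).Coprime (Nat.card N) := by
    rw [Nat.card_zpowers]
    refine Nat.Coprime.coprime_dvd_left ((orderOf_map_dvd φ a).trans (orderOf_dvd_natCard a)) ?_
    exact hcop.coprime_dvd_right (Subgroup.card_subgroup_dvd_card N)
  have hs : Group.IsSolvable (Subgroup.zpowers (φ a)) := inferInstance
  have hfix : ∀ α ∈ Subgroup.zpowers (φ a), g⁻¹ * α g ∈ N := by
    have h1 : Subgroup.zpowers (quotHom φ hN a) ≤ MulAction.stabilizer (MulAut (G ⧸ N)) (g : G ⧸ N) := by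
      rw [Subgroup.zpowers_le]
      exact hy
    rintro α ⟨k, rfl⟩
    change g⁻¹ * ((φ a) ^ k) g ∈ N
    have h2 : (quotHom φ hN a) ^ k ∈ MulAction.stabilizer (MulAut (G ⧸ N)) (g : G ⧸ N) :=
      h1 ⟨k, rfl⟩
    rw [← map_zpow] at h2 ⊢
    have h3 : ((φ (a ^ k) g : G) : G ⧸ N) = (g : G ⧸ N) := h2
    exact QuotientGroup.eq.1 h3.symm
  obtain ⟨n, hn', hgn⟩ := H566.exists_fixed_coset hst hc (Or.inl hs) hfix
  refine ⟨⟨g * n, hgn _ (Subgroup.mem_zpowers _)⟩, Subtype.ext ?_⟩
  change ((g * n : G) : G ⧸ N) = (g : G ⧸ N)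
  rw [QuotientGroup.eq]
  have : (g * n)⁻¹ * g = n⁻¹ := by group
  rw [this]
  exact inv_mem hn'

end Quot

section Main

variable {G : Type u} [Group G]

/-- conjugates under the action -/
abbrev cj {A : Type v} [Group A] (φ : A →* MulAut G) (L : Subgroup G) (a : A) : Subgroup G :=
  L.map (φ a).toMonoidHom

theorem mem_cj {A : Type v} [Group A] {φ : A →* MulAut G} {L : Subgroup G} {a : A} {x : G} :
    x ∈ cj φ L a ↔ φ a⁻¹ x ∈ L := by
  constructor
  · rintro ⟨y, hy, rfl⟩
    change φ a⁻¹ (φ a y) ∈ L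
    rwa [← MulAut.mul_apply, ← map_mul, inv_mul_cancel, map_one, MulAut.one_apply]
  · intro h
    refine ⟨_, h, ?_⟩
    change φ a (φ a⁻¹ x) = x
    rw [← MulAut.mul_apply, ← map_mul, mul_inv_cancel, map_one, MulAut.one_apply]

theorem cj_mul {A : Type v} [Group A] (φ : A →* MulAut G) (L : Subgroup G) (a b : A) :
    cj φ L (a * b) = cj φ (cj φ L b) a := by
  ext x
  rw [mem_cj, mem_cj, mem_cj, ← MulAut.mul_apply, ← map_mul, mul_inv_rev]

theorem cj_one {A : Type v} [Group A] (φ : A →* MulAut G) (L : Subgroup G) : cj φ L 1 = L := by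
  ext x
  rw [mem_cj, inv_one, map_one, MulAut.one_apply]

theorem cj_normal {A : Type v} [Group A] (φ : A →* MulAut G) (L : Subgroup G) [hL : L.Normal] (a : A) :
    (cj φ L a).Normal := hL.map _ (φ a).surjective

/-- A minimal normal subgroup. -/
def MinN (L : Subgroup G) : Prop := L.Normal ∧ L ≠ ⊥ ∧ ∀ M : Subgroup G, M.Normal → M ≤ L → M = ⊥ ∨ M = L

theorem exists_minN [Finite G] [Nontrivial G] : ∃ L : Subgroup G, MinN L := by
  obtain ⟨L, hL⟩ := (Set.toFinite {L : Subgroup G | L.Normal ∧ L ≠ ⊥}).exists_minimal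
    ⟨⊤, inferInstance, top_ne_bot⟩
  refine ⟨L, hL.1.1, hL.1.2, fun M hM hML => ?_⟩
  by_cases h : M = ⊥
  · exact Or.inl h
  · exact Or.inr (le_antisymm hML (hL.2 ⟨hM, h⟩ hML))

theorem MinN.cj {A : Type v} [Group A] {φ : A →* MulAut G} {L : Subgroup G} (hL : MinN L) (a : A) :
    MinN (cj φ L a) := by
  have h1 := hL.1
  refine ⟨cj_normal φ L a, ?_, ?_⟩
  · intro h
    exact hL.2.1 ((Subgroup.map_eq_bot_iff_of_injective _ (φ a).injective).1 h)
  · intro M hM hML
    have h2 : MinN L := hL
    rcases hL.2.2 (Cfsg.Agent.H541.cj φ M a⁻¹) (cj_normal φ M a⁻¹) (by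
      intro x hx
      rw [mem_cj, inv_inv] at hx
      have := mem_cj.1 (hML hx)
      rwa [← MulAut.mul_apply, ← map_mul, inv_mul_cancel, map_one, MulAut.one_apply] at this) with h | h
    · left
      exact (Subgroup.map_eq_bot_iff_of_injective _ (φ a⁻¹).injective).1 h
    · right
      rw [← h, ← cj_mul, mul_inv_cancel, cj_one]

theorem MinN.commute {L M : Subgroup G} (hL : MinN L) (hM : MinN M) (h : L ≠ M) {x y : G} (hx : x ∈ L)
    (hy : y ∈ M) : x * y = y * x := by
  have h1 := hL.1
  have h2 := hM.1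
  refine Subgroup.commute_of_normal_of_disjoint L M h1 h2 ?_ x y hx hy
  rw [disjoint_iff]
  rcases hL.2.2 (L ⊓ M) inferInstance inf_le_left with h3 | h3
  · exact h3
  · rcases hM.2.2 (L ⊓ M) inferInstance inf_le_right with h4 | h4
    · exact h4
    · exact absurd (h3.symm.trans h4) h

/-- the abelian case -/
theorem main_abelian [Finite G] {A : Type v} [Group A] [Finite A] (hc : ∀ a b : A, a * b = b * a)
    (hA : ¬ IsCyclic A) (φ : A →* MulAut G) (hcop : (Nat.card A).Coprime (Nat.card G))
    (hφ : Function.Injective φ) (hab : ∀ x y : G, x * y = y * x) [Nontrivial G]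
    (hmin : ∀ N : Subgroup G, N.Normal → (∀ a, ∀ x ∈ N, φ a x ∈ N) → N = ⊥ ∨ N = ⊤) :
    ∃ a : A, a ≠ 1 ∧ fixS (φ a) = ⊤ := by
  have e : A ≃* φ.range := MonoidHom.ofInjective hφ
  have h1 : ¬ IsCyclic ↥φ.range := by
    intro h
    exact hA (isCyclic_of_surjective e.symm e.symm.surjective)
  have h2 : IsMulCommutative ↥φ.range := by
    refine ⟨⟨?_⟩⟩
    rintro ⟨_, a, rfl⟩ ⟨_, b, rfl⟩
    ext1
    change φ a * φ b = φ b * φ a
    rw [← map_mul, hc, map_mul]
  have h3 : (Nat.card ↥φ.range).Coprime (Nat.card (⊤ : Subgroup G)) := by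
    rw [← Nat.card_congr e.toEquiv, Subgroup.card_top]
    exact hcop
  have h4 := H586.GenAut.gen φ.range h1 ⊤ (fun _ _ _ _ => trivial) h3
  by_contra hcon
  push Not at hcon
  have h5 : ∀ a : A, a ≠ 1 → fixS (φ a) = ⊥ := by
    intro a ha
    refine (hmin _ ⟨fun n hn g => ?_⟩ ?_).resolve_right (hcon a ha)
    · rwa [hab g n, mul_assoc, mul_inv_cancel, mul_one]
    · intro b x hx
      rw [mem_fixS] at hx ⊢
      rw [← MulAut.mul_apply, ← map_mul, hc, map_mul, MulAut.mul_apply, hx]
  have h6 : (⊤ : Subgroup G) ≤ ⊥ := by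
    refine h4.trans ?_
    rw [Subgroup.closure_le]
    rintro x ⟨-, _, ⟨a, rfl⟩, ha, hx⟩
    have : x ∈ fixS (φ a) := hx
    rw [h5 a (fun h => ha (by rw [h, map_one]))] at this
    exact this
  exact top_ne_bot (le_bot_iff.1 h6)

theorem exists_prime_order_notMem' {A : Type*} [Group A] [Finite A] (hc : ∀ a b : A, a * b = b * a)
    (hA : ¬ IsCyclic A) (B : Subgroup A) (hB : IsCyclic B) : ∃ a : A, (orderOf a).Prime ∧ a ∉ B := by
  let _ : CommGroup A := { ‹Group A› with mul_comm := hc }
  exact exists_prime_order_notMem hA B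

/-- The irreducible case. -/
theorem main_irred [Finite G] {A : Type v} [Group A] [Finite A] (hc : ∀ a b : A, a * b = b * a)
    (hA : ¬ IsCyclic A) (φ : A →* MulAut G) (hcop : (Nat.card A).Coprime (Nat.card G))
    (hφ : Function.Injective φ)
    (hmin : ∀ N : Subgroup G, N.Normal → (∀ a, ∀ x ∈ N, φ a x ∈ N) → N = ⊥ ∨ N = ⊤)
    (hcyc : ∀ (L : Type u) [Group L] [Finite L] [IsSimpleGroup L], ¬ IsMulCommutative L → H254.CopCyc L)
    {S : Type w} [Group S] [IsSimpleGroup S] (h : CF S G) : ∃ a : A, a ≠ 1 ∧ CF S ↥(fixS (φ a)) := by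
  have hnt : Nontrivial G := h.nontrivial
  obtain ⟨L, hL⟩ := exists_minN (G := G)
  have hLn := hL.1
  have hcn : ∀ a, (cj φ L a).Normal := fun a => cj_normal φ L a
  have htop : ⨆ a, cj φ L a = ⊤ := by
    have h1 : (⨆ a, cj φ L a).Normal := Subgroup.iSup_normal _
    have h2 : ∀ b, (⨆ a, cj φ L a).map (φ b).toMonoidHom ≤ ⨆ a, cj φ L a := by
      intro b
      rw [Subgroup.map_iSup]
      refine iSup_le fun a => ?_
      exact (cj_mul φ L b a).symm.le.trans (le_iSup (fun a => cj φ L a) (b * a))
    rcases hmin _ h1 (fun b x hx => h2 b ⟨x, hx, rfl⟩) with h3 | h3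
    · exfalso
      apply hL.2.1
      rw [← le_bot_iff, ← h3]
      have := le_iSup (fun a => cj φ L a) 1
      simpa only [cj_one] using this
    · exact h3
  by_cases hab : ∀ x ∈ L, ∀ y ∈ L, x * y = y * x
  · have h1 : ∀ a b, ∀ x ∈ cj φ L a, ∀ y ∈ cj φ L b, x * y = y * x := by
      intro a b x hx y hy
      by_cases he : cj φ L a = cj φ L b
      · rw [← he] at hy
        have h2 := hab _ (mem_cj.1 hx) _ (mem_cj.1 hy)
        rw [← map_mul, ← map_mul] at h2
        exact (φ a⁻¹).injective h2
      · exact (hL.cj a).commute (hL.cj b) he hx hy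
    have h2 : ∀ a, cj φ L a ≤ Subgroup.center G := by
      intro a x hx
      rw [Subgroup.mem_center_iff]
      have h3 : (⊤ : Subgroup G) ≤ Subgroup.centralizer {x} := by
        rw [← htop]
        refine iSup_le fun b y hy => ?_
        rw [Subgroup.mem_centralizer_singleton_iff]
        exact (h1 a b x hx y hy).symm
      intro g
      exact Subgroup.mem_centralizer_singleton_iff.1 (h3 (Subgroup.mem_top g))
    have h3 : ∀ x y : G, x * y = y * x := by
      intro x y
      have h4 : (⊤ : Subgroup G) ≤ Subgroup.center G := by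
        rw [← htop]; exact iSup_le h2
      exact Subgroup.mem_center_iff.1 (h4 (Subgroup.mem_top y)) x
    obtain ⟨a, ha, h4⟩ := main_abelian hc hA φ hcop hφ h3 hmin
    refine ⟨a, ha, ?_⟩
    rw [h4]
    exact h.congr (Subgroup.topEquiv : (⊤ : Subgroup G) ≃* G).symm
  · have hC : ∀ a, cj φ L a ≠ L → cj φ L a ≤ Subgroup.centralizer (L : Set G) := by
      intro a ha x hx
      rw [Subgroup.mem_centralizer_iff]
      intro y hy
      exact ((hL.cj a).commute hL ha hx hy).symm
    have hLC : L ⊔ Subgroup.centralizer (L : Set G) = ⊤ := by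
      rw [← top_le_iff, ← htop]
      refine iSup_le fun a => ?_
      by_cases ha : cj φ L a = L
      · rw [ha]; exact le_sup_left
      · exact (hC a ha).trans le_sup_right
    have hdec : ∀ g : G, ∃ l ∈ L, ∃ c ∈ Subgroup.centralizer (L : Set G), l * c = g := by
      intro g
      exact Subgroup.mem_sup_of_normal_left.1 (by rw [hLC]; trivial)
    have hbot : L ⊓ Subgroup.centralizer (L : Set G) = ⊥ := by
      rcases hL.2.2 (L ⊓ Subgroup.centralizer (L : Set G)) inferInstance inf_le_left with h1 | h1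
      · exact h1
      · exfalso
        apply hab
        intro x hx y hy
        have h2 : y ∈ Subgroup.centralizer (L : Set G) := (inf_eq_left.1 h1) hy
        exact Subgroup.mem_centralizer_iff.1 h2 x hx
    have hnc : ¬ IsMulCommutative ↥L := by
      intro hc
      apply hab
      intro x hx y hy
      exact congrArg Subtype.val (hc.is_comm.comm (⟨x, hx⟩ : ↥L) ⟨y, hy⟩)
    have hsimple : IsSimpleGroup ↥L := by
      have : Nontrivial ↥L := (Subgroup.nontrivial_iff_ne_bot L).2 hL.2.1
      refine ⟨fun K hK => ?_⟩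
      have h1 : (K.map L.subtype).Normal := by
        refine ⟨?_⟩
        rintro _ ⟨n, hn, rfl⟩ g
        obtain ⟨l, hl, c, hc, rfl⟩ := hdec g
        refine ⟨(⟨l, hl⟩ : ↥L) * n * (⟨l, hl⟩ : ↥L)⁻¹, hK.conj_mem n hn _, ?_⟩
        have h2 : (n : G) * c = c * n := Subgroup.mem_centralizer_iff.1 hc n n.2
        change l * (n : G) * l⁻¹ = l * c * (n : G) * (l * c)⁻¹
        have h3 : c * (n : G) * c⁻¹ = n := by rw [← h2, mul_assoc, mul_inv_cancel, mul_one]
        calc l * (n : G) * l⁻¹ = l * (c * (n : G) * c⁻¹) * l⁻¹ := by rw [h3]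
          _ = _ := by group
      have h2 : K.map L.subtype ≤ L := Subgroup.map_subtype_le K
      rcases hL.2.2 _ h1 h2 with h3 | h3
      · left
        exact (Subgroup.map_eq_bot_iff_of_injective _ L.subtype_injective).1 h3
      · right
        rw [eq_top_iff]
        intro x _
        have h4 : (x : G) ∈ K.map L.subtype := by rw [h3]; exact x.2
        obtain ⟨y, hy, hyx⟩ := h4
        have : y = x := Subtype.ext hyx
        rwa [← this]
    obtain ⟨a₀, ha₀⟩ := CF.exists_of_iSup (fun a => cj φ L a) htop h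
    have hSL : CF S ↥L :=
      ha₀.congr (L.equivMapOfInjective (φ a₀).toMonoidHom (φ a₀).injective).symm
    obtain ⟨eLS⟩ := hSL.nonempty_mulEquiv
    let B : Subgroup A :=
      { carrier := {a | cj φ L a = L}
        mul_mem' := by
          intro a b ha hb
          change cj φ L (a * b) = L
          rw [cj_mul, hb, ha]
        one_mem' := cj_one φ L
        inv_mem' := by
          intro a ha
          change cj φ L a⁻¹ = L
          have h1 : cj φ (cj φ L a) a⁻¹ = L := by rw [← cj_mul, inv_mul_cancel, cj_one]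
          rwa [show cj φ L a = L from ha] at h1 }
    have hBinv : ∀ b : ↥B, ∀ x ∈ L, (φ.comp B.subtype) b x ∈ L := by
      intro b x hx
      have h1 : φ b x ∈ cj φ L (b : A) := ⟨x, hx, rfl⟩
      rwa [show cj φ L (b : A) = L from b.2] at h1
    have hBc : IsCyclic ↥B := by
      let ρ : ↥B →* MulAut ↥L := restHom (φ.comp B.subtype) hBinv
      have hρ : Function.Injective ρ := by
        rw [injective_iff_map_eq_one]
        intro b hb
        have h1 : ∀ x ∈ L, φ (b : A) x = x := by
          intro x hx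
          have h2 : ρ b ⟨x, hx⟩ = ⟨x, hx⟩ := by rw [hb]; rfl
          exact congrArg Subtype.val h2
        have h2 : (⊤ : Subgroup G) ≤ fixS (φ (b : A)) := by
          rw [← htop]
          refine iSup_le fun a x hx => ?_
          rw [mem_fixS]
          have h3 := h1 _ (mem_cj.1 hx)
          rw [← MulAut.mul_apply, ← map_mul, hc, map_mul, MulAut.mul_apply] at h3
          exact (φ a⁻¹).injective h3
        have h3 : φ (b : A) = 1 := by
          ext x
          exact h2 (Subgroup.mem_top x)
        exact Subtype.ext (hφ (h3.trans (map_one φ).symm))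
      have e : ↥B ≃* ρ.range := MonoidHom.ofInjective hρ
      have h1 : (Nat.card ρ.range).Coprime (Nat.card ↥L) := by
        rw [← Nat.card_congr e.toEquiv]
        exact (hcop.coprime_dvd_left (Subgroup.card_subgroup_dvd_card B)).coprime_dvd_right
          (Subgroup.card_subgroup_dvd_card L)
      have h2 : IsCyclic ρ.range := hcyc ↥L hnc ρ.range h1
      exact isCyclic_of_surjective e.symm e.symm.surjective
    obtain ⟨a, hp, haB⟩ := exists_prime_order_notMem' hc hA B hBc
    have ha1 : a ≠ 1 := by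
      rintro rfl
      exact haB (one_mem B)
    have hpow : ∀ i, 0 < i → i < orderOf a → a ^ i ∉ B := by
      intro i h0 hi h1
      have h2 : Nat.Coprime i (orderOf a) := (Nat.coprime_of_lt_prime h0.ne' hi hp).symm
      obtain ⟨m, hm⟩ := exists_pow_eq_self_of_coprime h2
      exact haB (hm ▸ pow_mem h1 m)
    refine ⟨a, ha1, ?_⟩
    have hfC : ∀ l ∈ L, ∀ i, 0 < i → i < orderOf a → φ (a ^ i) l ∈ Subgroup.centralizer (L : Set G) := by
      intro l hl i h0 hi
      exact hC (a ^ i) (hpow i h0 hi) ⟨l, hl, rfl⟩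
    let π : ↥(fixS (φ a)) →* G ⧸ Subgroup.centralizer (L : Set G) :=
      (QuotientGroup.mk' _).comp (fixS (φ a)).subtype
    have hπ : Function.Surjective π := by
      intro y
      obtain ⟨g, rfl⟩ := QuotientGroup.mk_surjective y
      obtain ⟨l, hl, c, hcc, rfl⟩ := hdec g
      obtain ⟨n, hn⟩ : ∃ n, orderOf a = n + 1 := ⟨orderOf a - 1, (Nat.succ_pred_prime hp).symm⟩
      set f : ℕ → G := fun i => φ (a ^ i) l with hf
      set P : G := ((List.range n).map (fun i => f (i + 1))).prod with hP
      have hPC : P ∈ Subgroup.centralizer (L : Set G) := by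
        apply Subgroup.list_prod_mem
        intro x hx
        obtain ⟨i, hi, rfl⟩ := List.mem_map.1 hx
        have hi' := List.mem_range.1 hi
        exact hfC l hl (i + 1) (Nat.succ_pos i) (by omega)
      have hf0 : f 0 = l := by rw [hf]; simp
      have hfn : f (n + 1) = l := by
        change φ (a ^ (n + 1)) l = l
        rw [← hn, pow_orderOf_eq_one, map_one, MulAut.one_apply]
      have h1 : l * P = ((List.range (n + 1)).map f).prod := by
        rw [List.prod_range_succ', hf0]
      have h2 : φ a (l * P) = ((List.range (n + 1)).map (fun i => f (i + 1))).prod := by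
        rw [h1, map_list_prod, List.map_map]
        congr 1
        apply List.map_congr_left
        intro i _
        change φ a (φ (a ^ i) l) = φ (a ^ (i + 1)) l
        rw [← MulAut.mul_apply, ← map_mul, pow_succ']
      have h3 : φ a (l * P) = l * P := by
        rw [h2, List.prod_range_succ, hfn, ← hP]
        exact (Subgroup.mem_centralizer_iff.1 hPC l hl).symm
      refine ⟨⟨l * P, h3⟩, ?_⟩
      change ((l * P : G) : G ⧸ Subgroup.centralizer (L : Set G)) = ((l * c : G) : G ⧸ _)
      rw [QuotientGroup.eq]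
      have : (l * P)⁻¹ * (l * c) = P⁻¹ * c := by group
      rw [this]
      exact mul_mem (inv_mem hPC) hcc
    have eQ : ↥L ≃* G ⧸ Subgroup.centralizer (L : Set G) := by
      refine MulEquiv.ofBijective ((QuotientGroup.mk' _).comp L.subtype) ⟨?_, ?_⟩
      · rw [injective_iff_map_eq_one]
        intro x hx
        have h1 : ((x : G) : G ⧸ Subgroup.centralizer (L : Set G)) = 1 := hx
        rw [QuotientGroup.eq_one_iff] at h1
        have h2 : (x : G) ∈ L ⊓ Subgroup.centralizer (L : Set G) := ⟨x.2, h1⟩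
        rw [hbot, Subgroup.mem_bot] at h2
        exact Subtype.ext h2
      · intro y
        obtain ⟨g, rfl⟩ := QuotientGroup.mk_surjective y
        obtain ⟨l, hl, c, hcc, rfl⟩ := hdec g
        refine ⟨⟨l, hl⟩, ?_⟩
        change ((l : G) : G ⧸ Subgroup.centralizer (L : Set G)) = ((l * c : G) : G ⧸ _)
        rw [QuotientGroup.eq, inv_mul_cancel_left]
        exact hcc
    exact CF.of_hom (f := (eLS.toMonoidHom.comp eQ.symm.toMonoidHom).comp π)
      ((eLS.surjective.comp eQ.symm.surjective).comp hπ)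

/-- **Composition factors under the action of a noncyclic abelian group of coprime order.** -/
theorem main_aux {A : Type v} [Group A] [Finite A] (hc : ∀ a b : A, a * b = b * a)
    (hA : ¬ IsCyclic A)
    (hcyc : ∀ (L : Type u) [Group L] [Finite L] [IsSimpleGroup L], ¬ IsMulCommutative L → H254.CopCyc L)
    {S : Type w} [Group S] [IsSimpleGroup S] (n : ℕ) :
    ∀ (G : Type u) [Group G] [Finite G] (φ : A →* MulAut G), Nat.card G = n →
      (Nat.card A).Coprime (Nat.card G) → CF S G → ∃ a : A, a ≠ 1 ∧ CF S ↥(fixS (φ a)) := by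
  induction n using Nat.strong_induction_on with
  | _ n ih =>
  intro G _ _ φ hn hcop h
  by_cases hφ : Function.Injective φ
  swap
  · rw [injective_iff_map_eq_one] at hφ
    push Not at hφ
    obtain ⟨a, ha, ha1⟩ := hφ
    refine ⟨a, ha1, ?_⟩
    have h1 : fixS (φ a) = ⊤ := by
      rw [eq_top_iff]
      intro x _
      rw [mem_fixS, ha, MulAut.one_apply]
    rw [h1]
    exact h.congr (Subgroup.topEquiv : (⊤ : Subgroup G) ≃* G).symm
  by_cases hmin : ∀ N : Subgroup G, N.Normal → (∀ a, ∀ x ∈ N, φ a x ∈ N) → N = ⊥ ∨ N = ⊤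
  · exact main_irred hc hA φ hcop hφ hmin hcyc h
  · push Not at hmin
    obtain ⟨N, hN, hinv, hb, ht⟩ := hmin
    have hcN : 1 < Nat.card N := by
      rw [Subgroup.one_lt_card_iff_ne_bot]; exact hb
    have hci : 1 < Nat.card (G ⧸ N) := by
      have h1 : N.index ≠ 1 := fun h => ht (Subgroup.index_eq_one.1 h)
      have h2 : N.index ≠ 0 := Subgroup.index_ne_zero_of_finite
      change 1 < N.index
      omega
    have hmul : Nat.card G = Nat.card (G ⧸ N) * Nat.card N := Subgroup.card_eq_card_quotient_mul_card_subgroup N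
    rcases h.split N with h1 | h1
    · obtain ⟨a, ha, h2⟩ := ih (Nat.card N) (by rw [← hn, hmul]; nlinarith) ↥N (restHom φ hinv) rfl
        (hcop.coprime_dvd_right (Subgroup.card_subgroup_dvd_card N)) h1
      exact ⟨a, ha, h2.fix_of_rest φ hinv⟩
    · obtain ⟨a, ha, h2⟩ := ih (Nat.card (G ⧸ N)) (by rw [← hn, hmul]; nlinarith) (G ⧸ N) (quotHom φ hinv) rfl
        (hcop.coprime_dvd_right ⟨_, hmul⟩) h1
      exact ⟨a, ha, h2.fix_of_quot φ hinv hcop⟩

end Main

end Cfsg.Agent.H541
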