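import Mathlib
import Cfsg.Agent.H952.F4.Scott
import Cfsg.Agent.H546.F4.Eig
import Cfsg.Agent.H952.F4.Gen
import Cfsg.Agent.H952.F4.AFive
import Cfsg.Agent.H952.F4.Count
import Cfsg.Agent.H927.F4Two
import Cfsg.Agent.H541.SixTwo.Main

/-!
# S5926, characteristic 2, degree 6 (helper541)
-/

set_option autoImplicit false

namespace Cfsg.Agent.H952.F4.Cases

open Module
open Cfsg.Lie Cfsg.Agent.H952.F4

universe u

variable {F : Type u} [Field F] [Finite F] {H : Subgroup ↥(chevF4.group F)}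

/-- the results used in `Cfsg.Agent.H541.SixTwo` -/
theorem sixTwoDeps : Cfsg.Agent.H541.SixTwo.Deps.{u} where
  scott_form := Scott.scott_form
  le_mul_ev := Eig.le_mul_ev
  five_le_three := AFive.five_le_three
  gen5 := Gen.gen5
  gen6a := Gen.gen6a
  gen6b := Gen.gen6b
  exists_pkg := Two.exists_pkg
  no_fixed := MaxA.no_fixed

/-- F*(H) is not of type `A₆` in characteristic 2 -/
theorem six_two [CharP F 2] {φ : ↥(alternatingGroup (Fin 6)) →* ↥(chevF4.group F)} (hM : MaxAlt H 6 φ) : False :=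
  Cfsg.Agent.H541.SixTwo.six_two_of sixTwoDeps hM

end Cfsg.Agent.H952.F4.Cases
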