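import Mathlib

/-!
# Piece GW of S3325: dihedral groups (helper541)
-/

set_option autoImplicit false

namespace Cfsg.Agent.H541.GWAux

open Subgroup DihedralGroup

theorem zmod_dich (k : ℕ) (u : ZMod (2 ^ k)) : (∃ c, u = c + c) ∨ IsUnit u := by
  have : NeZero (2 ^ k) := ⟨by positivity⟩
  rcases Nat.even_or_odd u.val with ⟨c, hc⟩ | h
  · left
    refine ⟨(c : ZMod (2 ^ k)), ?_⟩
    rw [← Nat.cast_add, ← hc, ZMod.natCast_zmod_val]
  · right
    rw [← ZMod.natCast_zmod_val u, ZMod.isUnit_iff_coprime]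
    exact Nat.Coprime.pow_right _ (Nat.coprime_two_right.2 h)

/-- `r u` with `u` a unit generates the rotations -/
theorem r_mem_of_unit {k : ℕ} {u : ZMod (2 ^ k)} (h : IsUnit u) {H : Subgroup (DihedralGroup (2 ^ k))}
    (hu : r u ∈ H) (i : ZMod (2 ^ k)) : r i ∈ H := by
  have : NeZero (2 ^ k) := ⟨by positivity⟩
  obtain ⟨v, rfl⟩ := h
  have h1 : r i = r (v : ZMod (2 ^ k)) ^ ((((v⁻¹ : (ZMod (2 ^ k))ˣ) : ZMod (2 ^ k)) * i).val) := by
    rw [r_pow, ZMod.natCast_zmod_val, ← mul_assoc, ← Units.val_mul, mul_inv_cancel, Units.val_one, one_mul]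
  rw [h1]
  exact pow_mem hu _

/-- two reflections generate, or they are conjugate -/
theorem refl_dich {k : ℕ} (a b : ZMod (2 ^ k)) :
    (∃ g : DihedralGroup (2 ^ k), g * sr a * g⁻¹ = sr b) ∨
      ∀ H : Subgroup (DihedralGroup (2 ^ k)), sr a ∈ H → sr b ∈ H → H = ⊤ := by
  rcases zmod_dich k (b - a) with ⟨c, hc⟩ | hu
  · left
    refine ⟨r (-c), ?_⟩
    rw [r_mul_sr, inv_r, sr_mul_r]
    congr 1
    rw [neg_neg, sub_neg_eq_add, add_assoc, ← hc]
    ring
  · right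
    intro H ha hb
    have h1 : r (b - a) ∈ H := by
      rw [← sr_mul_sr]
      exact mul_mem ha hb
    rw [eq_top_iff]
    intro x _
    rcases x with i | i
    · exact r_mem_of_unit hu h1 i
    · have h2 := mul_mem ha (r_mem_of_unit hu h1 (i - a))
      rw [sr_mul_r, add_sub_cancel] at h2
      exact h2

/-- the rotation of order two -/
theorem two_tors {k : ℕ} {i j : ZMod (2 ^ k)} (hi : i + i = 0) (hj : j + j = 0) (hi0 : i ≠ 0) (hj0 : j ≠ 0) :
    i = j := by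
  have : NeZero (2 ^ k) := ⟨by positivity⟩
  have key : ∀ {i : ZMod (2 ^ k)}, i + i = 0 → i ≠ 0 → i.val + i.val = 2 ^ k := by
    intro i hi hi0
    have h1 : ((i.val + i.val : ℕ) : ZMod (2 ^ k)) = 0 := by
      rw [Nat.cast_add, ZMod.natCast_zmod_val, hi]
    rw [ZMod.natCast_eq_zero_iff] at h1
    obtain ⟨c, hc⟩ := h1
    have h2 : i.val < 2 ^ k := ZMod.val_lt i
    have h3 : 0 < i.val := by
      rw [Nat.pos_iff_ne_zero]
      intro h
      exact hi0 ((ZMod.val_eq_zero i).1 h)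
    have h4 : c = 1 := by
      rcases c with _ | _ | c
      · omega
      · rfl
      · exfalso
        have h5 : 2 ^ k * (c + 1 + 1) = 2 ^ k * c + 2 ^ k + 2 ^ k := by ring
        have h6 : 0 ≤ 2 ^ k * c := Nat.zero_le _
        omega
    rw [hc, h4, mul_one]
  apply ZMod.val_injective
  have h1 := key hi hi0
  have h2 := key hj hj0
  omega

/-- central elements of order two are rotations -/
theorem central_form {k : ℕ} (hk : 2 ≤ k) {x : DihedralGroup (2 ^ k)} (hx : ∀ y, y * x = x * y) (hxx : x * x = 1) :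
    ∃ i : ZMod (2 ^ k), x = r i ∧ i + i = 0 := by
  rcases x with i | i
  · refine ⟨i, rfl, ?_⟩
    rw [r_mul_r, one_def] at hxx
    exact r.inj hxx
  · exfalso
    have h1 := hx (r 1)
    rw [r_mul_sr, sr_mul_r] at h1
    have h2 : i - 1 = i + 1 := sr.inj h1
    have h3 : (2 : ZMod (2 ^ k)) = 0 := by
      have : (2 : ZMod (2 ^ k)) = (i + 1) - (i - 1) := by ring
      rw [this, h2, sub_self]
    have h4 : ((2 : ℕ) : ZMod (2 ^ k)) = 0 := by exact_mod_cast h3
    rw [ZMod.natCast_eq_zero_iff] at h4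
    have h5 : 2 ^ 2 ≤ 2 ^ k := Nat.pow_le_pow_right (by norm_num) hk
    have h6 := Nat.le_of_dvd (by norm_num) h4
    omega

/-- an involution which is not the central one is a reflection -/
theorem refl_form {k : ℕ} {x : DihedralGroup (2 ^ k)} {i : ZMod (2 ^ k)} (hi : i + i = 0) (hi0 : i ≠ 0)
    (hxx : x * x = 1) (hx1 : x ≠ 1) (hxi : x ≠ r i) : ∃ a, x = sr a := by
  rcases x with j | j
  · exfalso
    rw [r_mul_r, one_def] at hxx
    have h1 : j + j = 0 := r.inj hxx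
    apply hxi
    rw [two_tors h1 hi (fun h => hx1 (by rw [h, one_def])) hi0]
  · exact ⟨j, rfl⟩

/-- a subgroup containing two conjugate reflections `s`, `s^r` contains the central involution -/
theorem central_mem {k : ℕ} (hk : 2 ≤ k) {a i : ZMod (2 ^ k)} (hi : i + i = 0) (hi0 : i ≠ 0)
    {H : Subgroup (DihedralGroup (2 ^ k))} (ha : sr a ∈ H) (ha' : r 1 * sr a * (r 1)⁻¹ ∈ H) : r i ∈ H := by
  have : NeZero (2 ^ k) := ⟨by positivity⟩
  rw [r_mul_sr, inv_r, sr_mul_r] at ha'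
  have h1 := mul_mem ha' ha
  rw [sr_mul_sr] at h1
  have h2 : a - (a - 1 + -1) = 2 := by ring
  rw [h2] at h1
  have h3 : ∃ m : ℕ, i = 2 * (m : ZMod (2 ^ k)) := by
    rcases Nat.even_or_odd i.val with ⟨c, hc⟩ | h
    · refine ⟨c, ?_⟩
      rw [two_mul, ← Nat.cast_add, ← hc, ZMod.natCast_zmod_val]
    · exfalso
      have h4 : ((i.val + i.val : ℕ) : ZMod (2 ^ k)) = 0 := by
        rw [Nat.cast_add, ZMod.natCast_zmod_val, hi]
      rw [ZMod.natCast_eq_zero_iff] at h4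
      have h5 : 2 ^ 2 ∣ 2 ^ k := pow_dvd_pow 2 hk
      have h6 := h5.trans h4
      obtain ⟨c, hc⟩ := h
      omega
  obtain ⟨m, hm⟩ := h3
  rw [hm, ← r_pow]
  exact pow_mem h1 m

section sylow

variable {Y : Type*} [Group Y] [Finite Y] (S : Sylow 2 Y)

/-- a 2-element is conjugate to an element of `S` -/
theorem exists_conj_mem {w : Y} (hww : w * w = 1) : ∃ g : Y, g * w * g⁻¹ ∈ (S : Subgroup Y) := by
  have hp : Fact (Nat.Prime 2) := ⟨Nat.prime_two⟩
  have h1 : IsPGroup 2 (zpowers w) := by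
    rw [IsPGroup.iff_card]
    have h2 : Nat.card (zpowers w) ∣ 2 ^ 1 := by
      rw [Nat.card_zpowers]
      exact orderOf_dvd_of_pow_eq_one (by rw [pow_one, pow_two, hww])
    obtain ⟨j, -, hj⟩ := (Nat.dvd_prime_pow Nat.prime_two).1 h2
    exact ⟨j, hj⟩
  obtain ⟨Q, hQ⟩ := h1.exists_le_sylow
  obtain ⟨g, hg⟩ := MulAction.exists_smul_eq Y Q S
  refine ⟨g, ?_⟩
  rw [← hg]
  exact Subgroup.mem_map_of_mem (MulAut.conj g).toMonoidHom (hQ (mem_zpowers w))

variable {k : ℕ} (hk : 2 ≤ k) (e : ↥(S : Subgroup Y) ≃* DihedralGroup (2 ^ k))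

include hk e

/-- two noncentral involutions of `S` are conjugate or generate `S` -/
theorem dich {t y w : Y} (ht1 : t ≠ 1) (htt : t * t = 1) (htS : t ∈ S) (htc : ∀ s ∈ S, s * t = t * s)
    (hyS : y ∈ S) (hyy : y * y = 1) (hy1 : y ≠ 1) (hyt : y ≠ t) (hwS : w ∈ S) (hww : w * w = 1) (hw1 : w ≠ 1)
    (hwt : w ≠ t) : IsConj y w ∨ ∀ M : Subgroup Y, y ∈ M → w ∈ M → (S : Subgroup Y) ≤ M := by
  have hcar : ∀ {x : Y} (hx : x ∈ S), x * x = 1 → e ⟨x, hx⟩ * e ⟨x, hx⟩ = 1 := by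
    intro x hx h
    rw [← map_mul, ← map_one e]
    congr 1
    exact Subtype.ext h
  have hne : ∀ {x z : Y} (hx : x ∈ S) (hz : z ∈ S), x ≠ z → e ⟨x, hx⟩ ≠ e ⟨z, hz⟩ := by
    intro x z hx hz h h'
    exact h (congrArg Subtype.val (e.injective h'))
  have hne1 : ∀ {x : Y} (hx : x ∈ S), x ≠ 1 → e ⟨x, hx⟩ ≠ 1 := by
    intro x hx h h'
    rw [map_eq_one_iff e e.injective] at h'
    exact h (congrArg Subtype.val h')
  obtain ⟨i, hi, hii⟩ := central_form hk (x := e ⟨t, htS⟩) (by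
    intro d
    obtain ⟨s, rfl⟩ := e.surjective d
    rw [← map_mul, ← map_mul]
    congr 1
    exact Subtype.ext (htc s s.2)) (hcar htS htt)
  have hi0 : i ≠ 0 := by
    rintro rfl
    exact hne1 htS ht1 (hi.trans one_def.symm)
  obtain ⟨a, ha⟩ := refl_form hii hi0 (hcar hyS hyy) (hne1 hyS hy1) (by rw [← hi]; exact hne hyS htS hyt)
  obtain ⟨b, hb⟩ := refl_form hii hi0 (hcar hwS hww) (hne1 hwS hw1) (by rw [← hi]; exact hne hwS htS hwt)
  rcases refl_dich a b with ⟨g, hg⟩ | h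
  · left
    rw [isConj_iff]
    refine ⟨(e.symm g : S), ?_⟩
    have h1 : e (e.symm g * ⟨y, hyS⟩ * (e.symm g)⁻¹) = e ⟨w, hwS⟩ := by
      rw [map_mul, map_mul, map_inv, MulEquiv.apply_symm_apply, ha, hb, hg]
    exact congrArg Subtype.val (e.injective h1)
  · right
    intro M hyM hwM
    have h1 := h ((M.subgroupOf (S : Subgroup Y)).map e.toMonoidHom) ⟨⟨y, hyS⟩, hyM, ha⟩ ⟨⟨w, hwS⟩, hwM, hb⟩
    intro s hs
    have h2 : e ⟨s, hs⟩ ∈ (M.subgroupOf (S : Subgroup Y)).map e.toMonoidHom := by rw [h1]; exact mem_top _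
    obtain ⟨s', hs', h3⟩ := h2
    have h4 : s' = ⟨s, hs⟩ := e.injective h3
    rw [h4] at hs'
    exact hs'

/-- normal subgroups of even order contain the central involution of `S` -/
theorem central_mem_normal {t : Y} (ht1 : t ≠ 1) (htt : t * t = 1) (htS : t ∈ S) (htc : ∀ s ∈ S, s * t = t * s)
    (N : Subgroup Y) (hN : N.Normal) {v : Y} (hv : v ∈ N) (hvv : v * v = 1) (hv1 : v ≠ 1) : t ∈ N := by
  obtain ⟨g, hg⟩ := exists_conj_mem S hvv
  obtain ⟨u, hu⟩ : ∃ u, g * v * g⁻¹ = u := ⟨_, rfl⟩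
  rw [hu] at hg
  have huN : u ∈ N := by rw [← hu]; exact hN.conj_mem v hv g
  have huu : u * u = 1 := by
    rw [← hu]
    calc g * v * g⁻¹ * (g * v * g⁻¹) = g * (v * v) * g⁻¹ := by group
      _ = 1 := by rw [hvv]; group
  have hu1 : u ≠ 1 := by
    intro h
    apply hv1
    have : v = g⁻¹ * u * g := by rw [← hu]; group
    rw [this, h]
    group
  by_cases hut : u = t
  · rw [← hut]; exact huN
  have hcar : ∀ {x : Y} (hx : x ∈ S), x * x = 1 → e ⟨x, hx⟩ * e ⟨x, hx⟩ = 1 := by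
    intro x hx h
    rw [← map_mul, ← map_one e]
    congr 1
    exact Subtype.ext h
  have hne : ∀ {x z : Y} (hx : x ∈ S) (hz : z ∈ S), x ≠ z → e ⟨x, hx⟩ ≠ e ⟨z, hz⟩ := by
    intro x z hx hz h h'
    exact h (congrArg Subtype.val (e.injective h'))
  have hne1 : ∀ {x : Y} (hx : x ∈ S), x ≠ 1 → e ⟨x, hx⟩ ≠ 1 := by
    intro x hx h h'
    rw [map_eq_one_iff e e.injective] at h'
    exact h (congrArg Subtype.val h')
  obtain ⟨i, hi, hii⟩ := central_form hk (x := e ⟨t, htS⟩) (by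
    intro d
    obtain ⟨s, rfl⟩ := e.surjective d
    rw [← map_mul, ← map_mul]
    congr 1
    exact Subtype.ext (htc s s.2)) (hcar htS htt)
  have hi0 : i ≠ 0 := by
    rintro rfl
    exact hne1 htS ht1 (hi.trans one_def.symm)
  obtain ⟨a, ha⟩ := refl_form hii hi0 (hcar hg huu) (hne1 hg hu1) (by rw [← hi]; exact hne hg htS hut)
  have h1 : r i ∈ (N.subgroupOf (S : Subgroup Y)).map e.toMonoidHom := by
    refine central_mem (a := a) hk hii hi0 ⟨⟨u, hg⟩, huN, ha⟩ ?_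
    refine ⟨e.symm (r 1) * ⟨u, hg⟩ * (e.symm (r 1))⁻¹, ?_, ?_⟩
    · exact hN.conj_mem u huN _
    · change e (e.symm (r 1) * ⟨u, hg⟩ * (e.symm (r 1))⁻¹) = _
      rw [map_mul, map_mul, map_inv, MulEquiv.apply_symm_apply, ha]
  obtain ⟨s, hs, hsi⟩ := h1
  have h2 : s = ⟨t, htS⟩ := e.injective (hsi.trans hi.symm)
  rw [h2] at hs
  exact hs

end sylow

end Cfsg.Agent.H541.GWAux
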