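import Mathlib

/-!
# Irreducible endomorphisms over a prime field

`c` is an endomorphism of a finite `ZMod q`-module `V` without proper invariant submodules.

* `conj_frob`: if `g c g⁻¹` is in the algebra generated by `c` then it is `c ^ (q ^ i)`;
* `card_le`: if `c ^ (q ^ 2) = c` then `|V| ≤ q ^ 2`;
* `pow_eq_of_commute`: if `c ^ (q ^ i) = c` then `g ^ (q ^ i) = g` for all `g` commuting with `c`.
-/

set_option autoImplicit false

namespace Cfsg.Agent.H541.IrrElement

/-- Endomorphisms of finite extensions of `ZMod q` are powers of the Frobenius map. -/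
theorem frob {q : ℕ} [Fact q.Prime] {L : Type*} [CommRing L] [IsDomain L] [Finite L]
    [Algebra (ZMod q) L] (τ : L →ₐ[ZMod q] L) : ∃ i : ℕ, ∀ x : L, τ x = x ^ q ^ i := by
  classical
  let _ : Fintype L := Fintype.ofFinite L
  let _ : Field L := Fintype.fieldOfDomain L
  obtain ⟨i, hi⟩ := (FiniteField.bijective_frobeniusAlgHom_pow (ZMod q) L).2 τ
  refine ⟨i, fun x => ?_⟩
  rw [← hi]
  simp [AlgHom.coe_pow, FiniteField.coe_frobeniusAlgHom, pow_iterate, ZMod.card]

/-- A finite domain all of whose elements satisfy `x ^ n = x` has at most `n` elements. -/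
theorem card_le_of_pow {L : Type*} [CommRing L] [IsDomain L] [Finite L] {n : ℕ} (hn : 1 < n)
    (h : ∀ x : L, x ^ n = x) : Nat.card L ≤ n := by
  classical
  let _ : Fintype L := Fintype.ofFinite L
  rw [Nat.card_eq_fintype_card]
  have hdeg : (Polynomial.X ^ n - Polynomial.X : Polynomial L).natDegree = n := by
    have h1 : (Polynomial.X : Polynomial L).natDegree <
        (Polynomial.X ^ n : Polynomial L).natDegree := by
      rw [Polynomial.natDegree_X, Polynomial.natDegree_X_pow]
      exact hn
    rw [Polynomial.natDegree_sub_eq_left_of_natDegree_lt h1, Polynomial.natDegree_X_pow]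
  have hne : (Polynomial.X ^ n - Polynomial.X : Polynomial L) ≠ 0 := by
    intro h0
    rw [h0, Polynomial.natDegree_zero] at hdeg
    omega
  have h2 : (Finset.univ : Finset L) ⊆
      (Polynomial.X ^ n - Polynomial.X : Polynomial L).roots.toFinset := by
    intro x _
    rw [Multiset.mem_toFinset, Polynomial.mem_roots hne, Polynomial.IsRoot.def]
    simp only [Polynomial.eval_sub, Polynomial.eval_pow, Polynomial.eval_X]
    rw [sub_eq_zero]
    exact h x
  have h3 := Finset.card_le_card h2
  have h4 := Multiset.toFinset_card_le (Polynomial.X ^ n - Polynomial.X : Polynomial L).roots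
  have h5 := Polynomial.card_roots' (Polynomial.X ^ n - Polynomial.X : Polynomial L)
  rw [hdeg] at h5
  exact h3.trans (h4.trans h5)

variable {q : ℕ} {V : Type*} [AddCommGroup V] [Module (ZMod q) V]

theorem finite_end [Finite V] : Finite (Module.End (ZMod q) V) :=
  Finite.of_injective (fun f : Module.End (ZMod q) V => (f : V → V)) DFunLike.coe_injective

/-- `c` has no proper invariant submodule. -/
def Irr (c : Module.End (ZMod q) V) : Prop :=
  ∀ W : Submodule (ZMod q) V, (∀ w ∈ W, c w ∈ W) → W = ⊥ ∨ W = ⊤

theorem comm_of_mem {c x y : Module.End (ZMod q) V}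
    (hx : x ∈ Algebra.adjoin (ZMod q) {c}) (hy : y ∈ Algebra.adjoin (ZMod q) {c}) :
    x * y = y * x := by
  have h : IsMulCommutative (Algebra.adjoin (ZMod q) ({c} : Set (Module.End (ZMod q) V))) := by
    apply Algebra.isMulCommutative_adjoin
    rintro x rfl y rfl
    rfl
  exact congrArg Subtype.val (isMulCommutative_iff.1 h ⟨x, hx⟩ ⟨y, hy⟩)

theorem self_mem (c : Module.End (ZMod q) V) : c ∈ Algebra.adjoin (ZMod q) {c} :=
  Algebra.subset_adjoin rfl

/-- Anything commuting with `c` is zero or injective. -/
theorem inj_of_commute {c x : Module.End (ZMod q) V} (hirr : Irr c) (hx : x * c = c * x)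
    (hx0 : x ≠ 0) {v : V} (hv : x v = 0) : v = 0 := by
  have h : ∀ w ∈ LinearMap.ker x, c w ∈ LinearMap.ker x := by
    intro w hw
    rw [LinearMap.mem_ker] at hw ⊢
    have h1 : x (c w) = c (x w) := LinearMap.congr_fun hx w
    rw [h1, hw, map_zero]
  rcases hirr _ h with h | h
  · have h2 : v ∈ LinearMap.ker x := hv
    rw [h] at h2
    exact (Submodule.mem_bot _).1 h2
  · exact absurd (LinearMap.ker_eq_top.1 h) hx0

theorem exists_apply {c : Module.End (ZMod q) V} (hirr : Irr c) {v : V} (hv : v ≠ 0) (w : V) :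
    ∃ x ∈ Algebra.adjoin (ZMod q) {c}, x v = w := by
  set W : Submodule (ZMod q) V := (Subalgebra.toSubmodule (Algebra.adjoin (ZMod q)
    ({c} : Set (Module.End (ZMod q) V)))).map (LinearMap.applyₗ v) with hW
  have hmem : ∀ u, u ∈ W ↔ ∃ x ∈ Algebra.adjoin (ZMod q) {c}, x v = u := by
    intro u
    rw [hW, Submodule.mem_map]
    rfl
  have hinv : ∀ u ∈ W, c u ∈ W := by
    intro u hu
    obtain ⟨x, hx, rfl⟩ := (hmem u).1 hu
    exact (hmem _).2 ⟨c * x, mul_mem (self_mem c) hx, rfl⟩
  rcases hirr W hinv with h | h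
  · exfalso
    have h1 : v ∈ W := (hmem v).2 ⟨1, one_mem _, rfl⟩
    rw [h] at h1
    exact hv ((Submodule.mem_bot _).1 h1)
  · apply (hmem w).1
    rw [h]
    exact Submodule.mem_top

/-- Endomorphisms commuting with `c` are in the algebra generated by `c`. -/
theorem mem_of_commute [Nontrivial V] {c g : Module.End (ZMod q) V} (hirr : Irr c)
    (hg : g * c = c * g) : g ∈ Algebra.adjoin (ZMod q) {c} := by
  obtain ⟨v, hv⟩ := exists_ne (0 : V)
  obtain ⟨x, hx, hxv⟩ := exists_apply hirr hv (g v)
  have h1 : (g - x) * c = c * (g - x) := by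
    rw [sub_mul, mul_sub, hg, comm_of_mem hx (self_mem c)]
  by_contra hne
  have h2 : g - x ≠ 0 := by
    intro h
    rw [sub_eq_zero] at h
    rw [h] at hne
    exact hne hx
  refine hv (inj_of_commute hirr h1 h2 ?_)
  rw [LinearMap.sub_apply, hxv, sub_self]

/-- The commutative ring structure on the algebra generated by `c`. -/
abbrev ringK (c : Module.End (ZMod q) V) :
    CommRing (Algebra.adjoin (ZMod q) ({c} : Set (Module.End (ZMod q) V))) :=
  { (inferInstance : Ring (Algebra.adjoin (ZMod q) ({c} : Set (Module.End (ZMod q) V)))) with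
    mul_comm := fun x y => Subtype.ext (comm_of_mem x.2 y.2) }

theorem isDomain [Nontrivial V] {c : Module.End (ZMod q) V} (hirr : Irr c) :
    IsDomain (Algebra.adjoin (ZMod q) ({c} : Set (Module.End (ZMod q) V))) := by
  have hnz : NoZeroDivisors (Algebra.adjoin (ZMod q) ({c} : Set (Module.End (ZMod q) V))) := by
    refine ⟨fun {x y} hxy => ?_⟩
    by_contra hcon
    push Not at hcon
    obtain ⟨v, hv⟩ := exists_ne (0 : V)
    have hx : (x : Module.End (ZMod q) V) ≠ 0 := fun h => hcon.1 (Subtype.ext h)
    have hy : (y : Module.End (ZMod q) V) ≠ 0 := fun h => hcon.2 (Subtype.ext h)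
    have hxy' : (x : Module.End (ZMod q) V) * y = 0 := congrArg Subtype.val hxy
    have h1 : (x : Module.End (ZMod q) V) ((y : Module.End (ZMod q) V) v) = 0 :=
      LinearMap.congr_fun hxy' v
    exact hv (inj_of_commute hirr (comm_of_mem y.2 (self_mem c)) hy
      (inj_of_commute hirr (comm_of_mem x.2 (self_mem c)) hx h1))
  exact NoZeroDivisors.to_isDomain _

/-- If `g c g⁻¹` is in the algebra generated by `c` then it is `c ^ (q ^ i)`. -/
theorem conj_frob [Fact q.Prime] [Finite V] [Nontrivial V] {c g g' : Module.End (ZMod q) V}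
    (hirr : Irr c) (h1 : g * g' = 1) (h2 : g' * g = 1)
    (hgc : g * c * g' ∈ Algebra.adjoin (ZMod q) {c}) : ∃ i : ℕ, g * c * g' = c ^ q ^ i := by
  have hin : ∀ x ∈ Algebra.adjoin (ZMod q) ({c} : Set (Module.End (ZMod q) V)),
      g * x * g' ∈ Algebra.adjoin (ZMod q) {c} := by
    intro x hx
    induction hx using Algebra.adjoin_induction with
    | mem y hy =>
      rw [Set.mem_singleton_iff] at hy
      subst hy
      exact hgc
    | algebraMap r =>
      have h3 : g * (algebraMap (ZMod q) (Module.End (ZMod q) V) r) * g' =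
          algebraMap (ZMod q) (Module.End (ZMod q) V) r := by
        rw [← Algebra.commutes r g, mul_assoc, h1, mul_one]
      rw [h3]
      exact Subalgebra.algebraMap_mem _ _
    | add x y hx hy ihx ihy =>
      rw [mul_add, add_mul]
      exact add_mem ihx ihy
    | mul x y hx hy ihx ihy =>
      have h3 : g * (x * y) * g' = (g * x * g') * (g * y * g') := by
        calc g * (x * y) * g' = g * x * (1 * y) * g' := by rw [one_mul, mul_assoc g x y]
          _ = g * x * ((g' * g) * y) * g' := by rw [h2]
          _ = (g * x * g') * (g * y * g') := by simp only [mul_assoc]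
      rw [h3]
      exact mul_mem ihx ihy
  have hfin : Finite (Module.End (ZMod q) V) := finite_end
  let _ := ringK c
  have hdom := isDomain hirr
  let τ : Algebra.adjoin (ZMod q) ({c} : Set (Module.End (ZMod q) V)) →ₐ[ZMod q]
      Algebra.adjoin (ZMod q) ({c} : Set (Module.End (ZMod q) V)) :=
    { toFun := fun x => ⟨g * x * g', hin x x.2⟩
      map_one' := Subtype.ext (by simp [h1])
      map_mul' := by
        rintro ⟨x, hx⟩ ⟨y, hy⟩
        apply Subtype.ext
        change g * (x * y) * g' = (g * x * g') * (g * y * g')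
        calc g * (x * y) * g' = g * x * (1 * y) * g' := by rw [one_mul, mul_assoc g x y]
          _ = g * x * ((g' * g) * y) * g' := by rw [h2]
          _ = (g * x * g') * (g * y * g') := by simp only [mul_assoc]
      map_zero' := Subtype.ext (by simp)
      map_add' := by
        rintro ⟨x, hx⟩ ⟨y, hy⟩
        apply Subtype.ext
        change g * (x + y) * g' = (g * x * g') + (g * y * g')
        rw [mul_add, add_mul]
      commutes' := by
        intro r
        apply Subtype.ext
        change g * (algebraMap (ZMod q) (Module.End (ZMod q) V) r) * g' =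
          algebraMap (ZMod q) (Module.End (ZMod q) V) r
        rw [← Algebra.commutes r g, mul_assoc, h1, mul_one] }
  obtain ⟨i, hi⟩ := frob τ
  exact ⟨i, congrArg Subtype.val (hi ⟨c, self_mem c⟩)⟩

theorem pow_eq_of_mem [Fact q.Prime] {c x : Module.End (ZMod q) V} {i : ℕ}
    (hc : c ^ q ^ i = c) (hx : x ∈ Algebra.adjoin (ZMod q) {c}) : x ^ q ^ i = x := by
  nontriviality (Module.End (ZMod q) V)
  have hchar : CharP (Module.End (ZMod q) V) q := charP_of_injective_algebraMap'
    (R := ZMod q) q
  induction hx using Algebra.adjoin_induction with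
  | mem y hy =>
    rw [Set.mem_singleton_iff] at hy
    subst hy
    exact hc
  | algebraMap r =>
    rw [← map_pow, ZMod.pow_card_pow]
  | add x y hx hy ihx ihy =>
    rw [add_pow_char_pow_of_commute q i (comm_of_mem hx hy), ihx, ihy]
  | mul x y hx hy ihx ihy =>
    have : Commute x y := comm_of_mem hx hy
    rw [this.mul_pow, ihx, ihy]

/-- If `c ^ (q ^ i) = c` then the same holds for everything commuting with `c`. -/
theorem pow_eq_of_commute [Fact q.Prime] [Nontrivial V] {c g : Module.End (ZMod q) V} {i : ℕ}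
    (hirr : Irr c) (hc : c ^ q ^ i = c) (hg : g * c = c * g) : g ^ q ^ i = g :=
  pow_eq_of_mem hc (mem_of_commute hirr hg)

/-- If `c ^ (q ^ 2) = c` then `|V| ≤ q ^ 2`. -/
theorem card_le [Fact q.Prime] [Finite V] [Nontrivial V] {c : Module.End (ZMod q) V}
    (hirr : Irr c) (hc : c ^ q ^ 2 = c) : Nat.card V ≤ q ^ 2 := by
  classical
  obtain ⟨v, hv⟩ := exists_ne (0 : V)
  have hfin : Finite (Module.End (ZMod q) V) := finite_end
  have hsurj : Function.Surjective (fun x : Algebra.adjoin (ZMod q)
      ({c} : Set (Module.End (ZMod q) V)) => (x : Module.End (ZMod q) V) v) := by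
    intro w
    obtain ⟨x, hx, hxw⟩ := exists_apply hirr hv w
    exact ⟨⟨x, hx⟩, hxw⟩
  have h1 := Nat.card_le_card_of_surjective _ hsurj
  refine h1.trans ?_
  have hq : 1 < q ^ 2 := Nat.one_lt_pow two_ne_zero (Fact.out : q.Prime).one_lt
  let _ := ringK c
  have hdom := isDomain hirr
  exact card_le_of_pow hq fun x => Subtype.ext (pow_eq_of_mem hc x.2)

end Cfsg.Agent.H541.IrrElement
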