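import Cfsg.Agent.H93.PReg.Base
import Cfsg.Prelude.Def_KGroupFacts

/-!
# Counting orbits of `Aut S` through cyclic tori (for S4883, helper541)

* `card_le_of_fusion` : if the fusion of the elements of `X` is controlled by `N` and `T ≤ N` centralises `X`, then an
  orbit of `Aut S` meets `X` in at most `|N : T| |Out S|` elements;
* `MO_zpowers` : the elements of a cyclic group of order `d`;
* `Iso S m b w` : a cyclic subgroup `T` of order `m` with `C(y) = T` for all `y ∈ T` with `y ^ b ≠ 1` and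
  `|N(T)| ≤ w m`; `Iso.MO` : the orbits met by it; `Iso.of_sylow` : the value of `|N(T) : T|` from Sylow's theorem.
-/

set_option autoImplicit false
set_option linter.unusedSectionVars false

namespace Cfsg.Agent.H541.PRegTorus

open Subgroup Cfsg Cfsg.Agent.H93.PReg Cfsg.Agent.H92.KTools

universe u v

variable {S : Type u} [Group S] [Finite S]

theorem card_le_of_fusion {T N : Subgroup S} (hTN : T ≤ N) {w o : ℕ} (hw : Nat.card N ≤ w * Nat.card T)
    (ho : Nat.card (Out S) ≤ o) {X : Finset S} (hX : ∀ x ∈ X, ∀ t ∈ T, t * x = x * t)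
    (hfus : ∀ x ∈ X, ∀ g : S, g * x * g⁻¹ ∈ X → ∃ n ∈ N, n * x * n⁻¹ = g * x * g⁻¹)
    {x : S} {Y : Finset S} (hYX : Y ⊆ X) (hY : ∀ y ∈ Y, ∃ a : MulAut S, a x = y) :
    Y.card ≤ w * o := by
  classical
  choose! a ha using hY
  let φ : S → Out S := fun y => QuotientGroup.mk (a y)
  have hfin : Finite (MulAut S) := by infer_instance
  have hfin2 : Finite (Out S) := by infer_instance
  have h1 : Y.card ≤ w * (Y.image φ).card := by
    refine Finset.card_le_mul_card_image Y w fun b hb => ?_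
    obtain ⟨y0, hy0, rfl⟩ := Finset.mem_image.1 hb
    have key : ∀ y ∈ Y.filter (fun y => φ y = φ y0), ∃ n ∈ N, n * y0 * n⁻¹ = y := by
      intro y hy
      obtain ⟨hyY, hyφ⟩ := Finset.mem_filter.1 hy
      have h2 : (a y0)⁻¹ * a y ∈ Inn S := QuotientGroup.eq.1 hyφ.symm
      obtain ⟨h, hh⟩ := h2
      have h3 : a y = a y0 * MulAut.conj h := by rw [hh]; group
      have h4 : y = a y0 h * y0 * (a y0 h)⁻¹ := by
        calc y = a y x := (ha y hyY).symm
          _ = a y0 (h * x * h⁻¹) := by rw [h3]; rfl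
          _ = a y0 h * a y0 x * (a y0 h)⁻¹ := by rw [map_mul, map_mul, map_inv]
          _ = a y0 h * y0 * (a y0 h)⁻¹ := by rw [ha y0 hy0]
      obtain ⟨n, hn, hn2⟩ := hfus y0 (hYX hy0) (a y0 h) (by rw [← h4]; exact hYX hyY)
      exact ⟨n, hn, hn2.trans h4.symm⟩
    let f : (↥N ⧸ T.subgroupOf N) → S := fun q => (q.out : S) * y0 * (q.out : S)⁻¹
    have hfT : Fintype (↥N ⧸ T.subgroupOf N) := Fintype.ofFinite _
    have h5 : Y.filter (fun y => φ y = φ y0) ⊆ Finset.univ.image f := by
      intro y hy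
      obtain ⟨n, hn, hn2⟩ := key y hy
      refine Finset.mem_image.2 ⟨QuotientGroup.mk (⟨n, hn⟩ : ↥N), Finset.mem_univ _, ?_⟩
      obtain ⟨t, ht⟩ := QuotientGroup.mk_out_eq_mul (T.subgroupOf N) (⟨n, hn⟩ : ↥N)
      have ht' : ((t : ↥N) : S) ∈ T := t.2
      have h6 : (((QuotientGroup.mk (⟨n, hn⟩ : ↥N) : ↥N ⧸ T.subgroupOf N)).out : S) = n * ((t : ↥N) : S) := by
        rw [ht]; rfl
      show (((QuotientGroup.mk (⟨n, hn⟩ : ↥N) : ↥N ⧸ T.subgroupOf N)).out : S) * y0 *
        (((QuotientGroup.mk (⟨n, hn⟩ : ↥N) : ↥N ⧸ T.subgroupOf N)).out : S)⁻¹ = y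
      rw [h6, ← hn2]
      have h7 := hX y0 (hYX hy0) _ ht'
      calc n * ((t : ↥N) : S) * y0 * (n * ((t : ↥N) : S))⁻¹
          = n * (((t : ↥N) : S) * y0) * ((t : ↥N) : S)⁻¹ * n⁻¹ := by group
        _ = n * (y0 * ((t : ↥N) : S)) * ((t : ↥N) : S)⁻¹ * n⁻¹ := by rw [h7]
        _ = n * y0 * n⁻¹ := by group
    calc (Y.filter (fun y => φ y = φ y0)).card ≤ (Finset.univ.image f).card := Finset.card_le_card h5
      _ ≤ Fintype.card (↥N ⧸ T.subgroupOf N) := Finset.card_image_le.trans (by rw [Finset.card_univ])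
      _ = T.relIndex N := by rw [← Nat.card_eq_fintype_card]; rfl
      _ ≤ w := by
        have h8 : Nat.card T * T.relIndex N = Nat.card N := by
          have h9 := Subgroup.relIndex_mul_relIndex ⊥ T N bot_le hTN
          rw [Subgroup.relIndex_bot_left, Subgroup.relIndex_bot_left] at h9
          exact h9
        have h10 : 0 < Nat.card T := Nat.card_pos
        refine Nat.le_of_mul_le_mul_left ?_ h10
        rw [h8, mul_comm (Nat.card T) w]
        exact hw
  have h2 : (Y.image φ).card ≤ o := by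
    have hf : Fintype (Out S) := Fintype.ofFinite _
    refine le_trans (Finset.card_le_univ _) ?_
    rw [← Nat.card_eq_fintype_card]
    exact ho
  exact h1.trans (Nat.mul_le_mul le_rfl h2)

/-- **The orbits met by a cyclic group of order `d`.** -/
theorem MO_zpowers {z : S} {d b w o n : ℕ} (hz : orderOf z = d) (hb : 0 < b) {T N : Subgroup S} (hTN : T ≤ N)
    (hw : Nat.card N ≤ w * Nat.card T) (ho : Nat.card (Out S) ≤ o)
    (hT : ∀ x ∈ zpowers z, x ^ b ≠ 1 → ∀ t ∈ T, t * x = x * t)
    (hfus : ∀ x ∈ zpowers z, x ^ b ≠ 1 → ∀ g : S, g * x * g⁻¹ ∈ zpowers z →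
      ∃ n ∈ N, n * x * n⁻¹ = g * x * g⁻¹)
    {A : Set ℕ} (hA : ∀ k, k ∣ d → ¬ k ∣ b → k ∈ A) (hn : (n - 1) * (w * o) < d - b) : MO A n S := by
  classical
  have hfS : Fintype S := Fintype.ofFinite S
  have hfz : Fintype ↥(zpowers z) := Fintype.ofFinite _
  let X : Finset S := ((Finset.univ : Finset ↥(zpowers z)).filter fun x => x ^ b ≠ 1).image Subtype.val
  have hmem : ∀ x, x ∈ X ↔ x ∈ zpowers z ∧ x ^ b ≠ 1 := by
    intro x
    constructor
    · intro hx
      obtain ⟨y, hy, rfl⟩ := Finset.mem_image.1 hx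
      have h1 := (Finset.mem_filter.1 hy).2
      refine ⟨y.2, fun h => h1 (Subtype.ext ?_)⟩
      exact h
    · rintro ⟨hx, hx1⟩
      refine Finset.mem_image.2 ⟨⟨x, hx⟩, Finset.mem_filter.2 ⟨Finset.mem_univ _, fun h => hx1 ?_⟩, rfl⟩
      exact congrArg Subtype.val h
  have hcard : d - b ≤ X.card := by
    have h1 : X.card = ((Finset.univ : Finset ↥(zpowers z)).filter fun x => x ^ b ≠ 1).card :=
      Finset.card_image_of_injective _ Subtype.val_injective
    have h2 : ((Finset.univ : Finset ↥(zpowers z)).filter fun x => x ^ b = 1).card ≤ b :=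
      IsCyclic.card_pow_eq_one_le hb
    have h3 := Finset.card_filter_add_card_filter_not (s := (Finset.univ : Finset ↥(zpowers z))) (fun x => x ^ b = 1)
    have h5 : ((Finset.univ : Finset ↥(zpowers z)).filter fun x => ¬ x ^ b = 1).card =
        ((Finset.univ : Finset ↥(zpowers z)).filter fun x => x ^ b ≠ 1).card := by congr
    have h4 : (Finset.univ : Finset ↥(zpowers z)).card = d := by
      rw [Finset.card_univ, ← Nat.card_eq_fintype_card, Nat.card_zpowers, hz]
    rw [h4] at h3
    rw [h1]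
    omega
  refine MO.of_count X (fun x hx => ?_) (w * o) (fun x _ Y hYX hY => ?_) (lt_of_lt_of_le hn hcard)
  · obtain ⟨h1, h2⟩ := (hmem x).1 hx
    refine hA _ ?_ fun h => h2 (orderOf_dvd_iff_pow_eq_one.1 h)
    have h3 := Subgroup.orderOf_dvd_natCard _ h1
    rwa [Nat.card_zpowers, hz] at h3
  · refine card_le_of_fusion hTN hw ho (X := X) (fun y hy => ?_) (fun y hy g hg => ?_) hYX hY
    · obtain ⟨h1, h2⟩ := (hmem y).1 hy
      exact hT y h1 h2
    · obtain ⟨h1, h2⟩ := (hmem y).1 hy
      exact hfus y h1 h2 g ((hmem _).1 hg).1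

/-- a cyclic subgroup `T` of order `m` with `C(y) = T` for all `y ∈ T` with `y ^ b ≠ 1` and `|N(T)| ≤ w m` -/
def Iso (S : Type u) [Group S] (m b w : ℕ) : Prop :=
  ∃ T : Subgroup S, IsCyclic ↥T ∧ Nat.card ↥T = m ∧ (∀ y ∈ T, y ^ b ≠ 1 → centralizer {y} = T) ∧
    Nat.card ↥(normalizer (T : Set S)) ≤ w * m

theorem conj_mem_normalizer {T : Subgroup S} {x g : S} (h1 : centralizer {x} = T)
    (h2 : centralizer {g * x * g⁻¹} = T) : g ∈ normalizer (T : Set S) := by
  rw [mem_normalizer_iff]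
  intro t
  have h3 : t ∈ T ↔ t * x = x * t := by rw [← h1, mem_centralizer_singleton_iff]
  have h4 : g * t * g⁻¹ ∈ T ↔ g * t * g⁻¹ * (g * x * g⁻¹) = g * x * g⁻¹ * (g * t * g⁻¹) := by
    conv_lhs => rw [← h2]
    rw [mem_centralizer_singleton_iff]
  rw [h3, h4]
  constructor
  · intro h
    calc g * t * g⁻¹ * (g * x * g⁻¹) = g * (t * x) * g⁻¹ := by group
      _ = g * (x * t) * g⁻¹ := by rw [h]
      _ = _ := by group
  · intro h
    have h5 : g * (t * x) * g⁻¹ = g * (x * t) * g⁻¹ := by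
      calc g * (t * x) * g⁻¹ = g * t * g⁻¹ * (g * x * g⁻¹) := by group
        _ = g * x * g⁻¹ * (g * t * g⁻¹) := h
        _ = _ := by group
    exact mul_left_cancel (mul_right_cancel h5)

/-- an element of order `d` of a cyclic group -/
theorem exists_orderOf {T : Subgroup S} (hc : IsCyclic ↥T) {d : ℕ} (hd : d ∣ Nat.card ↥T) :
    ∃ z ∈ T, orderOf z = d := by
  obtain ⟨g, hg⟩ := hc.exists_generator
  have h1 : orderOf g = Nat.card ↥T := orderOf_eq_card_of_forall_mem_zpowers hg
  obtain ⟨e, he⟩ := hd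
  have h0 : 0 < Nat.card ↥T := Nat.card_pos
  have he0 : e ≠ 0 := by
    rintro rfl
    rw [mul_zero] at he
    omega
  refine ⟨((g ^ e : ↥T) : S), (g ^ e).2, ?_⟩
  rw [Subgroup.orderOf_coe, orderOf_pow_of_dvd he0 (by rw [h1, he]; exact dvd_mul_left e d), h1, he,
    Nat.mul_div_cancel _ (Nat.pos_of_ne_zero he0)]

theorem comm_of_cyclic {T : Subgroup S} (hc : IsCyclic ↥T) {x y : S} (hx : x ∈ T) (hy : y ∈ T) : x * y = y * x := by
  have := (IsCyclic.commGroup (α := T)).mul_comm ⟨x, hx⟩ ⟨y, hy⟩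
  exact congrArg Subtype.val this

/-- **The orbits met by an isolated cyclic torus.** -/
theorem Iso.MO {m b w o n d : ℕ} (h : Iso S m b w) (hb : 0 < b) (ho : Nat.card (Out S) ≤ o) (hd : d ∣ m)
    {A : Set ℕ} (hA : ∀ k, k ∣ d → ¬ k ∣ b → k ∈ A) (hn : (n - 1) * (w * o) < d - b) :
    Cfsg.Agent.H93.PReg.MO A n S := by
  obtain ⟨T, hc, hm, hT, hN⟩ := h
  obtain ⟨z, hzT, hz⟩ := exists_orderOf hc (hm.symm ▸ hd)
  have hle : zpowers z ≤ T := by rwa [zpowers_le]
  refine MO_zpowers hz hb (T := T) (N := normalizer (T : Set S)) le_normalizer (by rw [hm]; exact hN) ho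
    (fun x hx _ t ht => comm_of_cyclic hc ht (hle hx)) (fun x hx hx1 g hg => ⟨g, ?_, rfl⟩) hA hn
  refine conj_mem_normalizer (hT x (hle hx) hx1) (hT _ (hle hg) fun h => hx1 ?_)
  have h1 : (g * x * g⁻¹) ^ b = g * x ^ b * g⁻¹ := conj_pow
  rw [h1] at h
  calc x ^ b = g⁻¹ * (g * x ^ b * g⁻¹) * g := by group
    _ = 1 := by rw [h]; group

/-- **The order of `N(T)` from Sylow's theorem.** -/
theorem card_normalizer {T : Subgroup S} (hc : IsCyclic ↥T) {m M b s k : ℕ} (hm : Nat.card ↥T = m)
    (hT : ∀ y ∈ T, y ^ b ≠ 1 → centralizer {y} = T) (hS : Nat.card S = m * M) (hs : s.Prime) (hsm : s ∣ m)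
    (hsb : ¬ s ∣ b) (hM : M ≡ k [MOD s]) (hks : k < s) : Nat.card ↥(normalizer (T : Set S)) = k * m := by
  classical
  have hsf : Fact s.Prime := ⟨hs⟩
  -- an element of order `s` and a Sylow subgroup
  have hTs : ∀ y ∈ T, orderOf y = s → centralizer {y} = T := by
    intro y hy hys
    refine hT y hy fun h => hsb ?_
    rw [← hys]; exact orderOf_dvd_of_pow_eq_one h
  obtain ⟨y, hy, hys⟩ := exists_orderOf hc (hm.symm ▸ hsm)
  have hpy : IsPGroup s ↥(zpowers y) := by
    rw [IsPGroup.iff_card]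
    exact ⟨1, by rw [Nat.card_zpowers, hys, pow_one]⟩
  obtain ⟨P, hP⟩ := hpy.exists_le_sylow
  have hyP : y ∈ (P : Subgroup S) := hP (mem_zpowers y)
  have hnt : Nontrivial ↥(P : Subgroup S) := by
    refine ⟨⟨⟨y, hyP⟩, 1, fun h => ?_⟩⟩
    have h1 : y = 1 := congrArg Subtype.val h
    rw [h1, orderOf_one] at hys
    exact hs.one_lt.ne hys
  have hZ : Nontrivial ↥(center ↥(P : Subgroup S)) := P.2.center_nontrivial
  have hZp : IsPGroup s ↥(center ↥(P : Subgroup S)) := P.2.to_subgroup _
  obtain ⟨z, hz⟩ : ∃ z : ↥(center ↥(P : Subgroup S)), orderOf z = s := by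
    refine exists_prime_orderOf_dvd_card' s ?_
    obtain ⟨n, hn0, hn⟩ := (hZp.nontrivial_iff_card).1 hZ
    rw [hn]
    exact dvd_pow_self s hn0.ne'
  have hzs : orderOf ((z : ↥(P : Subgroup S)) : S) = s := by
    rw [Subgroup.orderOf_coe, Subgroup.orderOf_coe, hz]
  have hzc : ∀ p ∈ (P : Subgroup S), p * ((z : ↥(P : Subgroup S)) : S) = ((z : ↥(P : Subgroup S)) : S) * p := by
    intro p hp
    exact congrArg Subtype.val (mem_center_iff.1 z.2 ⟨p, hp⟩)
  have hzT : ((z : ↥(P : Subgroup S)) : S) ∈ T := by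
    rw [← hTs y hy hys, mem_centralizer_singleton_iff]
    exact (hzc y hyP).symm
  have hPT : (P : Subgroup S) ≤ T := by
    intro p hp
    rw [← hTs _ hzT hzs, mem_centralizer_singleton_iff]
    exact hzc p hp
  -- the normalizers agree
  have hNP : normalizer ((P : Subgroup S) : Set S) = normalizer (T : Set S) := by
    apply le_antisymm
    · intro g hg
      have h1 : g * y * g⁻¹ ∈ (P : Subgroup S) := (mem_normalizer_iff.1 hg y).1 hyP
      refine conj_mem_normalizer (hTs y hy hys) (hTs _ (hPT h1) ?_)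
      rw [← hys]
      exact orderOf_injective (MulAut.conj g).toMonoidHom (MulAut.conj g).injective y
    · intro g hg
      have hcomm : ∀ a ∈ T, ∀ b ∈ T, a * b = b * a := fun a ha b hb => comm_of_cyclic hc ha hb
      -- `g P g⁻¹ ≤ T` is a Sylow subgroup in the abelian group `T`
      have hle : ((g • P : Sylow s S) : Subgroup S) ≤ T := by
        rw [Sylow.coe_subgroup_smul]
        rintro _ ⟨x, hx, rfl⟩
        exact (mem_normalizer_iff.1 hg x).1 (hPT hx)
      have heq : g • P = P := by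
        have h2 : IsPGroup s ↥(((g • P : Sylow s S) : Subgroup S) ⊔ (P : Subgroup S)) := by
          refine IsPGroup.to_sup_of_normal_right' (g • P).2 P.2 ?_
          intro a ha
          rw [mem_normalizer_iff]
          intro b
          constructor
          · intro hb
            have h3 := hcomm a (hle ha) b (hPT hb)
            have h4 : a * b * a⁻¹ = b := by rw [h3]; group
            rw [h4]; exact hb
          · intro hb
            have h3 := hcomm a⁻¹ (inv_mem (hle ha)) (a * b * a⁻¹) (hPT hb)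
            have h4 : b = a * b * a⁻¹ := by
              calc b = a⁻¹ * (a * b * a⁻¹) * a := by group
                _ = (a * b * a⁻¹) * a⁻¹ * a := by rw [h3]
                _ = a * b * a⁻¹ := by group
            rw [h4]; exact hb
        have h5 := (g • P).3 h2 le_sup_left
        have h6 := P.3 h2 le_sup_right
        exact Sylow.ext (h5.symm.trans h6)
      rw [Sylow.smul_eq_iff_mem_normalizer] at heq
      exact heq
  have h1 : Nat.card (Sylow s S) ≡ 1 [MOD s] := card_sylow_modEq_one s S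
  have h2 : Nat.card (Sylow s S) = (normalizer (T : Set S)).index := by
    rw [← hNP]; exact P.card_eq_index_normalizer
  obtain ⟨w, hw⟩ : m ∣ Nat.card ↥(normalizer (T : Set S)) := by
    rw [← hm]; exact card_dvd_of_le le_normalizer
  have hm0 : 0 < m := by rw [← hm]; exact Nat.card_pos
  have h3 := Subgroup.card_mul_index (normalizer (T : Set S))
  rw [hw, hS, ← h2, mul_assoc] at h3
  have h4 : w * Nat.card (Sylow s S) = M := Nat.eq_of_mul_eq_mul_left hm0 h3
  have h5 : w ≡ k [MOD s] := by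
    have h6 : w * Nat.card (Sylow s S) ≡ w * 1 [MOD s] := h1.mul_left w
    rw [h4, mul_one] at h6
    exact h6.symm.trans hM
  -- `w < s`
  have hws : w ≤ s - 1 := by
    let f : (↥(normalizer (T : Set S)) ⧸ T.subgroupOf (normalizer (T : Set S))) → {x : ↥T // orderOf x = s} :=
      fun q => ⟨⟨(q.out : S) * y * (q.out : S)⁻¹, (mem_normalizer_iff.1 q.out.2 y).1 hy⟩, by
        rw [Subgroup.orderOf_mk, ← hys]
        exact orderOf_injective (MulAut.conj (q.out : S)).toMonoidHom (MulAut.conj (q.out : S)).injective y⟩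
    have hf : Function.Injective f := by
      intro q q' hqq
      have h6 : (q.out : S) * y * (q.out : S)⁻¹ = (q'.out : S) * y * (q'.out : S)⁻¹ :=
        congrArg (fun t : {x : ↥T // orderOf x = s} => ((t : ↥T) : S)) hqq
      have h7 : (q.out : S)⁻¹ * (q'.out : S) ∈ T := by
        have h7' : (q.out : S)⁻¹ * (q'.out : S) ∈ centralizer {y} → (q.out : S)⁻¹ * (q'.out : S) ∈ T :=
          fun h => (hTs y hy hys).le h
        apply h7'
        rw [mem_centralizer_singleton_iff]
        calc (q.out : S)⁻¹ * (q'.out : S) * y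
            = (q.out : S)⁻¹ * ((q'.out : S) * y * (q'.out : S)⁻¹) * (q'.out : S) := by group
          _ = (q.out : S)⁻¹ * ((q.out : S) * y * (q.out : S)⁻¹) * (q'.out : S) := by rw [h6]
          _ = y * ((q.out : S)⁻¹ * (q'.out : S)) := by group
      rw [← QuotientGroup.out_eq' q, ← QuotientGroup.out_eq' q']
      exact QuotientGroup.eq.2 h7
    have h8 := Nat.card_le_card_of_injective f hf
    have hfT : Fintype ↥T := Fintype.ofFinite _
    have h9 : Nat.card {x : ↥T // orderOf x = s} = s - 1 := by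
      rw [Nat.card_eq_fintype_card, Fintype.card_subtype]
      have h10 := IsCyclic.card_orderOf_eq_totient (α := ↥T) (d := s) (by
        rw [← Nat.card_eq_fintype_card, hm]; exact hsm)
      rw [h10, Nat.totient_prime hs]
    rw [h9] at h8
    have h11 : Nat.card (↥(normalizer (T : Set S)) ⧸ T.subgroupOf (normalizer (T : Set S))) = w := by
      have h12 := Subgroup.relIndex_mul_relIndex ⊥ T (normalizer (T : Set S)) bot_le le_normalizer
      rw [Subgroup.relIndex_bot_left, Subgroup.relIndex_bot_left, hw, hm] at h12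
      have h13 : T.relIndex (normalizer (T : Set S)) = w := Nat.eq_of_mul_eq_mul_left hm0 h12
      rw [← h13]; rfl
    rw [h11] at h8
    exact h8
  have hs2 := hs.two_le
  have h14 : w = k := by
    have h15 : w % s = k % s := h5
    rwa [Nat.mod_eq_of_lt (by omega), Nat.mod_eq_of_lt hks] at h15
  rw [hw, h14, mul_comm]

theorem Iso.of_sylow {T : Subgroup S} (hc : IsCyclic ↥T) {m M b s k : ℕ} (hm : Nat.card ↥T = m)
    (hT : ∀ y ∈ T, y ^ b ≠ 1 → centralizer {y} = T) (hS : Nat.card S = m * M) (hs : s.Prime) (hsm : s ∣ m)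
    (hsb : ¬ s ∣ b) (hM : M ≡ k [MOD s]) (hks : k < s) : Iso S m b k :=
  ⟨T, hc, hm, hT, (card_normalizer hc hm hT hS hs hsm hsb hM hks).le⟩

/-- from the elements of prime order -/
theorem cent_of_prime {T : Subgroup S} (hc : IsCyclic ↥T) {b : ℕ}
    (hgood : ∀ k, k ∣ Nat.card ↥T → ¬ k ∣ b → ∃ r, r.Prime ∧ r ∣ k ∧ ∀ y ∈ T, orderOf y = r → centralizer {y} ≤ T) :
    ∀ y ∈ T, y ^ b ≠ 1 → centralizer {y} = T := by
  intro y hy hy1
  obtain ⟨r, hr, hrk, h⟩ := hgood (orderOf y) (Subgroup.orderOf_dvd_natCard _ hy)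
    (fun h => hy1 (orderOf_dvd_iff_pow_eq_one.1 h))
  apply le_antisymm
  · obtain ⟨c, hc'⟩ := hrk
    have hc0 : c ≠ 0 := by
      rintro rfl
      rw [mul_zero] at hc'
      exact (orderOf_pos y).ne' hc'
    have h1 : orderOf (y ^ c) = r := by
      rw [orderOf_pow_of_dvd hc0 (by rw [hc']; exact dvd_mul_left c r), hc', Nat.mul_div_cancel _ (Nat.pos_of_ne_zero hc0)]
    refine le_trans ?_ (h _ (pow_mem hy c) h1)
    intro x hx
    rw [mem_centralizer_singleton_iff] at hx ⊢
    exact (show Commute x y from hx).pow_right c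
  · intro x hx
    rw [mem_centralizer_singleton_iff]
    exact comm_of_cyclic hc hx hy

theorem Iso.congr {S' : Type v} [Group S'] {m b w : ℕ} (e : S ≃* S') (h : Iso S m b w) : Iso S' m b w := by
  have hfin : Finite S' := Finite.of_equiv S e.toEquiv
  obtain ⟨T, hc, hm, hT, hN⟩ := h
  refine ⟨T.map e.toMonoidHom, (T.equivMapOfInjective e.toMonoidHom e.injective).isCyclic.1 hc, ?_, ?_, ?_⟩
  · rw [Nat.card_congr (T.equivMapOfInjective e.toMonoidHom e.injective).symm.toEquiv]
    exact hm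
  · rintro _ ⟨y, hy, rfl⟩ hy1
    have hy1' : y ^ b ≠ 1 := fun h => hy1 (by
      show (e y) ^ b = 1
      rw [← map_pow, h, map_one])
    ext z
    rw [mem_centralizer_singleton_iff, Subgroup.mem_map]
    constructor
    · intro hz
      refine ⟨e.symm z, ?_, by simp⟩
      rw [← hT y hy hy1', mem_centralizer_singleton_iff]
      apply e.injective
      simpa using hz
    · rintro ⟨x, hx, rfl⟩
      rw [← hT y hy hy1', mem_centralizer_singleton_iff] at hx
      have := congrArg e hx
      simpa using this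
  · refine le_trans ?_ hN
    refine Nat.card_le_card_of_injective
      (fun g : ↥(normalizer ((T.map e.toMonoidHom : Subgroup S') : Set S')) =>
        (⟨e.symm (g : S'), ?_⟩ : ↥(normalizer (T : Set S)))) ?_
    · rw [mem_normalizer_iff]
      intro x
      have h1 := mem_normalizer_iff.1 g.2 (e x)
      have h2 : ∀ x, e x ∈ T.map e.toMonoidHom ↔ x ∈ T := by
        intro x
        constructor
        · rintro ⟨t, ht, htx⟩
          have : t = x := e.injective htx
          rwa [← this]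
        · intro hx
          exact ⟨x, hx, rfl⟩
      rw [h2] at h1
      rw [h1]
      have h3 : (g : S') * e x * (g : S')⁻¹ = e (e.symm (g : S') * x * (e.symm (g : S'))⁻¹) := by simp
      rw [h3, h2]
    · intro g g' hgg
      have h1 : e.symm (g : S') = e.symm (g' : S') := congrArg Subtype.val hgg
      exact Subtype.ext (e.symm.injective h1)

end Cfsg.Agent.H541.PRegTorus
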