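import Mathlib
import Cfsg.Agent.H541.GWAux
import Cfsg.Agent.H323.OI.Pieces
import Cfsg.Agent.H216.Dih
import Cfsg.Agent.BpRee.PslOdd
import Cfsg.Agent.LFourA.Quot
import Cfsg.Agent.S0483
import Cfsg.Agent.S0205
import Cfsg.Agent.H183.OutPSL
import Cfsg.Agent.ClassicalGeometry.SLTwoFour
import Cfsg.Agent.ClassicalGeometry.DicksonSubfield

/-!
# S3325, piece GW: groups with dihedral Sylow 2-subgroups and two classes of involutions (helper541, for helper323)
-/

set_option autoImplicit false

namespace Cfsg.Agent.H541.PieceGW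

open Subgroup Cfsg Matrix
open Cfsg.Agent.Classification.DihedralCentral
open Cfsg.Agent.ClassicalGeometry
open Cfsg.Agent.ClassicalGeometry.AutPSL.Root
open Cfsg.Agent.ClassicalGeometry.AutPSL.Auto
open Cfsg.Agent.ClassicalGeometry.AutPSL.Main
open Cfsg.Agent.Walter.FieldPSL
open Cfsg.Agent.H183.OutPSL
open Cfsg.Agent.LFourA

/-! ### `A7` -/

theorem cycleType_of_order_two {g : alternatingGroup (Fin 7)} (h : orderOf g = 2) :
    (g : Equiv.Perm (Fin 7)).cycleType = {2, 2} := by
  have h1 : orderOf (g : Equiv.Perm (Fin 7)) = 2 := by rw [Subgroup.orderOf_coe, h]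
  obtain ⟨n, hn⟩ := Equiv.Perm.cycleType_prime_order (σ := (g : Equiv.Perm (Fin 7)))
    (by rw [h1]; exact Nat.prime_two)
  rw [h1] at hn
  have h2 : (g : Equiv.Perm (Fin 7)).cycleType.sum ≤ Fintype.card (Fin 7) := by
    rw [Equiv.Perm.sum_cycleType]
    exact Finset.card_le_univ _
  rw [hn, Multiset.sum_replicate, Fintype.card_fin, smul_eq_mul] at h2
  have h3 := Equiv.Perm.mem_alternatingGroup.1 g.2
  rw [Equiv.Perm.sign_of_cycleType, hn, Multiset.sum_replicate, Multiset.card_replicate, smul_eq_mul] at h3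
  have h4 : n = 0 ∨ n = 1 ∨ n = 2 := by omega
  rcases h4 with rfl | rfl | rfl
  · exact absurd h3 (by decide)
  · rw [hn]
    rfl
  · exact absurd h3 (by decide)

theorem conj_alt {s t : alternatingGroup (Fin 7)} (hs : orderOf s = 2) (ht : orderOf t = 2) : IsConj s t := by
  refine alternatingGroup.isConj_of (Equiv.Perm.isConj_iff_cycleType_eq.2
    ((cycleType_of_order_two hs).trans (cycleType_of_order_two ht).symm)) ?_
  rw [← Equiv.Perm.sum_cycleType, cycleType_of_order_two hs]
  decide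

/-! ### `PSL(2, F)` -/

section psl

variable {F : Type} [Field F] [Fintype F]

theorem conj_apply_eq {P : Type*} [Group P] (α : MulAut P) (x : P) : α * MulAut.conj x * α⁻¹ = MulAut.conj (α x) := by
  apply MulEquiv.ext
  intro y
  rw [MulAut.mul_apply, MulAut.mul_apply, MulAut.conj_apply, MulAut.conj_apply, map_mul, map_mul, map_inv]
  congr 2
  rw [← MulAut.mul_apply, mul_inv_cancel, MulAut.one_apply]

theorem commute_of_fix {P : Type*} [Group P] {α : MulAut P} {x : P} (h : α x = x) :
    α * MulAut.conj x = MulAut.conj x * α := by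
  have h1 := conj_apply_eq α x
  rw [h] at h1
  exact mul_inv_eq_iff_eq_mul.1 h1

theorem card_odd_two (hF : Odd (Fintype.card F)) : (2 : F) ≠ 0 := by
  intro h
  have hch : CharP F 2 := CharTwo.of_one_ne_zero_of_two_eq_zero (R := F) one_ne_zero h
  have h3 : 2 ∣ Fintype.card F := by
    obtain ⟨n, -, h4⟩ := FiniteField.card F 2
    rw [h4]
    exact dvd_pow_self 2 n.2.ne'
  rw [Nat.odd_iff] at hF
  omega

/-- centralizers in the automorphism group -/
theorem center_bot (hF : Odd (Fintype.card F)) : center (Matrix.ProjectiveSpecialLinearGroup (Fin 2) F) = ⊥ := by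
  classical
  rw [eq_bot_iff]
  intro z hz
  rw [mem_bot]
  obtain ⟨g, rfl⟩ := pr_surjective z
  have h1 : lift (cj (Matrix.SpecialLinearGroup.toGL g) * fld (1 : F ≃+* F)) = lift (fld (1 : F ≃+* F)) := by
    rw [map_one fld, mul_one, map_one, lift_cj_toGL]
    apply MulEquiv.ext
    intro x
    rw [MulAut.conj_apply, MulAut.one_apply, ← mem_center_iff.1 hz x, mul_inv_cancel_right]
  obtain ⟨⟨c, hc⟩, -⟩ := injective_aux h1
  have h2 : (g : Matrix (Fin 2) (Fin 2) F) = scalar (Fin 2) c := hc.symm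
  have h3 : c * c = 1 := by
    have := g.2
    rw [h2, Matrix.scalar_apply, Matrix.det_diagonal, Fin.prod_univ_two] at this
    exact this
  rw [← map_one pr, pr_eq_iff]
  rcases mul_self_eq_one_iff.1 h3 with rfl | rfl
  · left
    apply Subtype.ext
    rw [h2, map_one]
    rfl
  · right
    apply Subtype.ext
    rw [h2, map_neg, map_one]
    rfl

theorem conj_inj (hF : Odd (Fintype.card F)) :
    Function.Injective (MulAut.conj : Matrix.ProjectiveSpecialLinearGroup (Fin 2) F →* _) := by
  rw [injective_iff_map_eq_one]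
  intro z hz
  have h1 : z ∈ center (Matrix.ProjectiveSpecialLinearGroup (Fin 2) F) := by
    rw [mem_center_iff]
    intro x
    have h2 := congrArg (fun f : MulAut _ => f x) hz
    simp only [MulAut.conj_apply, MulAut.one_apply] at h2
    nth_rw 1 [← h2]
    rw [inv_mul_cancel_right]
  rw [center_bot hF] at h1
  exact mem_bot.1 h1

theorem order_two {P : Type*} [Group P] {x : P} (h1 : x ≠ 1) (h2 : x * x = 1) : orderOf x = 2 :=
  orderOf_eq_prime (by rw [pow_two]; exact h2) h1

/-- `PGL_2` inside the automorphism group -/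
theorem nn_equiv : Nonempty (NN (Fin 2) F ≃* GL (Fin 2) F ⧸ center (GL (Fin 2) F)) := by
  let φ : GL (Fin 2) F →* MulAut (Matrix.ProjectiveSpecialLinearGroup (Fin 2) F) := lift.comp cj
  have hker : φ.ker = center (GL (Fin 2) F) := by
    ext A
    rw [MonoidHom.mem_ker, mem_center_iff]
    constructor
    · intro h B
      have h1 : lift (cj A * fld (1 : F ≃+* F)) = lift (fld (1 : F ≃+* F)) := by
        rw [map_one fld, mul_one, map_one]
        exact h
      obtain ⟨⟨c, hc⟩, -⟩ := injective_aux h1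
      apply Units.ext
      rw [Units.val_mul, Units.val_mul, ← hc]
      exact (scalar_commute (n := Fin 2) c (Commute.all c) _).symm
    · intro h
      change lift (cj A) = 1
      have h1 : (A : Matrix (Fin 2) (Fin 2) F) ∈ Set.range (scalar (Fin 2)) := by
        apply mem_range_scalar_of_commute_transvectionStruct
        intro t
        have h2 := h (Matrix.GeneralLinearGroup.mkOfDetNeZero t.toMatrix (by rw [TransvectionStruct.det]; exact one_ne_zero))
        exact congrArg Units.val h2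
      obtain ⟨c, hc⟩ := h1
      rw [cj_eq_one_of_scalar hc, map_one]
  exact ⟨((QuotientGroup.quotientMulEquivOfEq hker.symm).trans (QuotientGroup.quotientKerEquivRange φ)).symm⟩

/-- **Step C.** an involution outside the inner automorphism group is linear -/
theorem linear_of (hF : Odd (Fintype.card F)) {K : Subgroup (MulAut (Matrix.ProjectiveSpecialLinearGroup (Fin 2) F))}
    (hK : (MulAut.conj : Matrix.ProjectiveSpecialLinearGroup (Fin 2) F →* _).range ≤ K) (hD : SubDihedral K)
    {β : MulAut (Matrix.ProjectiveSpecialLinearGroup (Fin 2) F)} (hβK : β ∈ K) (hββ : β * β = 1)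
    (hβ : ∀ b, β ≠ MulAut.conj b) : ∃ A : GL (Fin 2) F, lift (cj A) = β := by
  classical
  have h2 := card_odd_two hF
  obtain ⟨p, hp⟩ := CharP.exists F
  have hpp : Fact p.Prime := ⟨CharP.char_is_prime F p⟩
  obtain ⟨A, σ, hA⟩ := surj_two p β
  by_cases hσ1 : σ = 1
  · exact ⟨A, by rw [hA, hσ1, map_one fld, mul_one]⟩
  · exfalso
    obtain ⟨-, B, hform⟩ := CpAut.Psl.exists_conj Nat.prime_two (A := A) (σ := σ)
      (by rw [← hA, pow_two, hββ]) hσ1
    have hrel : ∀ y, β (lift (cj B) y) = lift (cj B) (lift (fld σ) y) := by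
      intro y
      rw [hA, hform, map_mul, map_mul, map_inv, MulAut.mul_apply, MulAut.mul_apply]
      congr 2
      rw [← MulAut.mul_apply, inv_mul_cancel, MulAut.one_apply]
    obtain ⟨a, b, hab⟩ := exists_sq_add_sq F
    have hfa : σ (a : F) = a := map_natCast σ a
    have hfb : σ (b : F) = b := map_natCast σ b
    have hfix : ∀ x : Matrix.SpecialLinearGroup (Fin 2) F, fld σ x = x →
        β (lift (cj B) (pr x)) = lift (cj B) (pr x) := by
      intro x hx
      rw [hrel, lift_pr, hx]
    have hinj := (lift (cj B)).injective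
    obtain ⟨u, hu⟩ : ∃ u, lift (cj B) (pr I) = u := ⟨_, rfl⟩
    obtain ⟨v, hv⟩ : ∃ v, lift (cj B) (pr (J a b hab)) = v := ⟨_, rfl⟩
    have hu1 : u ≠ 1 := by rw [← hu]; exact fun h => CpAutRee.PslThree.pr_I_ne (hinj (h.trans (map_one _).symm))
    have hv1 : v ≠ 1 := by
      rw [← hv]; exact fun h => CpAutRee.PslThree.pr_J_ne h2 hab (hinj (h.trans (map_one _).symm))
    have huv : u ≠ v := by rw [← hu, ← hv]; exact fun h => CpAutRee.PslThree.pr_IJ_ne h2 hab (hinj h)
    have huu : u * u = 1 := by rw [← hu, ← map_mul, pr_I_sq, map_one]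
    have hvv : v * v = 1 := by rw [← hv, ← map_mul, pr_J_sq, map_one]
    have hcuv : u * v = v * u := by rw [← hu, ← hv, ← map_mul, pr_IJ, map_mul]
    have hbu : β u = u := by rw [← hu]; exact hfix _ (fld_I σ)
    have hbv : β v = v := by rw [← hv]; exact hfix _ (fld_J σ hab hfa hfb)
    have hci := conj_inj hF
    refine H216.Dih.no_three hD (a := ⟨MulAut.conj u, hK ⟨u, rfl⟩⟩) (b := ⟨MulAut.conj v, hK ⟨v, rfl⟩⟩)
      (c := ⟨β, hβK⟩) ?_ ?_ ?_ ?_ ?_ ?_ ?_ ?_ ?_ ?_ ?_ ?_ ?_
    · apply Subtype.ext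
      change MulAut.conj u * MulAut.conj u = 1
      rw [← map_mul, huu, map_one]
    · apply Subtype.ext
      change MulAut.conj v * MulAut.conj v = 1
      rw [← map_mul, hvv, map_one]
    · exact Subtype.ext hββ
    · apply Subtype.ext
      change MulAut.conj u * MulAut.conj v = MulAut.conj v * MulAut.conj u
      rw [← map_mul, hcuv, map_mul]
    · exact Subtype.ext (commute_of_fix hbu).symm
    · exact Subtype.ext (commute_of_fix hbv).symm
    · intro h
      exact hu1 (hci ((congrArg Subtype.val h).trans (map_one _).symm))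
    · intro h
      exact hv1 (hci ((congrArg Subtype.val h).trans (map_one _).symm))
    · intro h
      exact hβ 1 ((congrArg Subtype.val h).trans (map_one _).symm)
    · intro h
      exact huv (hci (congrArg Subtype.val h))
    · intro h
      exact hβ u (congrArg Subtype.val h).symm
    · intro h
      exact hβ v (congrArg Subtype.val h).symm
    · intro h
      refine hβ (u * v) ?_
      rw [map_mul]
      exact (congrArg Subtype.val h).symm

/-- **Step D.** -/
theorem nn_le {K : Subgroup (MulAut (Matrix.ProjectiveSpecialLinearGroup (Fin 2) F))}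
    (hK : (MulAut.conj : Matrix.ProjectiveSpecialLinearGroup (Fin 2) F →* _).range ≤ K) {A : GL (Fin 2) F}
    (hA : lift (cj A) ∈ K) (hA' : ∀ b, lift (cj A) ≠ MulAut.conj b) : NN (Fin 2) F ≤ K := by
  have hsq : ∀ B : GL (Fin 2) F, IsSquare (B : Matrix (Fin 2) (Fin 2) F).det → lift (cj B) ∈ K := by
    rintro B ⟨c, hc⟩
    obtain ⟨g, hg⟩ := CpAutRee.PslThree.lift_cj_inner (A := B) (c := c) (by rw [hc, pow_two])
    rw [hg]
    exact hK ⟨g, rfl⟩
  have hns : ¬ IsSquare (A : Matrix (Fin 2) (Fin 2) F).det := by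
    rintro ⟨c, hc⟩
    obtain ⟨g, hg⟩ := CpAutRee.PslThree.lift_cj_inner (A := A) (c := c) (by rw [hc, pow_two])
    exact hA' g hg
  rintro _ ⟨B, rfl⟩
  change lift (cj B) ∈ K
  by_cases hB : IsSquare (B : Matrix (Fin 2) (Fin 2) F).det
  · exact hsq B hB
  · have h1 := hsq (A * B) (by
      rw [Units.val_mul, Matrix.det_mul]
      exact DicksonSubfield.isSquare_mul_of_not hns hB)
    rw [map_mul, map_mul] at h1
    exact (K.mul_mem_cancel_left hA).1 h1

end psl

/-! ### The piece -/

/-- `w` in the Sylow subgroup -/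
theorem core {Y : Type} [Group Y] [Finite Y] (S : Sylow 2 Y) {k : ℕ} (hk : 2 ≤ k)
    (e : ↥(S : Subgroup Y) ≃* DihedralGroup (2 ^ k)) {t y w : Y} (ht1 : t ≠ 1) (htt : t * t = 1) (htS : t ∈ S)
    (htc : ∀ s ∈ S, s * t = t * s) (hyS : y ∈ S) (hyt : y ≠ t) (hty : IsConj t y) (hwS : w ∈ S) (hw1 : w ≠ 1)
    (hww : w * w = 1) (htw : ¬ IsConj t w) : Cfsg.Agent.H323.OI.ConclPGL Y := by
  classical
  have hp : Fact (Nat.Prime 2) := ⟨Nat.prime_two⟩
  obtain ⟨c0, hc0⟩ := isConj_iff.1 hty
  have hyy : y * y = 1 := by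
    rw [← hc0]
    calc c0 * t * c0⁻¹ * (c0 * t * c0⁻¹) = c0 * (t * t) * c0⁻¹ := by group
      _ = 1 := by rw [htt]; group
  have hy1 : y ≠ 1 := by
    intro h
    apply ht1
    have : t = c0⁻¹ * y * c0 := by rw [← hc0]; group
    rw [this, h]
    group
  have hwt : w ≠ t := by
    rintro rfl
    exact htw (IsConj.refl _)
  -- `y` and `w` generate `S`
  have hgen : ∀ M : Subgroup Y, y ∈ M → w ∈ M → (S : Subgroup Y) ≤ M := by
    rcases GWAux.dich S hk e ht1 htt htS htc hyS hyy hy1 hyt hwS hww hw1 hwt with h | h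
    · exact absurd (hty.trans h) htw
    · exact h
  -- the quotient
  have hinj : Function.Injective ((Quot.pr Y).subgroupMap (S : Subgroup Y)) := by
    intro a b hab
    apply Subtype.ext
    exact Quot.inj_of_mem S a.2 b.2 (congrArg Subtype.val hab)
  have e2 := MulEquiv.ofBijective _ ⟨hinj, (Quot.pr Y).subgroupMap_surjective (S : Subgroup Y)⟩
  have hsyl : (Quot.syl S : Subgroup (Y ⧸ Cfsg.oddCore Y)) = (S : Subgroup Y).map (Quot.pr Y) := Quot.syl_coe S
  have hYb : SubDihedral (Y ⧸ Cfsg.oddCore Y) :=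
    subDihedral_of_sylow (Quot.syl S) (2 ^ k) ((MulEquiv.subgroupCongr hsyl).trans (e2.symm.trans e))
  have hnotconj : ∀ g : Y ⧸ Cfsg.oddCore Y, g * Quot.pr Y t * g⁻¹ ≠ Quot.pr Y w := by
    intro g hg
    obtain ⟨g', -, hg'⟩ := Quot.conj_lift S htS hwS hg
    exact htw (isConj_iff.2 ⟨g', hg'⟩)
  have hprt1 : Quot.pr Y t ≠ 1 := fun h => ht1 (Quot.eq_one_of_mem S htS h)
  have hprw1 : Quot.pr Y w ≠ 1 := fun h => hw1 (Quot.eq_one_of_mem S hwS h)
  have hprtt : Quot.pr Y t * Quot.pr Y t = 1 := by rw [← map_mul, htt, map_one]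
  have hprww : Quot.pr Y w * Quot.pr Y w = 1 := by rw [← map_mul, hww, map_one]
  rcases H216.Dih.gorenstein_walter (fun _ _ _ h => Cfsg.Agent.S0205.result h)
    (fun _ _ _ _ S n hn hS => Cfsg.Agent.S0483.result S n hn hS) hYb Quot.oddCore_quot with
    h | ⟨F, iF, iF', hF, K, hK, ⟨e3⟩⟩ | ⟨⟨e3⟩⟩
  · -- a 2-group
    exfalso
    have h1 : (Quot.syl S : Subgroup (Y ⧸ Cfsg.oddCore Y)) = ⊤ := by
      symm
      exact (Quot.syl S).is_maximal' (h.to_subgroup ⊤) le_top
    have h2 : ∀ x : Y ⧸ Cfsg.oddCore Y, x * Quot.pr Y t = Quot.pr Y t * x := by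
      intro x
      have hx : x ∈ (Quot.syl S : Subgroup (Y ⧸ Cfsg.oddCore Y)) := by rw [h1]; exact mem_top x
      obtain ⟨s, hs, rfl⟩ := (Quot.mem_syl S).1 hx
      rw [← map_mul, ← map_mul, htc s hs]
    apply hyt
    apply Quot.inj_of_mem S hyS htS
    rw [← hc0, map_mul, map_mul, map_inv, h2, mul_inv_cancel_right]
  · -- between `PSL(2, F)` and its automorphism group
    let Φ : Y →* MulAut (Matrix.ProjectiveSpecialLinearGroup (Fin 2) F) :=
      K.subtype.comp (e3.toMonoidHom.comp (Quot.pr Y))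
    have hΦ : ∀ x, Φ x = (e3 (Quot.pr Y x) : MulAut _) := fun x => rfl
    have hΦK : ∀ α ∈ K, ∃ x, Φ x = α := by
      intro α hα
      obtain ⟨x, hx⟩ := Quot.pr_surj (X := Y) (e3.symm ⟨α, hα⟩)
      exact ⟨x, by rw [hΦ, hx, MulEquiv.apply_symm_apply]⟩
    have hΦmem : ∀ x, Φ x ∈ K := fun x => (e3 (Quot.pr Y x)).2
    have hΦeq : ∀ x x', Φ x = Φ x' → Quot.pr Y x = Quot.pr Y x' := by
      intro x x' h
      exact e3.injective (Subtype.ext h)
    have hΦker : ∀ x, Φ x = 1 ↔ x ∈ Cfsg.oddCore Y := by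
      intro x
      rw [← Quot.pr_eq_one]
      constructor
      · intro h
        have := hΦeq x 1 (by rw [h, map_one])
        rwa [map_one] at this
      · intro h
        rw [hΦ, h, map_one]
        rfl
    have hci := conj_inj hF
    obtain ⟨p, hpc⟩ := CharP.exists F
    have hpp : Fact p.Prime := ⟨CharP.char_is_prime F p⟩
    have hNN : (NN (Fin 2) F).Normal := normal_of fun α => Or.inl (surj_two p α)
    -- step A
    let N : Subgroup Y := (Cfsg.Inn (Matrix.ProjectiveSpecialLinearGroup (Fin 2) F)).comap Φ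
    have hNn : N.Normal := inferInstance
    have htN : t ∈ N := by
      obtain ⟨v, hv⟩ := hΦK (MulAut.conj (pr I)) (hK ⟨_, rfl⟩)
      have hIo : orderOf (MulAut.conj (pr (I : Matrix.SpecialLinearGroup (Fin 2) F))) = 2 := by
        refine order_two ?_ ?_
        · intro h
          exact CpAutRee.PslThree.pr_I_ne (hci (h.trans (map_one _).symm))
        · rw [← map_mul, pr_I_sq, map_one]
      have hvN : v ∈ N := ⟨pr I, hv.symm⟩
      have h2v : 2 ∣ orderOf v := by
        rw [← hIo, ← hv]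
        exact orderOf_map_dvd Φ v
      obtain ⟨u, hu⟩ : ∃ u, v ^ (orderOf v / 2) = u := ⟨_, rfl⟩
      have huo : orderOf u = 2 := by
        rw [← hu]
        exact orderOf_pow_orderOf_div (orderOf_pos v).ne' h2v
      refine GWAux.central_mem_normal S hk e ht1 htt htS htc N hNn (v := u) ?_ ?_ ?_
      · rw [← hu]
        exact pow_mem hvN _
      · rw [← pow_two, ← huo, pow_orderOf_eq_one]
      · rintro rfl
        rw [orderOf_one] at huo
        omega
    obtain ⟨a, ha⟩ : ∃ a, MulAut.conj a = Φ t := id htN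
    have haa : a * a = 1 := by
      apply hci
      rw [map_mul, ha, ← map_mul, htt, map_one, map_one]
    have ha1 : a ≠ 1 := by
      rintro rfl
      rw [map_one] at ha
      apply hprt1
      have := hΦeq t 1 (by rw [← ha, map_one])
      rwa [map_one] at this
    -- step B
    have hB : ∀ b, Φ w ≠ MulAut.conj b := by
      intro b hb
      have hbb : b * b = 1 := by
        apply hci
        rw [map_mul, ← hb, ← map_mul, hww, map_one, map_one]
      have hb1 : b ≠ 1 := by
        rintro rfl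
        rw [map_one] at hb
        apply hprw1
        have := hΦeq w 1 (by rw [hb, map_one])
        rwa [map_one] at this
      obtain ⟨g, hg⟩ := isConj_iff.1 (SLTwoFour.psl_isConj hF a b (order_two ha1 haa) (order_two hb1 hbb))
      obtain ⟨x, hx⟩ := hΦK (MulAut.conj g) (hK ⟨_, rfl⟩)
      apply hnotconj (Quot.pr Y x)
      rw [← map_inv, ← map_mul, ← map_mul]
      apply hΦeq
      rw [map_mul, map_mul, map_inv, hx, ← ha, hb, ← hg, map_mul, map_mul, map_inv]
    -- step C
    have hDK : SubDihedral K := subDihedral_of_injective e3.symm.toMonoidHom e3.symm.injective hYb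
    obtain ⟨A, hA⟩ := linear_of hF hK hDK (hΦmem w) (by rw [← map_mul, hww, map_one]) hB
    have hNNK : NN (Fin 2) F ≤ K := by
      refine nn_le hK (A := A) ?_ ?_
      · rw [hA]; exact hΦmem w
      · rw [hA]; exact hB
    -- the conclusion
    have hle : (S : Subgroup Y) ≤ (NN (Fin 2) F).comap Φ := by
      refine hgen _ ?_ ?_
      · have h1 : y ∈ N := by
          rw [← hc0]
          exact hNn.conj_mem t htN c0
        exact inn_le_NN h1
      · exact ⟨A, hA⟩
    obtain ⟨E⟩ := nn_equiv (F := F)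
    let Ψ : ↥((NN (Fin 2) F).comap Φ) →* NN (Fin 2) F := Φ.subgroupComap (NN (Fin 2) F)
    have hΨ : ∀ x, (Ψ x : MulAut _) = Φ x := fun x => rfl
    refine ⟨Cfsg.oddCore Y, (NN (Fin 2) F).comap Φ, inferInstance, inferInstance, ?_, ?_, ?_, F, iF, iF', hF,
      E.toMonoidHom.comp Ψ, ?_, ?_⟩
    · intro x hx
      rw [mem_comap, (hΦker x).2 hx]
      exact one_mem _
    · rw [← Nat.coprime_two_right]
      exact Cfsg.Agent.Lib.Cores.pPrimeCore_coprime 2
    · have h1 : ¬ 2 ∣ (S : Subgroup Y).index := S.not_dvd_index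
      have h2 := index_dvd_of_le hle
      rw [← Nat.not_even_iff_odd, even_iff_two_dvd]
      exact fun h => h1 (h.trans h2)
    · refine E.surjective.comp ?_
      rintro ⟨α, hα⟩
      obtain ⟨x, hx⟩ := hΦK α (hNNK hα)
      exact ⟨⟨x, by rw [mem_comap, hx]; exact hα⟩, Subtype.ext hx⟩
    · ext x
      rw [MonoidHom.mem_ker, mem_subgroupOf, ← hΦker]
      change E (Ψ x) = 1 ↔ _
      rw [map_eq_one_iff E E.injective, ← hΨ]
      exact ⟨fun h => by rw [h]; rfl, fun h => Subtype.ext h⟩
  · -- `A7`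
    exfalso
    have ho : ∀ x : Y ⧸ Cfsg.oddCore Y, x ≠ 1 → x * x = 1 → orderOf (e3 x) = 2 := by
      intro x hx1 hxx
      rw [MulEquiv.orderOf_eq]
      exact order_two hx1 hxx
    obtain ⟨g, hg⟩ := isConj_iff.1 (conj_alt (ho _ hprt1 hprtt) (ho _ hprw1 hprww))
    apply hnotconj (e3.symm g)
    apply e3.injective
    rw [map_mul, map_mul, map_inv, MulEquiv.apply_symm_apply, hg]

/-- **Piece GW of S3325.** -/
theorem pGW : Cfsg.Agent.H323.OI.PGW := by
  intro Y _ _ S k hk he t y w ht1 htt htS htc hyS hyt hty hw1 hww htw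
  obtain ⟨e⟩ := he
  obtain ⟨g, hg⟩ := GWAux.exists_conj_mem S hww
  refine core S hk e ht1 htt htS htc hyS hyt hty (w := g * w * g⁻¹) hg ?_ ?_ ?_
  · intro h
    apply hw1
    have : w = g⁻¹ * (g * w * g⁻¹) * g := by group
    rw [this, h]
    group
  · calc g * w * g⁻¹ * (g * w * g⁻¹) = g * (w * w) * g⁻¹ := by group
      _ = 1 := by rw [hww]; group
  · intro h
    exact htw (h.trans (isConj_iff.2 ⟨g⁻¹, by group⟩))

end Cfsg.Agent.H541.PieceGW
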