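import Cfsg.Agent.H47.Three
import Cfsg.Agent.H121.Cyc.Mathieu
import Cfsg.Agent.H547.SelfCent.McLHS
import Cfsg.Agent.H773.Pw.Spor

/-!
# S2454: simple groups of permutations of the Leech lattice containing `M22` (helper541, for helper773)

* `ex22` : for `p = 2, 3, 5, 7, 11` an element of order 11 of `M22` which is a product of two `p`-elements;
* `pw_of_m22` : `PW p 70 G` for these primes if `G` is (isomorphic to) a simple subgroup of `Co0` fixing a nonzero vector
  and containing the group `M22` of permutation matrices.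
-/

set_option autoImplicit false

namespace Cfsg.Agent.H541.PwMa

open Cfsg Subgroup Cfsg.Agent.H514.DP
open Cfsg.Agent.SporadicA.GolayBase Cfsg.Agent.SporadicA.GolayPerm
open Cfsg.Agent.SporadicStructure.M24El Cfsg.Agent.H47.Three
open Cfsg.Agent.SporadicA.Co0Mono Cfsg.Agent.SporadicA.Co1Simple
open Cfsg.Agent.H121.Cyc (fL fL_injective fL_mem fL_U fL_V fL_U')

/-- powers of packed permutations -/
def pw (P : ℕ) : ℕ → ℕ
  | 0 => idP
  | n + 1 => pcomp P (pw P n)

theorem pw_spec {P : ℕ} (hP : ok P = true) (n : ℕ) : ok (pw P n) = true ∧ el P ^ n = el (pw P n) := by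
  induction n with
  | zero => exact ⟨ok_idP, by rw [pow_zero]; exact el_idP.symm⟩
  | succ n ih => exact ⟨ok_pcomp hP ih.1, by rw [pow_succ', ih.2]; exact (el_pcomp hP ih.1).symm⟩

theorem el_pow {P n : ℕ} (hP : ok P = true) (h : pw P n = idP) : el P ^ n = 1 := by
  rw [(pw_spec hP n).2, h, el_idP]

/-- the Boolean check for a pair of elements of `M22` -/
def chk (p i : ℕ) (A B : ℕ) : Bool :=
  ok A && ok B && Nat.beq (papp A 23) 23 && Nat.beq (papp A 0) 0 && Nat.beq (papp B 23) 23 && Nat.beq (papp B 0) 0 &&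
    Nat.beq (pw A (p ^ i)) idP && Nat.beq (pw B (p ^ i)) idP && Nat.beq (pw (pcomp A B) 11) idP &&
    !(Nat.beq (papp (pcomp A B) 1) 1)

theorem ex_of_chk {p i A B : ℕ} (h : chk p i A B = true) : ∃ y : Spor.M22, orderOf y = 11 ∧ PE p 2 y := by
  simp only [chk, Bool.and_eq_true, Nat.beq_eq, Bool.not_eq_true'] at h
  obtain ⟨⟨⟨⟨⟨⟨⟨⟨⟨hA, hB⟩, hA1⟩, hA0⟩, hB1⟩, hB0⟩, hpA⟩, hpB⟩, h11⟩, hne⟩ := h
  have mA := mem_M22 hA hA1 hA0
  have mB := mem_M22 hB hB1 hB0
  have hAB := ok_pcomp hA hB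
  have hsub : ∀ {a b : Spor.M22} {a' b' : M24}, (a : Equiv.Perm GolayPt) = a' → (b : Equiv.Perm GolayPt) = b' → a' = b' →
      a = b := by
    intro a b a' b' h1 h2 h3
    exact Subtype.ext (by rw [h1, h2, h3])
  refine ⟨mk A mA * mk B mB, ?_, ?_⟩
  · refine orderOf_eq_prime ?_ ?_ (hp := ⟨by norm_num⟩)
    · refine hsub (a' := (el A * el B) ^ 11) (b' := 1) rfl rfl ?_
      rw [← el_pcomp hA hB]
      exact el_pow hAB h11
    · intro h1
      have h2 : el (pcomp A B) = 1 := by
        rw [el_pcomp hA hB]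
        exact Subtype.ext (congrArg (Subtype.val : Spor.M22 → Equiv.Perm GolayPt) h1)
      exact el_ne_one hAB (i := 1) (by norm_num) (Nat.ne_of_beq_eq_false hne) h2
  · refine PE.mul (m := 1) (n := 1) (IsPE.pe ⟨i, ?_⟩) (IsPE.pe ⟨i, ?_⟩)
    · exact hsub (a' := el A ^ p ^ i) (b' := 1) rfl rfl (el_pow hA hpA)
    · exact hsub (a' := el B ^ p ^ i) (b' := 1) rfl rfl (el_pow hB hpB)

theorem ex22 {p : ℕ} (hp : p = 2 ∨ p = 3 ∨ p = 5 ∨ p = 7 ∨ p = 11) : ∃ y : Spor.M22, orderOf y = 11 ∧ PE p 2 y := by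
  rcases hp with rfl | rfl | rfl | rfl | rfl
  · exact ex_of_chk (i := 2) (A := 956866075821826596352561382953499328) (B := 960906193292954216692641657847398048)
      (by decide +kernel)
  · exact ex_of_chk (i := 1) (A := 962748440151794962971390777925910624) (B := 972487356621894953839113981428597888)
      (by decide +kernel)
  · exact ex_of_chk (i := 1) (A := 958892290112203750809453178168575136) (B := 984036927253466977360378186047788640)
      (by decide +kernel)
  · exact ex_of_chk (i := 1) (A := 976991671316083716158232775168769184) (B := 959495223873772595994321518455984608)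
      (by decide +kernel)
  · obtain ⟨y, hy, -⟩ := ex_of_chk (p := 3) (i := 1) (A := 962748440151794962971390777925910624)
      (B := 972487356621894953839113981428597888) (by decide +kernel)
    exact ⟨y, hy, (IsPE.of_prime hy).pe.mono (by norm_num)⟩

theorem minDeg {G : Type*} [Group G] {b : ℕ} (h : Cfsg.Agent.H122.MinDeg G b) : MinDeg G b := fun k ρ hρ hk =>
  h.irr k ρ hρ hk

/-- **`M22 ≤ G ≤ Co0`** -/
theorem pw_of_m22 {G : Type*} [Group G] [Finite G] [IsSimpleGroup G] {K : Subgroup (Equiv.Perm leechLattice)}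
    (e : G ≃* K) (hK : K ≤ Co0) {v : leechLattice} (hv : v ≠ 0) (hKv : ∀ k ∈ K, k v = v)
    (h : ∀ g : Spor.M22, fL g ∈ K) (hna : ¬ ∀ a b : G, a * b = b * a) {p : ℕ}
    (hp : p = 2 ∨ p = 3 ∨ p = 5 ∨ p = 7 ∨ p = 11) : PW p 70 G := by
  obtain ⟨y, hy, hyp⟩ := ex22 hp
  let f : Spor.M22 →* G := e.symm.toMonoidHom.comp (fL.codRestrict K h)
  have hf : Function.Injective f := e.symm.injective.comp fun a b hab =>
    fL_injective (a₁ := a) (a₂ := b) (congrArg (fun z : ↥K => (z : Equiv.Perm leechLattice)) hab)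
  have hy' : orderOf (f y) = 11 := by rw [orderOf_injective f hf, hy]
  have h1 := Cfsg.Agent.H547.SelfCent.McLHS.of_injective ((Subgroup.inclusion hK).comp e.toMonoidHom)
    ((Subgroup.inclusion_injective hK).comp e.injective) (signCo0 allOne) allOne_mem_center (by
      rintro ⟨g, hg⟩
      exact Cfsg.Agent.H547.SelfCent.McLHS.neg_not_mem hv hK hKv ⟨e g, hg⟩) hy'
  exact Cfsg.Agent.H773.Pw.pw_of_pe hna (hyp.map f) (minDeg (Cfsg.Agent.H121.Cyc.of_leech e h)) (c := 132) (by omega)
    (k := 11) (by norm_num) (by norm_num) (by norm_num)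

end Cfsg.Agent.H541.PwMa
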