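import Cfsg.Agent.S4364
import Cfsg.Agent.S4149
import Cfsg.Agent.H524.ClassSize
import Cfsg.Agent.H395.Jordan

/-!
# `q`-Baer groups, group theoretic part

Let `q` be a prime such that every `q`-element of the finite group `G` has a class of prime power
size.

* `mk_mem_pCore`: a `q`-element with a class of `r`-power size maps into `O_q(G / O_r(G))`.
* `mk_mem_pCore'`: every `q`-element maps into `O_q(G / O_{q'}(G))`.
* `le_pCore_or_comm`: a Sylow `q`-subgroup is normal or commutative.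
* `sup_centralizer_eq_top`: if it is noncommutative then `Q C(Q) = G`.
* `single_prime`: if it is commutative, one prime serves for all `q`-elements.
-/

set_option autoImplicit false
open Cfsg

namespace Cfsg.Agent.H541.QBaer

open Subgroup

variable {G : Type*} [Group G] [Finite G]

/-- The property that all `q`-elements have a class of prime power size. -/
def IsQBaer (q : ℕ) (G : Type*) [Group G] : Prop :=
  ∀ x : G, (∃ k : ℕ, orderOf x = q ^ k) → ∃ (r : ℕ) (a : ℕ), r.Prime ∧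
    (Subgroup.centralizer ({x} : Set G)).index = r ^ a

/-- A `q`-element with a class of `r`-power size maps into `O_q(G/O_r(G))`. -/
theorem mk_mem_pCore (q r : ℕ) [Fact q.Prime] [Fact r.Prime] (x : G)
    (hx : ∃ k : ℕ, orderOf x = q ^ k)
    (h : ∃ a : ℕ, (centralizer ({x} : Set G)).index = r ^ a) :
    (QuotientGroup.mk' (pCore r G) x) ∈ pCore q (G ⧸ pCore r G) := by
  obtain ⟨k, hk⟩ := hx
  obtain ⟨a, ha⟩ := h
  set π := QuotientGroup.mk' (pCore r G) with hπ
  have hr : r.Prime := Fact.out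
  have hind : ∃ b : ℕ, (centralizer ({π x} : Set (G ⧸ pCore r G))).index = r ^ b := by
    have h1 := Cfsg.Agent.H576.Kazarin.index_centralizer_map_dvd π
      (QuotientGroup.mk'_surjective _) x
    rw [ha] at h1
    obtain ⟨b, -, hb⟩ := (Nat.dvd_prime_pow hr).1 h1
    exact ⟨b, hb⟩
  have hbot : pCore r (G ⧸ pCore r G) = ⊥ := Cfsg.Agent.Lib.Cores.pCore_quotient_pCore r
  have hcomm := Cfsg.Agent.S4364.commute_of_pCore_eq_bot r (π x) hind hbot
  have hN : (normalClosure ({π x} : Set (G ⧸ pCore r G))).Normal := normalClosure_normal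
  have hpow : (π x) ^ q ^ k = 1 := by
    rw [← map_pow, ← hk, pow_orderOf_eq_one, map_one]
  have hP : IsPGroup q (normalClosure ({π x} : Set (G ⧸ pCore r G))) := by
    rintro ⟨g, hg⟩
    refine ⟨k, ?_⟩
    have key : g ^ q ^ k = 1 := by
      have hg' := hg
      rw [normalClosure] at hg'
      induction hg' using closure_induction with
      | mem y hy =>
        obtain ⟨z, hz, hzy⟩ := Group.mem_conjugatesOfSet_iff.1 hy
        rw [Set.mem_singleton_iff] at hz
        subst hz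
        obtain ⟨c, hc⟩ := isConj_iff.1 hzy
        rw [← hc, conj_pow, hpow, mul_one, mul_inv_cancel]
      | one => exact one_pow _
      | mul y z hy hz iy iz =>
        have hc : Commute y z := hcomm y z hy hz
        rw [hc.mul_pow, iy hy, iz hz, one_mul]
      | inv y hy iy => rw [inv_pow, iy hy, inv_one]
    exact Subtype.ext (by simpa using key)
  exact Cfsg.Agent.Lib.Cores.le_pCore hN hP (subset_normalClosure (Set.mem_singleton _))

/-- A `q`-element with a class of `q`-power size is in `O_q(G)`. -/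
theorem mem_pCore {q : ℕ} [Fact q.Prime] {x : G} (hx : ∃ k : ℕ, orderOf x = q ^ k)
    (h : ∃ a : ℕ, (centralizer ({x} : Set G)).index = q ^ a) : x ∈ pCore q G := by
  obtain ⟨k, hk⟩ := hx
  obtain ⟨a, ha⟩ := h
  exact Cfsg.Agent.Lib.Cores.le_pCore normalClosure_normal
    (Cfsg.Agent.H576.Kazarin.isPGroup_normalClosure hk ha)
    (subset_normalClosure (Set.mem_singleton _))

omit [Finite G] in
/-- Passing from `G / O_r(G)` to a bigger quotient. -/
theorem comap_pCore_le (q : ℕ) [Fact q.Prime] {M N : Subgroup G} [M.Normal] [N.Normal]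
    (hMN : M ≤ N) : (pCore q (G ⧸ M)).comap (QuotientGroup.mk' M) ≤
      (pCore q (G ⧸ N)).comap (QuotientGroup.mk' N) := by
  set D := (pCore q (G ⧸ M)).comap (QuotientGroup.mk' M) with hD
  have hDn : D.Normal := Subgroup.Normal.comap (Cfsg.Agent.Lib.Cores.pCore_normal q) _
  rw [← map_le_iff_le_comap]
  refine Cfsg.Agent.Lib.Cores.le_pCore
    (Cfsg.Agent.Lib.Cores.map_normal_of_surjective (QuotientGroup.mk'_surjective N) hDn) ?_
  rintro ⟨_, d, hd, rfl⟩
  obtain ⟨k, hk⟩ := Cfsg.Agent.Lib.Cores.pCore_isPGroup (G := G ⧸ M) q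
    ⟨QuotientGroup.mk' M d, hd⟩
  refine ⟨k, Subtype.ext ?_⟩
  have h1 : (QuotientGroup.mk' M) (d ^ q ^ k) = 1 := by
    rw [map_pow]
    exact congrArg Subtype.val hk
  have h2 : d ^ q ^ k ∈ N := hMN ((QuotientGroup.eq_one_iff _).1 h1)
  have h3 : (QuotientGroup.mk' N) (d ^ q ^ k) = 1 := (QuotientGroup.eq_one_iff _).2 h2
  rw [map_pow] at h3
  exact h3

theorem pCore_le_pPrimeCore {q r : ℕ} [Fact q.Prime] [Fact r.Prime] (h : r ≠ q) :
    pCore r G ≤ pPrimeCore q G := by
  refine Cfsg.Agent.Lib.Cores.le_pPrimeCore (Cfsg.Agent.Lib.Cores.pCore_normal r) ?_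
  obtain ⟨m, hm⟩ := (IsPGroup.iff_card).1 (Cfsg.Agent.Lib.Cores.pCore_isPGroup (G := G) r)
  rw [hm]
  exact Nat.Coprime.pow_left _ ((Nat.coprime_primes Fact.out Fact.out).2 h)

/-- In a `q`-Baer group all `q`-elements lie in `O_{q',q}(G)`. -/
theorem mk_mem_pCore' (q : ℕ) [Fact q.Prime] (hB : IsQBaer q G) (x : G)
    (hx : ∃ k : ℕ, orderOf x = q ^ k) :
    (QuotientGroup.mk' (pPrimeCore q G) x) ∈ pCore q (G ⧸ pPrimeCore q G) := by
  obtain ⟨r, a, hr, ha⟩ := hB x hx
  have hr' : Fact r.Prime := ⟨hr⟩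
  by_cases hrq : r = q
  · subst hrq
    have h1 := mem_pCore hx ⟨a, ha⟩
    have h2 : ((pCore r G).map (QuotientGroup.mk' (pPrimeCore r G))) ≤
        pCore r (G ⧸ pPrimeCore r G) :=
      Cfsg.Agent.Lib.Cores.le_pCore
        (Cfsg.Agent.Lib.Cores.map_normal_of_surjective (QuotientGroup.mk'_surjective _)
          (Cfsg.Agent.Lib.Cores.pCore_normal r))
        ((Cfsg.Agent.Lib.Cores.pCore_isPGroup (G := G) r).map _)
    exact h2 (mem_map_of_mem _ h1)
  · exact comap_pCore_le q (pCore_le_pPrimeCore (G := G) hrq) (mk_mem_pCore q r x hx ⟨a, ha⟩)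

/-- A `q`-subgroup meets a group of order prime to `q` trivially. -/
theorem eq_one_of_mem {q : ℕ} [Fact q.Prime] (Q : Sylow q G) {M : Subgroup G}
    (hM : (Nat.card M).Coprime q) {g : G} (hg : g ∈ (Q : Subgroup G)) (hgM : g ∈ M) : g = 1 := by
  obtain ⟨n, hn⟩ := (IsPGroup.iff_card).1 Q.isPGroup'
  have hc : (Nat.card (Q : Subgroup G)).Coprime (Nat.card M) := by
    rw [hn]; exact Nat.Coprime.pow_left _ hM.symm
  have h := disjoint_of_coprime_natCard hc
  exact mem_bot.1 (h.le_bot ⟨hg, hgM⟩)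

/-- The image of a Sylow `q`-subgroup modulo `O_{q'}(G)` is `O_q`. -/
theorem map_eq_pCore (q : ℕ) [Fact q.Prime] (N : Subgroup G) [N.Normal] (Q : Sylow q G)
    (h : ∀ x ∈ (Q : Subgroup G), QuotientGroup.mk' N x ∈ pCore q (G ⧸ N)) :
    (Q : Subgroup G).map (QuotientGroup.mk' N) = pCore q (G ⧸ N) := by
  apply le_antisymm
  · rintro _ ⟨x, hx, rfl⟩
    exact h x hx
  · have h1 := Cfsg.Agent.Lib.Cores.pCore_le_sylow
      (Q.mapSurjective (QuotientGroup.mk'_surjective N))
    simpa using h1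

omit [Finite G] in
theorem orderOf_mem {q : ℕ} [Fact q.Prime] (Q : Sylow q G) {x : G} (hx : x ∈ (Q : Subgroup G)) :
    ∃ k : ℕ, orderOf x = q ^ k := by
  obtain ⟨k, hk⟩ := (IsPGroup.iff_orderOf.1 Q.isPGroup') ⟨x, hx⟩
  exact ⟨k, by rw [← hk, Subgroup.orderOf_mk]⟩

/-- If the class size of `x ∈ Q` is prime to `q` then `x` is central in `Q`. -/
theorem comm_of_index (q : ℕ) [Fact q.Prime] (hB : IsQBaer q G) (Q : Sylow q G) {x : G}
    (hx : x ∈ (Q : Subgroup G)) (h : ¬ q ∣ (centralizer ({x} : Set G)).index) {y : G}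
    (hy : y ∈ (Q : Subgroup G)) : x * y = y * x := by
  obtain ⟨R, hR⟩ := Cfsg.Agent.S4149.exists_sylow_le_centralizer q _ h
  set π := QuotientGroup.mk' (pPrimeCore q G) with hπ
  have h1 : π y ∈ pCore q (G ⧸ pPrimeCore q G) := mk_mem_pCore' q hB y (orderOf_mem Q hy)
  have h2 : π y ∈ (R : Subgroup G).map π := by
    have h3 := Cfsg.Agent.Lib.Cores.pCore_le_sylow
      (R.mapSurjective (QuotientGroup.mk'_surjective (pPrimeCore q G)))
    exact h3 h1
  obtain ⟨ρ, hρ, hρy⟩ := h2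
  have hc : x * ρ = ρ * x := (mem_centralizer_singleton_iff.1 (hR hρ)).symm
  have h4 : π (x * y * x⁻¹ * y⁻¹) = 1 := by
    have : π x * π ρ = π ρ * π x := by rw [← map_mul, hc, map_mul]
    rw [map_mul, map_mul, map_mul, map_inv, map_inv, ← hρy, this]
    group
  have h5 : x * y * x⁻¹ * y⁻¹ ∈ pPrimeCore q G := (QuotientGroup.eq_one_iff _).1 h4
  have h6 : x * y * x⁻¹ * y⁻¹ ∈ (Q : Subgroup G) :=
    mul_mem (mul_mem (mul_mem hx hy) (inv_mem hx)) (inv_mem hy)
  have h7 := eq_one_of_mem Q (Cfsg.Agent.Lib.Cores.pPrimeCore_coprime q) h6 h5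
  rw [mul_inv_eq_one, mul_inv_eq_iff_eq_mul] at h7
  exact h7

/-- Elements of `Q` lie in `O_q(G)` or in the centre of `Q`. -/
theorem mem_or_comm (q : ℕ) [Fact q.Prime] (hB : IsQBaer q G) (Q : Sylow q G) {x : G}
    (hx : x ∈ (Q : Subgroup G)) :
    (∃ a : ℕ, (centralizer ({x} : Set G)).index = q ^ a) ∨
      ∀ y ∈ (Q : Subgroup G), x * y = y * x := by
  obtain ⟨r, a, hr, ha⟩ := hB x (orderOf_mem Q hx)
  by_cases hrq : r = q
  · subst hrq; exact Or.inl ⟨a, ha⟩
  · refine Or.inr fun y hy => comm_of_index q hB Q hx ?_ hy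
    rw [ha]
    intro hd
    exact hrq ((Nat.prime_dvd_prime_iff_eq Fact.out hr).1
      (Nat.Prime.dvd_of_dvd_pow Fact.out hd)).symm

/-- A Sylow `q`-subgroup is contained in `O_q(G)` or commutative. -/
theorem le_pCore_or_comm (q : ℕ) [Fact q.Prime] (hB : IsQBaer q G) (Q : Sylow q G) :
    (Q : Subgroup G) ≤ pCore q G ∨
      ∀ x ∈ (Q : Subgroup G), ∀ y ∈ (Q : Subgroup G), x * y = y * x := by
  by_contra hcon
  push Not at hcon
  obtain ⟨h1, b, hbQ, c, hcQ, hbc⟩ := hcon
  obtain ⟨a, haQ, haO⟩ := Set.not_subset.1 h1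
  have ha : ∀ y ∈ (Q : Subgroup G), a * y = y * a := by
    rcases mem_or_comm q hB Q haQ with h | h
    · exact absurd (mem_pCore (orderOf_mem Q haQ) h) haO
    · exact h
  have hb : b ∈ pCore q G := by
    rcases mem_or_comm q hB Q hbQ with h | h
    · exact mem_pCore (orderOf_mem Q hbQ) h
    · exact absurd (h c hcQ) hbc
  have hab : a * b ∈ (Q : Subgroup G) := mul_mem haQ hbQ
  rcases mem_or_comm q hB Q hab with h | h
  · have := mem_pCore (orderOf_mem Q hab) h
    exact haO ((Subgroup.mul_mem_cancel_right _ hb).1 this)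
  · refine hbc ?_
    have h2 := h c hcQ
    have h3 := ha c hcQ
    have : a * (b * c) = a * (c * b) := by
      rw [← mul_assoc, h2, ← mul_assoc, ← mul_assoc, h3]
    exact mul_left_cancel this

/-- If `x ∈ Q`, `Q` normal, has a class of `q`-power size, then a `Q`-conjugate of `x` commutes with
the Sylow `s`-subgroup `S`. -/
theorem exists_conj_comm {q s : ℕ} [Fact q.Prime] [Fact s.Prime] (hsq : s ≠ q) (Q : Sylow q G)
    (hQ : (Q : Subgroup G).Normal) {x : G} {a : ℕ}
    (h : (centralizer ({x} : Set G)).index = q ^ a) (S : Sylow s G) :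
    ∃ u ∈ (Q : Subgroup G), ∀ σ ∈ (S : Subgroup G), σ * (u⁻¹ * x * u) = (u⁻¹ * x * u) * σ := by
  have hnd : ¬ s ∣ (centralizer ({x} : Set G)).index := by
    rw [h]
    intro hd
    exact hsq ((Nat.prime_dvd_prime_iff_eq Fact.out Fact.out).1
      (Nat.Prime.dvd_of_dvd_pow Fact.out hd))
  obtain ⟨S', hS'⟩ := Cfsg.Agent.S4149.exists_sylow_le_centralizer s _ hnd
  obtain ⟨g, hg⟩ := MulAction.exists_smul_eq G S S'
  have htop : centralizer ({x} : Set G) ⊔ (Q : Subgroup G) = ⊤ := by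
    rw [← index_eq_one]
    have h1 : (centralizer ({x} : Set G) ⊔ (Q : Subgroup G)).index ∣ q ^ a := by
      rw [← h]; exact index_dvd_of_le le_sup_left
    have h2 : (centralizer ({x} : Set G) ⊔ (Q : Subgroup G)).index ∣ (Q : Subgroup G).index :=
      index_dvd_of_le le_sup_right
    have h3 : Nat.Coprime (q ^ a) (Q : Subgroup G).index :=
      Nat.Coprime.pow_left _ ((Nat.Prime.coprime_iff_not_dvd Fact.out).2 Q.not_dvd_index)
    exact Nat.eq_one_of_dvd_coprimes h3 h1 h2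
  have hgt : g ∈ centralizer ({x} : Set G) ⊔ (Q : Subgroup G) := by rw [htop]; exact mem_top _
  obtain ⟨c, hc, u, hu, hcu⟩ := mem_sup_of_normal_right.1 hgt
  refine ⟨u, hu, fun σ hσ => ?_⟩
  have h1 : g * σ * g⁻¹ ∈ (S' : Subgroup G) := by
    rw [← hg]
    exact Subgroup.mem_pointwise_smul_iff_inv_smul_mem.2 (by simpa [mul_assoc] using hσ)
  have h2 : (g * σ * g⁻¹) * x = x * (g * σ * g⁻¹) := mem_centralizer_singleton_iff.1 (hS' h1)
  have h3 : c * x = x * c := mem_centralizer_singleton_iff.1 hc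
  rw [← hcu] at h2
  have h4 : c⁻¹ * x * c = x := by rw [mul_assoc, ← h3, inv_mul_cancel_left]
  have h5 : (u * σ * u⁻¹) * x = x * (u * σ * u⁻¹) := by
    have h6 : c⁻¹ * ((c * u * σ * (c * u)⁻¹) * x) * c = c⁻¹ * (x * (c * u * σ * (c * u)⁻¹)) * c := by
      rw [h2]
    have h7 : c⁻¹ * ((c * u * σ * (c * u)⁻¹) * x) * c = (u * σ * u⁻¹) * (c⁻¹ * x * c) := by group
    have h8 : c⁻¹ * (x * (c * u * σ * (c * u)⁻¹)) * c = (c⁻¹ * x * c) * (u * σ * u⁻¹) := by group
    rw [h7, h8, h4] at h6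
    exact h6
  have h9 : u⁻¹ * ((u * σ * u⁻¹) * x) * u = u⁻¹ * (x * (u * σ * u⁻¹)) * u := by rw [h5]
  have h10 : u⁻¹ * ((u * σ * u⁻¹) * x) * u = σ * (u⁻¹ * x * u) := by group
  have h11 : u⁻¹ * (x * (u * σ * u⁻¹)) * u = (u⁻¹ * x * u) * σ := by group
  rw [h10, h11] at h9
  exact h9

/-- If the Sylow `q`-subgroup `Q` is normal and noncommutative then it is centralized by all Sylow
`s`-subgroups, `s ≠ q`. -/
theorem sylow_comm {q s : ℕ} [Fact q.Prime] [Fact s.Prime] (hsq : s ≠ q) (hB : IsQBaer q G)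
    (Q : Sylow q G) (hQ : (Q : Subgroup G).Normal)
    (hnc : ¬ ∀ x ∈ (Q : Subgroup G), ∀ y ∈ (Q : Subgroup G), x * y = y * x) (S : Sylow s G) :
    (S : Subgroup G) ≤ centralizer ((Q : Subgroup G) : Set G) := by
  push Not at hnc
  obtain ⟨b, hbQ, b', hb'Q, hbb'⟩ := hnc
  -- noncentral elements of `Q`
  have hconj : ∀ x ∈ (Q : Subgroup G), (¬ ∀ y ∈ (Q : Subgroup G), x * y = y * x) →
      ∃ u ∈ (Q : Subgroup G), ∀ σ ∈ (S : Subgroup G), σ * (u⁻¹ * x * u) = (u⁻¹ * x * u) * σ := by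
    intro x hx hxc
    rcases mem_or_comm q hB Q hx with ⟨a, ha⟩ | h
    · exact exists_conj_comm hsq Q hQ ha S
    · exact absurd h hxc
  set C : Subgroup (Q : Subgroup G) :=
    (centralizer ((S : Subgroup G) : Set G)).subgroupOf (Q : Subgroup G) with hC
  have hmemC : ∀ x : (Q : Subgroup G), x ∈ C ↔ ∀ σ ∈ (S : Subgroup G), σ * x = x * σ := by
    intro x
    rw [hC, mem_subgroupOf, mem_centralizer_iff]
    rfl
  have htop : C ⊔ center (Q : Subgroup G) = ⊤ := by
    by_contra hne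
    obtain ⟨x, hx⟩ := Cfsg.Agent.H395.Jordan.exists_not_conj_mem hne
    by_cases hxc : ∀ y ∈ (Q : Subgroup G), (x : G) * y = y * x
    · apply hx 1
      have : x ∈ center (Q : Subgroup G) := by
        rw [mem_center_iff]
        intro g
        exact Subtype.ext (hxc g g.2).symm
      simpa using (le_sup_right (a := C) this)
    · obtain ⟨u, hu, hσ⟩ := hconj x x.2 hxc
      apply hx ⟨u, hu⟩
      apply le_sup_left (a := C)
      rw [hmemC]
      exact hσ
  have hin : ∀ x : (Q : Subgroup G), (¬ ∀ y ∈ (Q : Subgroup G), (x : G) * y = y * x) → x ∈ C := by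
    intro x hxc
    obtain ⟨u, hu, hσ⟩ := hconj x x.2 hxc
    have hut : (⟨u, hu⟩ : (Q : Subgroup G)) ∈ C ⊔ center (Q : Subgroup G) := by
      rw [htop]; exact mem_top _
    obtain ⟨c, hc, z, hz, hcz⟩ := mem_sup_of_normal_right.1 hut
    have h1 : (⟨u, hu⟩ : (Q : Subgroup G))⁻¹ * x * ⟨u, hu⟩ ∈ C := by
      rw [hmemC]; exact hσ
    have h2 : (⟨u, hu⟩ : (Q : Subgroup G))⁻¹ * x * ⟨u, hu⟩ = c⁻¹ * x * c := by
      rw [← hcz]
      have h3 := mem_center_iff.1 hz (c⁻¹ * x * c)
      calc (c * z)⁻¹ * x * (c * z) = z⁻¹ * (c⁻¹ * x * c * z) := by group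
        _ = z⁻¹ * (z * (c⁻¹ * x * c)) := by rw [h3]
        _ = c⁻¹ * x * c := by group
    rw [h2] at h1
    have h4 : x = c * (c⁻¹ * x * c) * c⁻¹ := by group
    rw [h4]
    exact mul_mem (mul_mem hc h1) (inv_mem hc)
  have hb : (⟨b, hbQ⟩ : (Q : Subgroup G)) ∈ C := by
    apply hin
    intro h
    exact hbb' (h b' hb'Q)
  intro σ hσ
  rw [mem_centralizer_iff]
  intro x hx
  by_cases hxc : ∀ y ∈ (Q : Subgroup G), x * y = y * x
  · have h1 : (⟨b * x, mul_mem hbQ hx⟩ : (Q : Subgroup G)) ∈ C := by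
      apply hin
      intro h
      apply hbb'
      have h2 : b * x * b' = b' * (b * x) := h b' hb'Q
      have h3 := hxc b' hb'Q
      rw [mul_assoc, h3, ← mul_assoc, ← mul_assoc] at h2
      exact mul_right_cancel h2
    have h4 : (⟨x, hx⟩ : (Q : Subgroup G)) ∈ C := by
      have h5 : (⟨x, hx⟩ : (Q : Subgroup G)) = (⟨b, hbQ⟩ : (Q : Subgroup G))⁻¹ *
          ⟨b * x, mul_mem hbQ hx⟩ := Subtype.ext (by simp)
      rw [h5]
      exact mul_mem (inv_mem hb) h1
    exact ((hmemC _).1 h4 σ hσ).symm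
  · exact ((hmemC _).1 (hin ⟨x, hx⟩ hxc) σ hσ).symm

/-- If the Sylow `q`-subgroup `Q` is noncommutative then `Q C(Q) = G`. -/
theorem sup_centralizer_eq_top {q : ℕ} [Fact q.Prime] (hB : IsQBaer q G) (Q : Sylow q G)
    (hnc : ¬ ∀ x ∈ (Q : Subgroup G), ∀ y ∈ (Q : Subgroup G), x * y = y * x) :
    (Q : Subgroup G) ⊔ centralizer ((Q : Subgroup G) : Set G) = ⊤ := by
  have hQe : (Q : Subgroup G) = pCore q G := by
    rcases le_pCore_or_comm q hB Q with h | h
    · exact le_antisymm h (Cfsg.Agent.Lib.Cores.pCore_le_sylow Q)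
    · exact absurd h hnc
  have hQ : (Q : Subgroup G).Normal := by
    rw [hQe]; exact Cfsg.Agent.Lib.Cores.pCore_normal q
  refine Cfsg.Agent.Lib.Cores.eq_top_of_sylow_le fun s hs => ?_
  by_cases hsq : s = q
  · subst hsq; exact ⟨Q, le_sup_left⟩
  · exact ⟨default, (sylow_comm hsq hB Q hQ hnc default).trans le_sup_right⟩

omit [Finite G] in
theorem index_centralizer_conj (x g : G) :
    (centralizer ({g * x * g⁻¹} : Set G)).index = (centralizer ({x} : Set G)).index := by
  have h : centralizer ({g * x * g⁻¹} : Set G) =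
      (centralizer ({x} : Set G)).map (MulAut.conj g).toMonoidHom := by
    ext y
    rw [mem_centralizer_singleton_iff, mem_map]
    constructor
    · intro h
      refine ⟨g⁻¹ * y * g, ?_, by simp [mul_assoc]⟩
      rw [mem_centralizer_singleton_iff]
      have h1 : g⁻¹ * (y * (g * x * g⁻¹)) * g = g⁻¹ * (g * x * g⁻¹ * y) * g := by rw [h]
      have h2 : g⁻¹ * (y * (g * x * g⁻¹)) * g = g⁻¹ * y * g * x := by group
      have h3 : g⁻¹ * (g * x * g⁻¹ * y) * g = x * (g⁻¹ * y * g) := by group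
      rw [h2, h3] at h1
      exact h1
    · rintro ⟨z, hz, rfl⟩
      rw [mem_centralizer_singleton_iff] at hz
      change g * z * g⁻¹ * (g * x * g⁻¹) = g * x * g⁻¹ * (g * z * g⁻¹)
      calc g * z * g⁻¹ * (g * x * g⁻¹) = g * (z * x) * g⁻¹ := by group
        _ = g * (x * z) * g⁻¹ := by rw [hz]
        _ = g * x * g⁻¹ * (g * z * g⁻¹) := by group
  rw [h]
  exact index_map_equiv _ (MulAut.conj g)

/-- A `q`-element is conjugate into `Q`. -/
theorem exists_conj_mem {q : ℕ} [Fact q.Prime] (Q : Sylow q G) {x : G}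
    (hx : ∃ k : ℕ, orderOf x = q ^ k) : ∃ g : G, g * x * g⁻¹ ∈ (Q : Subgroup G) := by
  obtain ⟨k, hk⟩ := hx
  have hP : IsPGroup q (zpowers x) := IsPGroup.of_card (n := k) (by rw [Nat.card_zpowers, hk])
  obtain ⟨R, hR⟩ := hP.exists_le_sylow
  obtain ⟨g, hg⟩ := MulAction.exists_smul_eq G R Q
  refine ⟨g, ?_⟩
  rw [← hg]
  exact Subgroup.mem_pointwise_smul_iff_inv_smul_mem.2
    (by simpa [mul_assoc] using hR (mem_zpowers x))

/-- It is enough to compute class sizes for the elements of `Q`. -/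
theorem forall_of_sylow {q p : ℕ} [Fact q.Prime] (Q : Sylow q G)
    (h : ∀ x ∈ (Q : Subgroup G), ∃ a : ℕ, (centralizer ({x} : Set G)).index = p ^ a) :
    ∀ x : G, (∃ k : ℕ, orderOf x = q ^ k) →
      ∃ a : ℕ, (centralizer ({x} : Set G)).index = p ^ a := by
  intro x hx
  obtain ⟨g, hg⟩ := exists_conj_mem Q hx
  obtain ⟨a, ha⟩ := h _ hg
  exact ⟨a, by rw [← ha, index_centralizer_conj]⟩

/-- If `Q C(Q) = G` then the class sizes of the `q`-elements are `q`-powers. -/
theorem index_of_sup {q : ℕ} [Fact q.Prime] (Q : Sylow q G)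
    (h : (Q : Subgroup G) ⊔ centralizer ((Q : Subgroup G) : Set G) = ⊤) :
    ∀ x : G, (∃ k : ℕ, orderOf x = q ^ k) →
      ∃ a : ℕ, (centralizer ({x} : Set G)).index = q ^ a := by
  have hQ := (Cfsg.Agent.H524.ClassSize.normal_and_complement Q h).1
  refine forall_of_sylow Q fun x hx => ?_
  have h1 : (centralizer ((Q : Subgroup G) : Set G)).index ∣ Nat.card (Q : Subgroup G) := by
    rw [← relIndex_top_right, ← h, sup_comm, relIndex_sup_left]
    exact relIndex_dvd_card _ _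
  have h2 : (centralizer ({x} : Set G)).index ∣ (centralizer ((Q : Subgroup G) : Set G)).index :=
    index_dvd_of_le (centralizer_le (Set.singleton_subset_iff.2 hx))
  obtain ⟨n, hn⟩ := (IsPGroup.iff_card).1 Q.isPGroup'
  rw [hn] at h1
  obtain ⟨a, -, ha⟩ := (Nat.dvd_prime_pow Fact.out).1 (h2.trans h1)
  exact ⟨a, ha⟩

open scoped Pointwise in
/-- The product argument: commuting elements `x`, `y` with classes of `p`-power and `r`-power
size, `p ≠ r`, `r ≠ q`, `x` a `q`-element and `x y` with a class of `r`-power size: then `x` is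
central. -/
theorem central_of_mul {q p r : ℕ} [Fact q.Prime] [Fact p.Prime] [Fact r.Prime] (hpr : p ≠ r)
    (hrq : r ≠ q) {x y : G} (hx : ∃ k : ℕ, orderOf x = q ^ k)
    {a b c : ℕ} (ha : (centralizer ({x} : Set G)).index = p ^ a)
    (hb : (centralizer ({y} : Set G)).index = r ^ b)
    (hc : (centralizer ({x * y} : Set G)).index = r ^ c) (g : G) : g * x = x * g := by
  classical
  have hp : p.Prime := Fact.out
  have hr : r.Prime := Fact.out
  have hq : q.Prime := Fact.out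
  set Y : Set G := {z | IsConj y z} with hY
  have hYcard : Y.ncard = r ^ b := by
    rw [← hb, Cfsg.Agent.Blocks.Basic.index_centralizer_eq_ncard]
  have hYconj : ∀ z ∈ Y, ∀ h : G, h * z * h⁻¹ ∈ Y := fun z hz h =>
    IsConj.trans hz (isConj_iff.2 ⟨h, rfl⟩)
  have hnd : ¬ r ∣ (centralizer ({x} : Set G)).index := by
    rw [ha]
    intro hd
    exact hpr ((Nat.prime_dvd_prime_iff_eq hr hp).1 (hr.dvd_of_dvd_pow hd)).symm
  obtain ⟨R, hR⟩ := Cfsg.Agent.S4149.exists_sylow_le_centralizer r _ hnd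
  have hfac : ∀ (z : G) (e : ℕ), (centralizer ({z} : Set G)).index = r ^ e →
      ∀ g : G, ∃ ρ ∈ (R : Subgroup G), g * z * g⁻¹ = ρ * z * ρ⁻¹ := by
    intro z e he g
    have hcop : (R : Subgroup G).index.Coprime (centralizer ({z} : Set G)).index := by
      rw [he]
      exact Nat.Coprime.pow_right _ ((hr.coprime_iff_not_dvd).2 R.not_dvd_index).symm
    obtain ⟨ρ, hρ, d, hd, rfl⟩ :=
      Cfsg.Agent.S0543.exists_mul_eq_of_coprime_index (R : Subgroup G) _ hcop g
    refine ⟨ρ, hρ, ?_⟩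
    have h1 : d * z = z * d := mem_centralizer_singleton_iff.1 hd
    have h2 : d * z * d⁻¹ = z := by rw [h1, mul_inv_cancel_right]
    calc ρ * d * z * (ρ * d)⁻¹ = ρ * (d * z * d⁻¹) * ρ⁻¹ := by group
      _ = ρ * z * ρ⁻¹ := by rw [h2]
  have hRx : ∀ ρ ∈ (R : Subgroup G), ρ * x * ρ⁻¹ = x := fun ρ hρ => by
    have h1 : ρ * x = x * ρ := mem_centralizer_singleton_iff.1 (hR hρ)
    rw [h1, mul_inv_cancel_right]
  have hprod : ∀ ρ ∈ (R : Subgroup G), ρ * (x * y) * ρ⁻¹ = x * (ρ * y * ρ⁻¹) := fun ρ hρ => by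
    calc ρ * (x * y) * ρ⁻¹ = (ρ * x * ρ⁻¹) * (ρ * y * ρ⁻¹) := by group
      _ = x * (ρ * y * ρ⁻¹) := by rw [hRx ρ hρ]
  have h1 : ∀ h : G, ∃ y' ∈ Y, h * (x * y) * h⁻¹ = x * y' := by
    intro h
    obtain ⟨ρ, hρ, e⟩ := hfac (x * y) c hc h
    exact ⟨ρ * y * ρ⁻¹, isConj_iff.2 ⟨ρ, rfl⟩, by rw [e, hprod ρ hρ]⟩
  have h2 : ∀ y' ∈ Y, ∃ h : G, x * y' = h * (x * y) * h⁻¹ := by
    intro y' hy'
    obtain ⟨h, hh⟩ := isConj_iff.1 hy'
    obtain ⟨ρ, hρ, e⟩ := hfac y b hb h
    exact ⟨ρ, by rw [← hh, e, hprod ρ hρ]⟩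
  have key : ∀ g : G, ∀ y' ∈ Y, x⁻¹ * (g * x * g⁻¹) * y' ∈ Y := by
    intro g y' hy'
    have h3 : g⁻¹ * y' * g ∈ Y := by simpa using hYconj y' hy' g⁻¹
    obtain ⟨h, hh⟩ := h2 _ h3
    obtain ⟨y'', hy'', e⟩ := h1 (g * h)
    have h4 : x⁻¹ * (g * x * g⁻¹) * y' = y'' := by
      calc x⁻¹ * (g * x * g⁻¹) * y' = x⁻¹ * (g * (x * (g⁻¹ * y' * g)) * g⁻¹) := by group
        _ = x⁻¹ * (g * (h * (x * y) * h⁻¹) * g⁻¹) := by rw [hh]
        _ = x⁻¹ * (g * h * (x * y) * (g * h)⁻¹) := by group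
        _ = x⁻¹ * (x * y'') := by rw [e]
        _ = y'' := by rw [inv_mul_cancel_left]
    rw [h4]; exact hy''
  set D : Subgroup G := MulAction.stabilizer G Y with hDdef
  have hD : ∀ d : G, d ∈ D ↔ ∀ y' ∈ Y, d * y' ∈ Y := by
    intro d
    rw [hDdef, MulAction.mem_stabilizer_iff]
    constructor
    · intro h y' hy'
      rw [← h]
      exact Set.smul_mem_smul_set hy'
    · intro h
      apply Set.eq_of_subset_of_ncard_le
      · rintro _ ⟨y', hy', rfl⟩
        exact h y' hy'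
      · rw [Set.ncard_smul_set]
      · exact Set.toFinite _
  have hDn : D.Normal := by
    refine ⟨fun d hd h => ?_⟩
    rw [hD] at hd ⊢
    intro y' hy'
    have h3 : h⁻¹ * y' * h ∈ Y := by simpa using hYconj y' hy' h⁻¹
    have h4 := hYconj _ (hd _ h3) h
    have h5 : h * (d * (h⁻¹ * y' * h)) * h⁻¹ = h * d * h⁻¹ * y' := by group
    rw [h5] at h4
    exact h4
  have hDr : ∀ s : ℕ, s.Prime → s ∣ Nat.card D → s = r := by
    intro s hs hsd
    have hs' : Fact s.Prime := ⟨hs⟩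
    obtain ⟨d, hd⟩ := exists_prime_orderOf_dvd_card' s hsd
    have hYd : ∀ z ∈ Y, (d : G) * z ∈ Y := (hD d).1 d.2
    let f : Function.End Y := fun z => ⟨(d : G) * z, hYd z z.2⟩
    have hf : ∀ (n : ℕ) (z : Y), (((f ^ n) z : Y) : G) = (d : G) ^ n * z := by
      intro n
      induction n with
      | zero => intro z; rw [pow_zero, pow_zero, one_mul]; rfl
      | succ n ih =>
        intro z
        rw [pow_succ]
        change (((f ^ n) (f z) : Y) : G) = _
        rw [ih]
        change (d : G) ^ n * ((d : G) * z) = _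
        rw [pow_succ, mul_assoc]
    have hds : (d : G) ^ s = 1 := by
      have : d ^ s = 1 := by rw [← hd, pow_orderOf_eq_one]
      simpa using congrArg (Subtype.val) this
    have hf1 : f ^ s ^ 1 = 1 := by
      funext z
      apply Subtype.ext
      rw [hf, pow_one, hds, one_mul]
      rfl
    have : Fintype Y := Fintype.ofFinite _
    have hmod := Equiv.Perm.card_fixedPoints_modEq hf1
    have hemp : Fintype.card f.fixedPoints = 0 := by
      rw [Fintype.card_eq_zero_iff]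
      refine ⟨fun ⟨z, hz⟩ => ?_⟩
      have h3 : (d : G) * z = z := congrArg Subtype.val hz
      have h4 : (d : G) = 1 := by simpa using h3
      have h5 : d = 1 := Subtype.ext h4
      rw [h5, orderOf_one] at hd
      exact hs.one_lt.ne hd
    rw [hemp, ← Nat.card_eq_fintype_card, Nat.card_coe_set_eq, hYcard] at hmod
    have h6 : s ∣ r ^ b := (Nat.modEq_zero_iff_dvd).1 hmod
    exact (Nat.prime_dvd_prime_iff_eq hs hr).1 (hs.dvd_of_dvd_pow h6)
  obtain ⟨m, hm⟩ : ∃ m : ℕ, Nat.card D = r ^ m :=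
    ⟨_, Nat.eq_prime_pow_of_unique_prime_dvd Nat.card_pos.ne' (fun {s} hs h => hDr s hs h)⟩
  have hDx : D ≤ centralizer ({x} : Set G) := by
    rw [← relIndex_eq_one]
    have h3 := Cfsg.Agent.Lib.GoldschmidtFusion.relIndex_dvd_index_of_normal_right
        (centralizer ({x} : Set G)) D
    have h4 := relIndex_dvd_card (centralizer ({x} : Set G)) D
    rw [ha] at h3
    rw [hm] at h4
    exact Nat.eq_one_of_dvd_coprimes
      (Nat.Coprime.pow _ _ ((Nat.coprime_primes hp hr).2 hpr)) h3 h4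
  set u : G := x⁻¹ * (g * x * g⁻¹) with hu
  have huD : u ∈ D := (hD u).2 (key g)
  have hux : Commute x u := (mem_centralizer_singleton_iff.1 (hDx huD)).symm
  have hxu : x * u = g * x * g⁻¹ := by rw [hu, mul_inv_cancel_left]
  obtain ⟨k, hk⟩ := hx
  have hxk : x ^ q ^ k = 1 := by rw [← hk, pow_orderOf_eq_one]
  have huk : u ^ q ^ k = 1 := by
    have h3 : (x * u) ^ q ^ k = 1 := by rw [hxu, conj_pow, hxk, mul_one, mul_inv_cancel]
    rwa [hux.mul_pow, hxk, one_mul] at h3
  have hum : u ^ r ^ m = 1 := by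
    have h3 : (⟨u, huD⟩ : D) ^ Nat.card D = 1 := pow_card_eq_one'
    rw [hm] at h3
    simpa using congrArg Subtype.val h3
  have h3 : orderOf u ∣ 1 := by
    have h4 : Nat.Coprime (q ^ k) (r ^ m) :=
      Nat.Coprime.pow _ _ ((Nat.coprime_primes hq hr).2 (Ne.symm hrq))
    rw [← h4]
    exact Nat.dvd_gcd (orderOf_dvd_of_pow_eq_one huk) (orderOf_dvd_of_pow_eq_one hum)
  have h4 : u = 1 := orderOf_eq_one_iff.1 (Nat.dvd_one.1 h3)
  rw [h4, mul_one] at hxu
  calc g * x = g * x * g⁻¹ * g := by group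
    _ = x * g := by rw [← hxu]

/-- If `Q` is commutative, the class size of a noncentral element of `Q` is a power of a prime
different from `q`. -/
theorem ne_of_comm {q r b : ℕ} [Fact q.Prime] (Q : Sylow q G)
    (hcomm : ∀ x ∈ (Q : Subgroup G), ∀ y ∈ (Q : Subgroup G), x * y = y * x) {y : G}
    (hy : y ∈ (Q : Subgroup G))
    (hb : (centralizer ({y} : Set G)).index = r ^ b) (hnc : ¬ ∀ g : G, g * y = y * g) : r ≠ q := by
  rintro rfl
  have h1 : (Q : Subgroup G) ≤ centralizer ({y} : Set G) := fun z hz =>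
    mem_centralizer_singleton_iff.2 (hcomm z hz y hy)
  have h2 : (centralizer ({y} : Set G)).index ∣ (Q : Subgroup G).index := index_dvd_of_le h1
  have hb0 : b = 0 := by
    by_contra hb0
    apply Q.not_dvd_index
    refine dvd_trans ?_ h2
    rw [hb]
    exact dvd_pow_self _ hb0
  rw [hb0, pow_zero, index_eq_one] at hb
  apply hnc
  intro g
  have : g ∈ centralizer ({y} : Set G) := by rw [hb]; exact mem_top _
  exact mem_centralizer_singleton_iff.1 this

omit [Finite G] in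
theorem index_eq_one_of_central {y : G} (h : ∀ g : G, g * y = y * g) :
    (centralizer ({y} : Set G)).index = 1 := by
  rw [index_eq_one, eq_top_iff]
  exact fun g _ => mem_centralizer_singleton_iff.2 (h g)

/-- If `Q` is commutative then it is central, or one prime `p ≠ q` serves for all elements of
`Q`. -/
theorem single_prime {q : ℕ} [Fact q.Prime] (hB : IsQBaer q G) (Q : Sylow q G)
    (hcomm : ∀ x ∈ (Q : Subgroup G), ∀ y ∈ (Q : Subgroup G), x * y = y * x) :
    (∀ x ∈ (Q : Subgroup G), ∀ g : G, g * x = x * g) ∨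
      ∃ p : ℕ, p.Prime ∧ p ≠ q ∧ ∀ x ∈ (Q : Subgroup G),
        ∃ a : ℕ, (centralizer ({x} : Set G)).index = p ^ a := by
  by_cases hcen : ∀ x ∈ (Q : Subgroup G), ∀ g : G, g * x = x * g
  · exact Or.inl hcen
  right
  push Not at hcen
  obtain ⟨x, hx, g₀, hg₀⟩ := hcen
  have hxnc : ¬ ∀ g : G, g * x = x * g := fun h => hg₀ (h g₀)
  obtain ⟨p, a, hp, ha⟩ := hB x (orderOf_mem Q hx)
  have hpq : p ≠ q := ne_of_comm Q hcomm hx ha hxnc
  refine ⟨p, hp, hpq, fun y hy => ?_⟩
  by_cases hync : ∀ g : G, g * y = y * g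
  · exact ⟨0, by rw [pow_zero, index_eq_one_of_central hync]⟩
  obtain ⟨r, b, hr, hb⟩ := hB y (orderOf_mem Q hy)
  have hrq : r ≠ q := ne_of_comm Q hcomm hy hb hync
  by_cases hpr : p = r
  · exact ⟨b, by rw [hb, hpr]⟩
  exfalso
  have hp' : Fact p.Prime := ⟨hp⟩
  have hr' : Fact r.Prime := ⟨hr⟩
  have hxy : x * y ∈ (Q : Subgroup G) := mul_mem hx hy
  obtain ⟨t, c, ht, hc⟩ := hB _ (orderOf_mem Q hxy)
  have hle : centralizer ({x} : Set G) ⊓ centralizer ({y} : Set G) ≤
      centralizer ({x * y} : Set G) := by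
    rintro g ⟨h1, h2⟩
    have h3 : g * x = x * g := mem_centralizer_singleton_iff.1 h1
    have h4 : g * y = y * g := mem_centralizer_singleton_iff.1 h2
    refine mem_centralizer_singleton_iff.2 ?_
    rw [← mul_assoc, h3, mul_assoc, h4, mul_assoc]
  have hcop : Nat.Coprime (p ^ a) (r ^ b) := Nat.Coprime.pow _ _ ((Nat.coprime_primes hp hr).2 hpr)
  have hinf : (centralizer ({x} : Set G) ⊓ centralizer ({y} : Set G)).index = p ^ a * r ^ b := by
    apply le_antisymm
    · rw [← ha, ← hb]; exact index_inf_le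
    · refine Nat.le_of_dvd (Nat.pos_of_ne_zero index_ne_zero_of_finite) ?_
      refine Nat.Coprime.mul_dvd_of_dvd_of_dvd hcop ?_ ?_
      · rw [← ha]; exact index_dvd_of_le inf_le_left
      · rw [← hb]; exact index_dvd_of_le inf_le_right
  have hdvd : t ^ c ∣ p ^ a * r ^ b := by
    rw [← hc, ← hinf]; exact index_dvd_of_le hle
  have hcase : (∃ e, (centralizer ({x * y} : Set G)).index = r ^ e) ∨
      ∃ e, (centralizer ({x * y} : Set G)).index = p ^ e := by
    by_cases h1 : t = p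
    · right; exact ⟨c, by rw [hc, h1]⟩
    by_cases h2 : t = r
    · left; exact ⟨c, by rw [hc, h2]⟩
    left
    refine ⟨0, ?_⟩
    have h3 : Nat.Coprime (t ^ c) (p ^ a * r ^ b) := Nat.Coprime.mul_right
      (Nat.Coprime.pow _ _ ((Nat.coprime_primes ht hp).2 h1))
      (Nat.Coprime.pow _ _ ((Nat.coprime_primes ht hr).2 h2))
    have h4 : t ^ c = 1 := by
      have := Nat.gcd_eq_left hdvd
      rw [← this]; exact h3
    rw [hc, h4, pow_zero]
  rcases hcase with ⟨e, he⟩ | ⟨e, he⟩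
  · exact hxnc (central_of_mul (p := p) (r := r) hpr hrq (orderOf_mem Q hx) ha hb he)
  · rw [hcomm x hx y hy] at he
    exact hync (central_of_mul (p := r) (r := p) (Ne.symm hpr) hpq (orderOf_mem Q hy) hb ha he)

/-- `O_p(G) Q` is normal if the class sizes of the elements of `Q` are `p`-powers. -/
theorem sup_normal {q p : ℕ} [Fact q.Prime] [Fact p.Prime] (Q : Sylow q G)
    (h : ∀ x ∈ (Q : Subgroup G), ∃ a : ℕ, (centralizer ({x} : Set G)).index = p ^ a) :
    (pCore p G ⊔ (Q : Subgroup G)).Normal := by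
  have h1 : (Q : Subgroup G).map (QuotientGroup.mk' (pCore p G)) = pCore q (G ⧸ pCore p G) :=
    map_eq_pCore q _ Q fun x hx => mk_mem_pCore q p x (orderOf_mem Q hx) (h x hx)
  have h2 : pCore p G ⊔ (Q : Subgroup G) =
      (pCore q (G ⧸ pCore p G)).comap (QuotientGroup.mk' (pCore p G)) := by
    rw [← h1, comap_map_eq, QuotientGroup.ker_mk', sup_comm]
  rw [h2]
  exact Subgroup.Normal.comap (Cfsg.Agent.Lib.Cores.pCore_normal q) _

/-- `q`-length one. -/
theorem qlength_one {q : ℕ} [Fact q.Prime] (hB : IsQBaer q G) (Q : Sylow q G) :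
    ∃ K L : Subgroup G, K.Normal ∧ L.Normal ∧ K ≤ L ∧ (Nat.card K).Coprime q ∧
      (∃ m : ℕ, K.relIndex L = q ^ m) ∧ L.index.Coprime q := by
  set K := pPrimeCore q G with hK
  set L := (pCore q (G ⧸ K)).comap (QuotientGroup.mk' K) with hL
  have hKL : K ≤ L := by
    intro x hx
    have : QuotientGroup.mk' K x = 1 := (QuotientGroup.eq_one_iff _).2 hx
    rw [hL, mem_comap, this]
    exact one_mem _
  have hmap : L.map (QuotientGroup.mk' K) = pCore q (G ⧸ K) :=
    map_comap_eq_self_of_surjective (QuotientGroup.mk'_surjective K) _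
  refine ⟨K, L, inferInstance, Subgroup.Normal.comap (Cfsg.Agent.Lib.Cores.pCore_normal q) _, hKL,
    Cfsg.Agent.Lib.Cores.pPrimeCore_coprime q, ?_, ?_⟩
  · have h1 := relIndex_ker (K := L) (QuotientGroup.mk' K)
    rw [QuotientGroup.ker_mk', hmap] at h1
    rw [h1]
    exact (IsPGroup.iff_card).1 (Cfsg.Agent.Lib.Cores.pCore_isPGroup (G := G ⧸ K) q)
  · have h1 : (Q : Subgroup G) ≤ L := fun x hx => mk_mem_pCore' q hB x (orderOf_mem Q hx)
    have h2 : L.index ∣ (Q : Subgroup G).index := index_dvd_of_le h1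
    refine Nat.Coprime.symm (((Nat.Prime.coprime_iff_not_dvd Fact.out)).2 fun hd => ?_)
    exact Q.not_dvd_index (hd.trans h2)

/-- A normal commutative Sylow `q`-subgroup of a group with `O_{q'}(X) = 1` is its own
centralizer. -/
theorem centralizer_eq {X : Type*} [Group X] [Finite X] {q : ℕ} [Fact q.Prime] (O : Sylow q X)
    [hO : (O : Subgroup X).Normal]
    (hcomm : ∀ x ∈ (O : Subgroup X), ∀ y ∈ (O : Subgroup X), x * y = y * x)
    (hbot : pPrimeCore q X = ⊥) :
    centralizer ((O : Subgroup X) : Set X) = (O : Subgroup X) := by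
  set C := centralizer ((O : Subgroup X) : Set X) with hC
  have hOC : (O : Subgroup X) ≤ C := fun x hx =>
    mem_centralizer_iff.2 fun y hy => hcomm y hy x hx
  have hCn : C.Normal := normal_centralizer
  set P : Sylow q C := O.subtype hOC with hP
  have hPC : (P : Subgroup C) ⊔ centralizer ((P : Subgroup C) : Set C) = ⊤ := by
    rw [eq_top_iff]
    refine le_trans ?_ le_sup_right
    intro c _
    rw [mem_centralizer_iff]
    intro y hy
    exact Subtype.ext (mem_centralizer_iff.1 c.2 y hy)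
  obtain ⟨-, N, hN, hcompl, -⟩ := Cfsg.Agent.H524.ClassSize.normal_and_complement P hPC
  have hcore : pPrimeCore q C = ⊥ := by
    have h1 := Cfsg.Agent.Lib.Cores.map_subtype_pPrimeCore q hCn
    rw [hbot, inf_bot_eq] at h1
    exact (map_eq_bot_iff_of_injective _ C.subtype_injective).1 h1
  have hNq : (Nat.card N).Coprime q := by
    rw [← hcompl.index_eq_card]
    exact Nat.Coprime.symm ((Nat.Prime.coprime_iff_not_dvd Fact.out).2 P.not_dvd_index)
  have hNbot : N = ⊥ := by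
    rw [eq_bot_iff, ← hcore]
    exact Cfsg.Agent.Lib.Cores.le_pPrimeCore hN hNq
  have hPtop : (P : Subgroup C) = ⊤ := by
    rw [hNbot] at hcompl
    exact isComplement'_bot_left.1 hcompl
  refine le_antisymm ?_ hOC
  intro c hc
  have : (⟨c, hc⟩ : C) ∈ (P : Subgroup C) := by rw [hPtop]; exact mem_top _
  exact this

end Cfsg.Agent.H541.QBaer
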