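import Cfsg.Agent.H780.SpDefs
import Cfsg.Agent.H263.FF.Basic

/-!
# Characteristic two: an invariant subgroup of `K × K × K` (task S5260-F, helper541)
-/

set_option autoImplicit false
set_option linter.unusedSectionVars false

namespace Cfsg.Agent.H541.TwoLem

open Cfsg.Agent.H780

section

variable {K : Type*} [Field K]

/-- the subgroup of the triples `(0, u, z)` -/
def ZZ (K : Type*) [Field K] : AddSubgroup (K × K × K) where
  carrier := {v | v.1 = 0}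
  zero_mem' := rfl
  add_mem' := by
    intro a b ha hb
    show a.1 + b.1 = 0
    rw [show a.1 = 0 from ha, show b.1 = 0 from hb, add_zero]
  neg_mem' := by
    intro a ha
    show -a.1 = 0
    rw [show a.1 = 0 from ha, neg_zero]

theorem mem_ZZ {v : K × K × K} : v ∈ ZZ K ↔ v.1 = 0 := Iff.rfl

theorem card_ZZ [Finite K] : Nat.card (ZZ K) = Nat.card K * Nat.card K := by
  rw [← Nat.card_prod]
  exact Nat.card_congr
    { toFun := fun v => v.1.2
      invFun := fun w => ⟨(0, w), rfl⟩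
      left_inv := fun v => by
        apply Subtype.ext
        exact Prod.ext (show (0 : K) = v.1.1 from v.2.symm) rfl
      right_inv := fun w => rfl }

variable {G : Type*} [Group G] (ρ : G →* Equiv.Perm (K × K × K))
  (hadd : ∀ g v w, ρ g (v + w) = ρ g v + ρ g w)

include hadd in
theorem map_zero' (g : G) : ρ g 0 = 0 := by
  have h := hadd g 0 0
  rw [add_zero] at h
  exact left_eq_add.1 h

include hadd in
theorem map_neg' (g : G) (v : K × K × K) : ρ g (-v) = -ρ g v := by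
  have h := hadd g (-v) v
  rw [neg_add_cancel, map_zero' ρ hadd] at h
  exact eq_neg_of_add_eq_zero_left h.symm

/-- the image `g Z` -/
def WW (g : G) : AddSubgroup (K × K × K) where
  carrier := {v | (ρ g⁻¹ v).1 = 0}
  zero_mem' := by
    show (ρ g⁻¹ 0).1 = 0
    rw [map_zero' ρ hadd]; rfl
  add_mem' := by
    intro a b ha hb
    show (ρ g⁻¹ (a + b)).1 = 0
    rw [hadd]
    show (ρ g⁻¹ a).1 + (ρ g⁻¹ b).1 = 0
    rw [show (ρ g⁻¹ a).1 = 0 from ha, show (ρ g⁻¹ b).1 = 0 from hb, add_zero]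
  neg_mem' := by
    intro a ha
    show (ρ g⁻¹ (-a)).1 = 0
    rw [map_neg' ρ hadd]
    show -(ρ g⁻¹ a).1 = 0
    rw [show (ρ g⁻¹ a).1 = 0 from ha, neg_zero]

theorem mem_WW {g : G} {v : K × K × K} : v ∈ WW ρ hadd g ↔ (ρ g⁻¹ v).1 = 0 := Iff.rfl

theorem inv_apply (g : G) (v : K × K × K) : ρ g⁻¹ (ρ g v) = v := by
  rw [← Equiv.Perm.mul_apply, ← map_mul, inv_mul_cancel, map_one, Equiv.Perm.one_apply]

theorem apply_inv (g : G) (v : K × K × K) : ρ g (ρ g⁻¹ v) = v := by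
  rw [← Equiv.Perm.mul_apply, ← map_mul, mul_inv_cancel, map_one, Equiv.Perm.one_apply]

theorem mul_apply' (g h : G) (v : K × K × K) : ρ (g * h) v = ρ g (ρ h v) := by
  rw [map_mul, Equiv.Perm.mul_apply]

theorem mem_WW_one {v : K × K × K} : v ∈ WW ρ hadd 1 ↔ v.1 = 0 := by
  rw [mem_WW, inv_one, map_one, Equiv.Perm.one_apply]

theorem apply_mem_WW {g h : G} {v : K × K × K} : ρ h v ∈ WW ρ hadd (h * g) ↔ v ∈ WW ρ hadd g := by
  rw [mem_WW, mem_WW, mul_inv_rev, mul_apply', inv_apply]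

theorem card_WW [Finite K] (g : G) : Nat.card (WW ρ hadd g) = Nat.card K * Nat.card K := by
  rw [← card_ZZ]
  refine (Nat.card_congr (Equiv.subtypeEquiv (ρ g) ?_)).symm
  intro v
  show v.1 = 0 ↔ (ρ g⁻¹ (ρ g v)).1 = 0
  rw [inv_apply]

theorem card_inf_WW [Finite K] (a g h : G) :
    Nat.card (WW ρ hadd (a * g) ⊓ WW ρ hadd (a * h) : AddSubgroup (K × K × K)) =
      Nat.card (WW ρ hadd g ⊓ WW ρ hadd h : AddSubgroup (K × K × K)) := by
  refine (Nat.card_congr (Equiv.subtypeEquiv (ρ a) ?_)).symm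
  intro v
  show v ∈ WW ρ hadd g ⊓ WW ρ hadd h ↔ ρ a v ∈ WW ρ hadd (a * g) ⊓ WW ρ hadd (a * h)
  rw [AddSubgroup.mem_inf, AddSubgroup.mem_inf, apply_mem_WW, apply_mem_WW]

theorem card_all [Finite K] : Nat.card (K × K × K) = Nat.card K * (Nat.card K * Nat.card K) := by
  rw [Nat.card_prod, Nat.card_prod]

end

section

variable {K : Type*} [Field K] [Finite K] [CharP K 2]

/-- `R_s = {(0, x, x² / s)}` -/
def RR (s : K) : AddSubgroup (K × K × K) where
  carrier := {v | v.1 = 0 ∧ v.2.2 * s = v.2.1 ^ 2}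
  zero_mem' := by
    refine ⟨rfl, ?_⟩
    show (0 : K) * s = (0 : K) ^ 2
    rw [zero_mul, zero_pow two_ne_zero]
  add_mem' := by
    rintro a b ⟨ha, ha'⟩ ⟨hb, hb'⟩
    refine ⟨by show a.1 + b.1 = 0; rw [ha, hb, add_zero], ?_⟩
    show (a.2.2 + b.2.2) * s = (a.2.1 + b.2.1) ^ 2
    rw [CharTwo.add_sq, ← ha', ← hb', add_mul]
  neg_mem' := by
    rintro a ⟨ha, ha'⟩
    refine ⟨by show -a.1 = 0; rw [ha, neg_zero], ?_⟩
    show (-a.2.2) * s = (-a.2.1) ^ 2
    rw [CharTwo.neg_eq, CharTwo.neg_eq, ha']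

theorem card_RR {s : K} (hs : s ≠ 0) : Nat.card (RR s) = Nat.card K := by
  refine Nat.card_congr
    { toFun := fun v => v.1.2.1
      invFun := fun x => ⟨(0, x, x ^ 2 / s), rfl, div_mul_cancel₀ _ hs⟩
      left_inv := fun v => ?_
      right_inv := fun x => rfl }
  apply Subtype.ext
  obtain ⟨⟨a, x, y⟩, h1, h2⟩ := v
  have h1' : a = 0 := h1
  have h2' : y * s = x ^ 2 := h2
  show ((0 : K), x, x ^ 2 / s) = (a, x, y)
  rw [h1', ← h2', mul_div_cancel_right₀ _ hs]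

theorem two_eq : (2 : K) = 0 := CharTwo.two_eq_zero

theorem phi_two (t s u z : K) : phi t (s, u, z) = (s, u + t * s, z + t ^ 2 * s) := by
  rw [phi_apply, two_eq]
  ring_nf

/-- `φ_t e = e + (0, t s, t² s)` -/
theorem phi_add_vec (t : K) (v : K × K × K) : phi t v = v + (0, t * v.1, t ^ 2 * v.1) := by
  obtain ⟨s, u, z⟩ := v
  rw [phi_two]
  ext
  · show s = s + 0
    rw [add_zero]
  · rfl
  · rfl

theorem phi_fix (t : K) {v : K × K × K} (hv : v.1 = 0) : phi t v = v := by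
  rw [phi_add_vec, hv, mul_zero, mul_zero]
  exact add_zero v

theorem fix_phi {t : K} (ht : t ≠ 0) {v : K × K × K} (h : phi t v = v) : v.1 = 0 := by
  obtain ⟨s, u, z⟩ := v
  rw [phi_two] at h
  have h1 : u + t * s = u := congrArg (fun w : K × K × K => w.2.1) h
  have h2 : t * s = 0 := by
    have := add_left_cancel (a := u) (b := t * s) (c := 0) (by rw [h1, add_zero])
    exact this
  exact (mul_eq_zero.1 h2).resolve_left ht

end

section

variable {K : Type*} [Field K] [Finite K] [CharP K 2] {G : Type*} [Group G] [Finite G]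
  (ρ : G →* Equiv.Perm (K × K × K)) (hρ : Function.Injective ρ)
  (hadd : ∀ g v w, ρ g (v + w) = ρ g v + ρ g w) (P : Sylow 2 G)
  (hP1 : ∀ g ∈ P, ∃ t : K, ρ g = phi t) (hP2 : ∀ t : K, ∃ g ∈ P, ρ g = phi t)

/-- the elements which act trivially on `Z` and on `V / Z` -/
def CC : Subgroup G where
  carrier := {g | (∀ v : K × K × K, v.1 = 0 → ρ g v = v) ∧ ∀ v : K × K × K, (ρ g v).1 = v.1}
  one_mem' := by
    refine ⟨fun v _ => ?_, fun v => ?_⟩ <;> rw [map_one, Equiv.Perm.one_apply]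
  mul_mem' := by
    rintro a b ⟨ha, ha'⟩ ⟨hb, hb'⟩
    refine ⟨fun v hv => ?_, fun v => ?_⟩
    · rw [mul_apply', hb v hv, ha v hv]
    · rw [mul_apply', ha', hb']
  inv_mem' := by
    rintro a ⟨ha, ha'⟩
    refine ⟨fun v hv => ?_, fun v => ?_⟩
    · have h := ha v hv
      calc ρ a⁻¹ v = ρ a⁻¹ (ρ a v) := by rw [h]
        _ = v := inv_apply ρ a v
    · have h := ha' (ρ a⁻¹ v)
      rw [apply_inv] at h
      exact h.symm

include hρ hadd in
theorem sq_CC {x : G} (hx : x ∈ CC ρ) : x ^ 2 = 1 := by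
  apply hρ
  rw [map_one]
  apply Equiv.ext
  intro v
  obtain ⟨h1, h2⟩ := hx
  rw [Equiv.Perm.one_apply, pow_two, mul_apply']
  have h3 : ρ x v = v + (ρ x v - v) := by abel
  have h4 : (ρ x v - v).1 = 0 := by
    show (ρ x v).1 - v.1 = 0
    rw [h2, sub_self]
  have h5 : ρ x (ρ x v) = ρ x v + (ρ x v - v) := by
    conv_lhs => rw [h3]
    rw [hadd, h1 _ h4]
  rw [h5]
  have h6 : ρ x v + (ρ x v - v) = (ρ x v + ρ x v) - v := by abel
  rw [h6]
  obtain ⟨a, b, c⟩ := ρ x v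
  obtain ⟨d, e, f⟩ := v
  have h7 : ∀ y : K, y + y = 0 := fun y => CharTwo.add_self_eq_zero y
  show (a + a - d, b + b - e, c + c - f) = (d, e, f)
  rw [h7, h7, h7, zero_sub, zero_sub, zero_sub, CharTwo.neg_eq, CharTwo.neg_eq, CharTwo.neg_eq]

include hρ hadd hP1 in
theorem CC_eq : CC ρ = P := by
  refine P.is_maximal' ?_ ?_
  · intro x
    exact ⟨1, Subtype.ext (by rw [pow_one]; exact sq_CC ρ hρ hadd x.2)⟩
  · intro g hg
    obtain ⟨t, ht⟩ := hP1 g hg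
    refine ⟨fun v hv => by rw [ht, phi_fix t hv], fun v => ?_⟩
    rw [ht, phi_add_vec]
    show v.1 + 0 = v.1
    rw [add_zero]

include hρ hadd hP1 in
/-- an element which stabilises `Z` normalises `P` -/
theorem conj_mem {g : G} (hg : ∀ v : K × K × K, v.1 = 0 → (ρ g v).1 = 0)
    (hg' : ∀ v : K × K × K, v.1 = 0 → (ρ g⁻¹ v).1 = 0) {x : G} (hx : x ∈ P) : g⁻¹ * x * g ∈ P := by
  have hC := CC_eq ρ hρ hadd P hP1
  have hx' : x ∈ CC ρ := by rw [hC]; exact hx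
  obtain ⟨h1, h2⟩ := hx'
  have h : g⁻¹ * x * g ∈ CC ρ := by
    refine ⟨fun v hv => ?_, fun v => ?_⟩
    · rw [mul_apply', mul_apply', h1 _ (hg v hv), inv_apply]
    · rw [mul_apply', mul_apply']
      have h3 : ρ x (ρ g v) = ρ g v + (ρ x (ρ g v) - ρ g v) := by abel
      have h4 : (ρ x (ρ g v) - ρ g v).1 = 0 := by
        show (ρ x (ρ g v)).1 - (ρ g v).1 = 0
        rw [h2, sub_self]
      rw [h3, hadd, inv_apply]
      show v.1 + (ρ g⁻¹ (ρ x (ρ g v) - ρ g v)).1 = v.1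
      rw [hg' _ h4, add_zero]
  rw [hC] at h
  exact h

include hρ hadd hP1 in
/-- a `2`-element which stabilises `Z` lies in `P` -/
theorem mem_P {g : G} (hg : ∀ v : K × K × K, v.1 = 0 → (ρ g v).1 = 0)
    (hg' : ∀ v : K × K × K, v.1 = 0 → (ρ g⁻¹ v).1 = 0) (h2 : g ^ 2 = 1) : g ∈ P := by
  have hgi : g⁻¹ = g := by
    rw [inv_eq_iff_mul_eq_one, ← pow_two, h2]
  have hn : g ∈ Subgroup.normalizer ((P : Subgroup G) : Set G) := by
    rw [Subgroup.mem_normalizer_iff]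
    intro x
    constructor
    · intro hx
      have := conj_mem ρ hρ hadd P hP1 (g := g⁻¹) hg' (by rw [inv_inv]; exact hg) hx
      rwa [inv_inv] at this
    · intro hx
      have h := conj_mem ρ hρ hadd P hP1 hg hg' hx
      have e : g⁻¹ * (g * x * g⁻¹) * g = x := by group
      rw [e] at h
      exact h
  have hpg : IsPGroup 2 (Subgroup.zpowers g) := by
    rw [IsPGroup.iff_card]
    rw [Nat.card_zpowers]
    have := orderOf_dvd_of_pow_eq_one h2
    obtain ⟨k, -, hk⟩ := (Nat.dvd_prime_pow Nat.prime_two (m := 1)).1 (by simpa using this)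
    exact ⟨k, hk⟩
  have h3 := hpg.inf_normalizer_sylow P
  have h4 : g ∈ Subgroup.zpowers g ⊓ (P : Subgroup G) := by
    rw [← h3]
    exact ⟨Subgroup.mem_zpowers g, hn⟩
  exact h4.2

include hρ hadd hP1 in
/-- an element `θ ≠ 1` of `P` which stabilises `g Z` forces `g Z = Z` -/
theorem stab_imp {g x : G} (hx : x ∈ P) (hx1 : x ≠ 1) (h : WW ρ hadd (x * g) = WW ρ hadd g) :
    WW ρ hadd g = WW ρ hadd 1 := by
  obtain ⟨t, ht⟩ := hP1 x hx
  have ht0 : t ≠ 0 := by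
    rintro rfl
    apply hx1
    apply hρ
    rw [ht, map_one]
    apply Equiv.ext
    intro v
    rw [phi_add_vec, Equiv.Perm.one_apply]
    simp
  have hx2 : x ^ 2 = 1 := by
    apply hρ
    rw [map_pow, ht, map_one, pow_two, ← phi_add]
    have : t + t = 0 := CharTwo.add_self_eq_zero t
    rw [this]
    apply Equiv.ext
    intro v
    rw [phi_add_vec, Equiv.Perm.one_apply]
    simp
  -- the conjugate stabilises `Z`
  have hst : ∀ v : K × K × K, v.1 = 0 → (ρ (g⁻¹ * x * g) v).1 = 0 := by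
    intro v hv
    have h1 : ρ g v ∈ WW ρ hadd g := by
      rw [mem_WW, inv_apply]; exact hv
    have h2 : ρ x (ρ g v) ∈ WW ρ hadd (x * g) := (apply_mem_WW ρ hadd).2 h1
    rw [h, mem_WW] at h2
    rw [mul_apply', mul_apply']
    exact h2
  have hη2 : (g⁻¹ * x * g) ^ 2 = 1 := by
    have : (g⁻¹ * x * g) ^ 2 = g⁻¹ * x ^ 2 * g := by rw [pow_two, pow_two]; group
    rw [this, hx2]; group
  have hηi : (g⁻¹ * x * g)⁻¹ = g⁻¹ * x * g := by
    rw [inv_eq_iff_mul_eq_one, ← pow_two, hη2]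
  have hηP : g⁻¹ * x * g ∈ P := mem_P ρ hρ hadd P hP1 hst (by rw [hηi]; exact hst) hη2
  obtain ⟨t', ht'⟩ := hP1 _ hηP
  have ht0' : t' ≠ 0 := by
    rintro rfl
    apply hx1
    have : g⁻¹ * x * g = 1 := by
      apply hρ
      rw [ht', map_one]
      apply Equiv.ext
      intro v
      rw [phi_add_vec, Equiv.Perm.one_apply]
      simp
    have h5 : x = g * (g⁻¹ * x * g) * g⁻¹ := by group
    rw [h5, this]; group
  ext v
  rw [mem_WW_one, mem_WW]
  constructor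
  · intro hv
    have h1 : ρ (g⁻¹ * x * g) (ρ g⁻¹ v) = ρ g⁻¹ v := by rw [ht', phi_fix _ hv]
    have h2 : ρ x v = v := by
      rw [mul_apply', mul_apply', apply_inv] at h1
      exact (ρ g⁻¹).injective h1
    rw [ht] at h2
    exact fix_phi ht0 h2
  · intro hv
    have h2 : ρ x v = v := by rw [ht, phi_fix _ hv]
    have h1 : ρ (g⁻¹ * x * g) (ρ g⁻¹ v) = ρ g⁻¹ v := by
      rw [mul_apply', mul_apply', apply_inv, h2]
    rw [ht'] at h1
    exact fix_phi ht0' h1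

theorem card_K_pos : 0 < Nat.card K := Nat.card_pos

/-- `|Z ∩ g Z| ≥ q` -/
theorem card_inf_ge (g : G) :
    Nat.card K ≤ Nat.card (WW ρ hadd 1 ⊓ WW ρ hadd g : AddSubgroup (K × K × K)) := by
  have h1 := Cfsg.Agent.H263.FF.Basic.card_sup_inf (WW ρ hadd 1) (WW ρ hadd g)
  rw [card_WW, card_WW] at h1
  have h2 : Nat.card (WW ρ hadd 1 ⊔ WW ρ hadd g : AddSubgroup (K × K × K)) ≤
      Nat.card K * (Nat.card K * Nat.card K) := by
    rw [← card_all]
    exact Nat.card_le_card_of_injective _ Subtype.val_injective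
  have h0 : 0 < Nat.card K := Nat.card_pos
  have h3 : Nat.card K * (Nat.card K * Nat.card K) * Nat.card K ≤
      Nat.card K * (Nat.card K * Nat.card K) *
        Nat.card (WW ρ hadd 1 ⊓ WW ρ hadd g : AddSubgroup (K × K × K)) := by
    calc Nat.card K * (Nat.card K * Nat.card K) * Nat.card K = Nat.card K * Nat.card K * (Nat.card K * Nat.card K) := by
          ring
      _ = _ := h1.symm
      _ ≤ _ := Nat.mul_le_mul_right _ h2
  exact Nat.le_of_mul_le_mul_left h3 (by positivity)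

include hρ hP1 hP2 in
/-- for `g Z ≠ Z` with `|Z ∩ g Z|` maximal the intersection meets every `R_s` trivially (`s = e.1`, `e ∈ g Z`) -/
theorem inf_RR {g : G} (hg : WW ρ hadd g ≠ WW ρ hadd 1)
    (hmax : ∀ h : G, WW ρ hadd h ≠ WW ρ hadd 1 →
      Nat.card (WW ρ hadd 1 ⊓ WW ρ hadd h : AddSubgroup (K × K × K)) ≤
        Nat.card (WW ρ hadd 1 ⊓ WW ρ hadd g : AddSubgroup (K × K × K)))
    {e : K × K × K} (he : e ∈ WW ρ hadd g) (he1 : e.1 ≠ 0) {v : K × K × K}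
    (hv : v ∈ WW ρ hadd 1 ⊓ WW ρ hadd g) (hvR : v ∈ RR e.1) : v = 0 := by
  by_contra hv0
  obtain ⟨s, u, z⟩ := e
  obtain ⟨a, x, y⟩ := v
  obtain ⟨h1, h2⟩ := hvR
  have h1' : a = 0 := h1
  have h2' : y * s = x ^ 2 := h2
  have hs : s ≠ 0 := he1
  subst h1'
  obtain ⟨θ, hθ, hθt⟩ := hP2 (x / s)
  have hx0 : x ≠ 0 := by
    rintro rfl
    apply hv0
    rw [zero_pow two_ne_zero] at h2'
    rw [(mul_eq_zero.1 h2').resolve_right hs]
    rfl
  have ht0 : x / s ≠ 0 := div_ne_zero hx0 hs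
  have hθ1 : θ ≠ 1 := by
    rintro rfl
    rw [map_one] at hθt
    have h3 := congrArg (fun f : Equiv.Perm (K × K × K) => (f (1, 0, 0)).2.1) hθt
    have h4 : (0 : K) = 0 + x / s * 1 := by
      simpa [phi_two] using h3
    rw [zero_add, mul_one] at h4
    exact ht0 h4.symm
  -- `θ e = e + v`
  have hθe : ρ θ (s, u, z) = (s, u, z) + (0, x, y) := by
    rw [hθt, phi_add_vec]
    congr 1
    show ((0 : K), x / s * s, (x / s) ^ 2 * s) = (0, x, y)
    have h5 : (x / s) ^ 2 * s = y := by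
      rw [div_pow, pow_two s, ← h2']
      field_simp
    rw [h5, div_mul_cancel₀ _ hs]
  have hne : WW ρ hadd (θ * g) ≠ WW ρ hadd g := fun h =>
    hg (stab_imp ρ hρ hadd P hP1 hθ hθ1 h)
  -- compare with `g⁻¹ θ g`
  have hne' : WW ρ hadd (g⁻¹ * θ * g) ≠ WW ρ hadd 1 := by
    intro h
    apply hne
    ext w
    have h6 : ∀ w, w ∈ WW ρ hadd (θ * g) ↔ ρ g⁻¹ w ∈ WW ρ hadd (g⁻¹ * θ * g) := by
      intro w
      rw [mul_assoc, apply_mem_WW]
    rw [h6, h, mem_WW_one, mem_WW]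
  have hcard : Nat.card (WW ρ hadd 1 ⊓ WW ρ hadd (g⁻¹ * θ * g) : AddSubgroup (K × K × K)) =
      Nat.card (WW ρ hadd g ⊓ WW ρ hadd (θ * g) : AddSubgroup (K × K × K)) := by
    rw [← card_inf_WW ρ hadd g⁻¹ g (θ * g), inv_mul_cancel, mul_assoc]
  have hle : WW ρ hadd 1 ⊓ WW ρ hadd g ≤ WW ρ hadd g ⊓ WW ρ hadd (θ * g) := by
    intro w hw
    obtain ⟨hw1, hw2⟩ := AddSubgroup.mem_inf.1 hw
    refine AddSubgroup.mem_inf.2 ⟨hw2, ?_⟩
    have h7 : ρ θ w = w := by rw [hθt, phi_fix _ ((mem_WW_one ρ hadd).1 hw1)]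
    have h8 : ρ θ w ∈ WW ρ hadd (θ * g) := (apply_mem_WW ρ hadd).2 hw2
    rwa [h7] at h8
  have hθeW : ρ θ (s, u, z) ∈ WW ρ hadd g ⊓ WW ρ hadd (θ * g) := by
    refine AddSubgroup.mem_inf.2 ⟨?_, (apply_mem_WW ρ hadd).2 he⟩
    rw [hθe]
    exact add_mem he (AddSubgroup.mem_inf.1 hv).2
  have hnot : ρ θ (s, u, z) ∉ WW ρ hadd 1 ⊓ WW ρ hadd g := by
    intro h
    have h9 := (mem_WW_one ρ hadd).1 (AddSubgroup.mem_inf.1 h).1
    rw [hθe] at h9
    have h10 : s + 0 = 0 := h9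
    rw [add_zero] at h10
    exact hs h10
  have hlt : WW ρ hadd 1 ⊓ WW ρ hadd g < WW ρ hadd g ⊓ WW ρ hadd (θ * g) :=
    lt_of_le_of_ne hle fun h => hnot (by rw [h]; exact hθeW)
  have hlt' : Nat.card (WW ρ hadd 1 ⊓ WW ρ hadd g : AddSubgroup (K × K × K)) <
      Nat.card (WW ρ hadd g ⊓ WW ρ hadd (θ * g) : AddSubgroup (K × K × K)) := by
    refine lt_of_le_of_ne (Cfsg.Agent.H263.FF.Basic.card_le hle) fun h => ?_
    have h11 : Nat.card (WW ρ hadd g ⊓ WW ρ hadd (θ * g) : AddSubgroup (K × K × K)) ≤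
        Nat.card (WW ρ hadd 1 ⊓ WW ρ hadd g : AddSubgroup (K × K × K)) := h.ge
    exact hlt.ne (AddSubgroup.eq_of_le_of_card_ge hle h11)
  have := hmax _ hne'
  rw [hcard] at this
  omega

/-- `K_u` -/
def KU (K : Type*) [Field K] : AddSubgroup (K × K × K) where
  carrier := {v | v.1 = 0 ∧ v.2.2 = 0}
  zero_mem' := ⟨rfl, rfl⟩
  add_mem' := by
    rintro a b ⟨ha, ha'⟩ ⟨hb, hb'⟩
    refine ⟨?_, ?_⟩
    · show a.1 + b.1 = 0
      rw [ha, hb, add_zero]
    · show a.2.2 + b.2.2 = 0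
      rw [ha', hb', add_zero]
  neg_mem' := by
    rintro a ⟨ha, ha'⟩
    refine ⟨?_, ?_⟩
    · show -a.1 = 0
      rw [ha, neg_zero]
    · show -a.2.2 = 0
      rw [ha', neg_zero]

/-- `K_z` -/
def KZ (K : Type*) [Field K] : AddSubgroup (K × K × K) where
  carrier := {v | v.1 = 0 ∧ v.2.1 = 0}
  zero_mem' := ⟨rfl, rfl⟩
  add_mem' := by
    rintro a b ⟨ha, ha'⟩ ⟨hb, hb'⟩
    refine ⟨?_, ?_⟩
    · show a.1 + b.1 = 0
      rw [ha, hb, add_zero]
    · show a.2.1 + b.2.1 = 0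
      rw [ha', hb', add_zero]
  neg_mem' := by
    rintro a ⟨ha, ha'⟩
    refine ⟨?_, ?_⟩
    · show -a.1 = 0
      rw [ha, neg_zero]
    · show -a.2.1 = 0
      rw [ha', neg_zero]

theorem card_KU : Nat.card (KU K) = Nat.card K := by
  refine Nat.card_congr
    { toFun := fun v => v.1.2.1
      invFun := fun x => ⟨(0, x, 0), rfl, rfl⟩
      left_inv := fun v => ?_
      right_inv := fun x => rfl }
  obtain ⟨⟨a, x, y⟩, h1, h2⟩ := v
  have h1' : a = 0 := h1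
  have h2' : y = 0 := h2
  subst h1' h2'
  rfl

theorem card_KZ : Nat.card (KZ K) = Nat.card K := by
  refine Nat.card_congr
    { toFun := fun v => v.1.2.2
      invFun := fun x => ⟨(0, 0, x), rfl, rfl⟩
      left_inv := fun v => ?_
      right_inv := fun x => rfl }
  obtain ⟨⟨a, x, y⟩, h1, h2⟩ := v
  have h1' : a = 0 := h1
  have h2' : x = 0 := h2
  subst h1' h2'
  rfl

/-- an additive subgroup of `Z` of order `q` without elements with both coordinates non-zero -/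
theorem eq_KU_or {D : AddSubgroup (K × K × K)} (hD : ∀ v ∈ D, v.1 = 0) (hc : Nat.card D = Nat.card K)
    (h : ∀ v ∈ D, v.2.1 = 0 ∨ v.2.2 = 0) : D = KU K ∨ D = KZ K := by
  by_cases h1 : D ≤ KU K
  · exact Or.inl (AddSubgroup.eq_of_le_of_card_ge h1 (by rw [card_KU, hc]))
  · right
    refine AddSubgroup.eq_of_le_of_card_ge ?_ (by rw [card_KZ, hc])
    intro b hb
    obtain ⟨a, ha, ha'⟩ := SetLike.not_le_iff_exists.1 h1
    have ha2 : a.2.2 ≠ 0 := fun h => ha' ⟨hD a ha, h⟩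
    have ha1 : a.2.1 = 0 := (h a ha).resolve_right ha2
    refine ⟨hD b hb, ?_⟩
    by_contra hb1
    have hb2 : b.2.2 = 0 := (h b hb).resolve_left hb1
    rcases h (a + b) (add_mem ha hb) with h3 | h3
    · have h4 : a.2.1 + b.2.1 = 0 := h3
      rw [ha1, zero_add] at h4
      exact hb1 h4
    · have h4 : a.2.2 + b.2.2 = 0 := h3
      rw [hb2, add_zero] at h4
      exact ha2 h4

include hρ hadd hP1 hP2 in
/-- **Task S5260-F.** -/
theorem two_lemma (Q : AddSubgroup (K × K × K)) (hQ : Q ≠ ⊥) (hQZ : ∀ v ∈ Q, v.1 = 0)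
    (hQG : ∀ g, ∀ v ∈ Q, ρ g v ∈ Q) (hnn : ∃ g u z, (ρ g (0, u, z)).1 ≠ 0) :
    (∀ g z, ∃ z', ρ g (0, 0, z) = (0, 0, z')) ∨ (∀ g u, ∃ u', ρ g (0, u, 0) = (0, u', 0)) := by
  obtain ⟨g₀, u₀, z₀, h₀⟩ := hnn
  have hne₀ : WW ρ hadd g₀⁻¹ ≠ WW ρ hadd 1 := by
    intro h
    apply h₀
    have h1 : ((0 : K), u₀, z₀) ∈ WW ρ hadd 1 := (mem_WW_one ρ hadd).2 rfl
    rw [← h, mem_WW, inv_inv] at h1
    exact h1
  let S : Set G := {g | WW ρ hadd g ≠ WW ρ hadd 1}
  obtain ⟨g₁, hg₁, hmax⟩ := Set.exists_max_image S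
    (fun g => Nat.card (WW ρ hadd 1 ⊓ WW ρ hadd g : AddSubgroup (K × K × K))) (Set.toFinite S) ⟨_, hne₀⟩
  have hq : 0 < Nat.card K := Nat.card_pos
  -- every `g Z ≠ Z` contains a vector outside `Z`
  have hout : ∀ g, WW ρ hadd g ≠ WW ρ hadd 1 → ∃ e ∈ WW ρ hadd g, e.1 ≠ 0 := by
    intro g hg
    by_contra hcon
    push Not at hcon
    apply hg
    refine AddSubgroup.eq_of_le_of_card_ge (fun v hv => (mem_WW_one ρ hadd).2 (hcon v hv)) ?_
    rw [card_WW, card_WW]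
  -- the maximal order is `q`
  have hle₁ : Nat.card (WW ρ hadd 1 ⊓ WW ρ hadd g₁ : AddSubgroup (K × K × K)) ≤ Nat.card K := by
    obtain ⟨e, he, he1⟩ := hout g₁ hg₁
    have h1 := Cfsg.Agent.H263.FF.Basic.card_sup_inf (WW ρ hadd 1 ⊓ WW ρ hadd g₁) (RR e.1)
    have h2 : (WW ρ hadd 1 ⊓ WW ρ hadd g₁) ⊓ RR e.1 = ⊥ := by
      rw [eq_bot_iff]
      intro v hv
      obtain ⟨hv1, hv2⟩ := AddSubgroup.mem_inf.1 hv
      exact AddSubgroup.mem_bot.2 (inf_RR ρ hρ hadd P hP1 hP2 hg₁ (fun h hh => hmax h hh) he he1 hv1 hv2)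
    have h3 : Nat.card ((WW ρ hadd 1 ⊓ WW ρ hadd g₁) ⊔ RR e.1 : AddSubgroup (K × K × K)) ≤
        Nat.card K * Nat.card K := by
      rw [← card_WW ρ hadd 1]
      refine Cfsg.Agent.H263.FF.Basic.card_le (sup_le inf_le_left fun v hv => ?_)
      exact (mem_WW_one ρ hadd).2 hv.1
    rw [h2, AddSubgroup.card_bot, mul_one, card_RR he1] at h1
    rw [h1] at h3
    exact Nat.le_of_mul_le_mul_right h3 hq
  have hcard : ∀ g, WW ρ hadd g ≠ WW ρ hadd 1 →
      Nat.card (WW ρ hadd 1 ⊓ WW ρ hadd g : AddSubgroup (K × K × K)) = Nat.card K := fun g hg =>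
    le_antisymm ((hmax g hg).trans hle₁) (card_inf_ge ρ hadd g)
  -- each of the intersections is `K_u` or `K_z`
  have hD : ∀ g, WW ρ hadd g ≠ WW ρ hadd 1 →
      WW ρ hadd 1 ⊓ WW ρ hadd g = KU K ∨ WW ρ hadd 1 ⊓ WW ρ hadd g = KZ K := by
    intro g hg
    refine eq_KU_or (fun v hv => (mem_WW_one ρ hadd).1 (AddSubgroup.mem_inf.1 hv).1) (hcard g hg) ?_
    intro v hv
    by_contra hcon
    push Not at hcon
    obtain ⟨hx, hy⟩ := hcon
    -- the sum is everything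
    have h1 := Cfsg.Agent.H263.FF.Basic.card_sup_inf (WW ρ hadd 1) (WW ρ hadd g)
    rw [card_WW, card_WW, hcard g hg] at h1
    have h2 : (WW ρ hadd 1 ⊔ WW ρ hadd g : AddSubgroup (K × K × K)) = ⊤ := by
      apply AddSubgroup.eq_top_of_card_eq
      rw [card_all]
      have h3 : Nat.card (WW ρ hadd 1 ⊔ WW ρ hadd g : AddSubgroup (K × K × K)) * Nat.card K =
          Nat.card K * (Nat.card K * Nat.card K) * Nat.card K := by rw [h1]; ring
      exact Nat.eq_of_mul_eq_mul_right hq h3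
    have h4 : ((v.2.1 ^ 2 / v.2.2 : K), (0 : K), (0 : K)) ∈ (WW ρ hadd 1 ⊔ WW ρ hadd g : AddSubgroup (K × K × K)) := by
      rw [h2]; exact AddSubgroup.mem_top _
    obtain ⟨a, ha, e, he, hae⟩ := AddSubgroup.mem_sup.1 h4
    have ha1 : a.1 = 0 := (mem_WW_one ρ hadd).1 ha
    have he1 : e.1 = v.2.1 ^ 2 / v.2.2 := by
      have h5 : a.1 + e.1 = v.2.1 ^ 2 / v.2.2 := congrArg Prod.fst hae
      rwa [ha1, zero_add] at h5
    have he0 : e.1 ≠ 0 := by
      rw [he1]; exact div_ne_zero (pow_ne_zero 2 hx) hy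
    have hmax' : ∀ h : G, WW ρ hadd h ≠ WW ρ hadd 1 →
        Nat.card (WW ρ hadd 1 ⊓ WW ρ hadd h : AddSubgroup (K × K × K)) ≤
          Nat.card (WW ρ hadd 1 ⊓ WW ρ hadd g : AddSubgroup (K × K × K)) := by
      intro h hh
      rw [hcard g hg, hcard h hh]
    have h6 := inf_RR ρ hρ hadd P hP1 hP2 hg hmax' he he0 hv
      ⟨(mem_WW_one ρ hadd).1 (AddSubgroup.mem_inf.1 hv).1, by rw [he1]; field_simp⟩
    rw [h6] at hx
    exact hx rfl
  -- a non-zero vector of `Q`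
  obtain ⟨w, hw, hw0⟩ : ∃ w ∈ Q, w ≠ 0 := by
    obtain ⟨a, ha⟩ := AddSubgroup.ne_bot_iff_exists_ne_zero.1 hQ
    exact ⟨a.1, a.2, fun h => ha (Subtype.ext h)⟩
  have hwall : ∀ g, w ∈ WW ρ hadd g := fun g => hQZ _ (hQG g⁻¹ w hw)
  -- the intersection is the same for all `g`
  have hinv : ∀ U : AddSubgroup (K × K × K), (∀ g, WW ρ hadd g ≠ WW ρ hadd 1 → WW ρ hadd 1 ⊓ WW ρ hadd g = U) →
      ∀ g, ∀ v ∈ U, ρ g v ∈ U := by
    intro U hU g v hv
    have hUle : ∀ h, U ≤ WW ρ hadd h := by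
      intro h
      by_cases hh : WW ρ hadd h = WW ρ hadd 1
      · rw [hh, ← hU g₁ hg₁]; exact inf_le_left
      · rw [← hU h hh]; exact inf_le_right
    have h1 : ∀ h, ρ g v ∈ WW ρ hadd h := by
      intro h
      have h2 : h = g * (g⁻¹ * h) := by group
      rw [h2, apply_mem_WW]
      exact hUle _ hv
    rw [← hU g₁ hg₁]
    exact AddSubgroup.mem_inf.2 ⟨h1 1, h1 g₁⟩
  have hdisj : ¬ (w ∈ KU K ∧ w ∈ KZ K) := by
    rintro ⟨⟨h1, h2⟩, ⟨-, h3⟩⟩
    apply hw0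
    exact Prod.ext h1 (Prod.ext h3 h2)
  rcases hD g₁ hg₁ with h1 | h1
  · right
    have hwU : w ∈ KU K := by rw [← h1]; exact AddSubgroup.mem_inf.2 ⟨hwall 1, hwall g₁⟩
    have hU : ∀ g, WW ρ hadd g ≠ WW ρ hadd 1 → WW ρ hadd 1 ⊓ WW ρ hadd g = KU K := by
      intro g hg
      rcases hD g hg with h2 | h2
      · exact h2
      · exact absurd ⟨hwU, by rw [← h2]; exact AddSubgroup.mem_inf.2 ⟨hwall 1, hwall g⟩⟩ hdisj
    intro g u
    obtain ⟨h3, h4⟩ := hinv _ hU g (0, u, 0) ⟨rfl, rfl⟩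
    exact ⟨(ρ g (0, u, 0)).2.1, Prod.ext h3 (Prod.ext rfl h4)⟩
  · left
    have hwU : w ∈ KZ K := by rw [← h1]; exact AddSubgroup.mem_inf.2 ⟨hwall 1, hwall g₁⟩
    have hU : ∀ g, WW ρ hadd g ≠ WW ρ hadd 1 → WW ρ hadd 1 ⊓ WW ρ hadd g = KZ K := by
      intro g hg
      rcases hD g hg with h2 | h2
      · exact absurd ⟨by rw [← h2]; exact AddSubgroup.mem_inf.2 ⟨hwall 1, hwall g⟩, hwU⟩ hdisj
      · exact h2
    intro g z
    obtain ⟨h3, h4⟩ := hinv _ hU g (0, 0, z) ⟨rfl, rfl⟩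
    exact ⟨(ρ g (0, 0, z)).2.2, Prod.ext h3 (Prod.ext h4 rfl)⟩

end

end Cfsg.Agent.H541.TwoLem
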